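import Groth.Agent.FBlowLib.ChartGen
import Groth.Agent.RefRank.FTIdealExtendOn

/-!
# Ideals on an admissible formal blowing-up after twisting by the exceptional ideal
-/

set_option autoImplicit false
set_option backward.isDefEq.respectTransparency false
set_option backward.isDefEq.respectTransparency.types false

universe u

open CategoryTheory CategoryTheory.Limits AlgebraicGeometry TopologicalSpace Opposite

namespace Groth.FBlowLib

variable {R : Type u} [CommRing R] {I : Ideal R} {𝔛 𝔛' : FSch.Sys.{u}} {h : 𝔛.IsFormal} {h' : 𝔛'.IsFormal}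
  {b : 𝔛' ⟶ 𝔛} {J' L : FBlow.IdealSh (𝔛'.Osh h')}

/-- `J' · L ^ k`. -/
noncomputable def iterMul (J' L : FBlow.IdealSh (𝔛'.Osh h')) : ℕ → FBlow.IdealSh (𝔛'.Osh h')
  | 0 => J'
  | k + 1 => FBlow.IdealSh.mul (iterMul J' L k) L

theorem exists_isLevel_iterMul (o : Over 𝔛' I) (hI : I.FG) {n m : ℕ} (hJ : IsLevel n J') (hL : IsLevel m L) (k : ℕ) :
    ∃ N, IsLevel N (iterMul J' L k) ∧
      ∀ D, IsAffineOpen D → (iterMul J' L k).sect D = J'.sect D * L.sect D ^ k := by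
  induction k with
  | zero => exact ⟨n, hJ, fun D _ => by simp [iterMul]⟩
  | succ k ih =>
    obtain ⟨N, hN, hs⟩ := ih
    refine ⟨N + m + 1, hN.mul o hI hL, fun D hD => ?_⟩
    rw [iterMul, sect_mul_eq o hI hN hL hD, hs D hD, pow_succ, mul_assoc]

theorem exists_fg_le_map {A B : Type*} [CommRing A] [CommRing B] (φ : A →+* B) (G : Ideal A) (L : Ideal B)
    (hL : L.FG) (hle : L ≤ G.map φ) : ∃ q : Ideal A, q.FG ∧ q ≤ G ∧ L ≤ q.map φ := by
  classical
  obtain ⟨S, rfl⟩ := hL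
  have : ∀ x : S, ∃ T : Finset A, (T : Set A) ⊆ G ∧ x.1 ∈ (Ideal.span (T : Set A)).map φ := fun x => by
    obtain ⟨T, hT, hxT⟩ := Submodule.mem_span_finite_of_mem_span (hle (Submodule.subset_span x.2))
    obtain ⟨T', hT', rfl⟩ := Finset.subset_set_image_iff.1 hT
    refine ⟨T', hT', ?_⟩
    rw [Ideal.map_span]
    rwa [Finset.coe_image] at hxT
  choose T hT hxT using this
  refine ⟨Ideal.span (Finset.univ.biUnion T : Set A), ⟨_, rfl⟩, Ideal.span_le.2 fun a ha => ?_,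
    Submodule.span_le.2 fun x hx => Ideal.map_mono (Ideal.span_mono fun a ha => ?_) (hxT ⟨x, hx⟩)⟩
  · obtain ⟨x, -, hx⟩ := Finset.mem_biUnion.1 ha
    exact hT x hx
  · exact Finset.mem_biUnion.2 ⟨⟨x, hx⟩, Finset.mem_univ _, ha⟩

variable {U : (𝔛.X 0).Opens} {r : ℕ} {f : Fin (r + 1) → Sec h U} {V : Fin (r + 1) → (𝔛'.X 0).Opens}

/-- Sections of the base which lie in `J'·L^k` on all charts. -/
noncomputable def goodIdeal (hV : BlowCharts h' h b U f V) (J' : FBlow.IdealSh (𝔛'.Osh h')) (k : ℕ) : Ideal (Sec h U) :=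
  ⨅ j, (J'.sect (V j) * Ideal.span {bmap h' h b U (hV.le j) (f j) ^ k}).comap (bmap h' h b U (hV.le j))

set_option maxHeartbeats 600000 in
theorem BlowCharts.exists_lift {n' : ℕ} (hV : BlowCharts h' h b U f V) (hJ' : IsLevel n' J') (i : Fin (r + 1))
    (c : Sec h' (V i)) (hc : c ∈ J'.sect (V i)) :
    ∃ k₀, ∀ k, k₀ ≤ k → ∃ (a : Sec h U) (c' : Sec h' (V i)), a ∈ goodIdeal hV J' k ∧
      prj h' n' (V i) c' = prj h' n' (V i) c ∧
      bmap h' h b U (hV.le i) a = c' * bmap h' h b U (hV.le i) (f i) ^ k := by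
  classical
  obtain ⟨d, a₀, c', ha₀, hcc, hβ⟩ := hV.repr i n' c
  have hc' : c' ∈ J'.sect (V i) :=
    mem_of_comap_map (prj_surjective (hV.affine i) n') _ (hJ'.ker_le _) (hcc ▸ Ideal.mem_map_of_mem _ hc)
  have hpow : ∀ j, ∃ s, ∀ s', s ≤ s' →
      bmap h' h b U (hV.le j) (a₀ * f i ^ s') ∈ J'.sect (V j) * Ideal.span {bmap h' h b U (hV.le j) (f j) ^ (d + s')} := by
    intro j
    set βj := bmap h' h b U (hV.le j)
    obtain ⟨e, he⟩ : ∃ e, βj (f i) = e * βj (f j) := hV.gen j i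
    obtain ⟨q, hq⟩ : ∃ q, βj a₀ = q * βj (f j) ^ d := by
      have h1 : βj a₀ ∈ (Ideal.span (Set.range f) ^ d).map βj := Ideal.mem_map_of_mem _ ha₀
      rw [Ideal.map_pow βj] at h1
      have h2 : (Ideal.span (Set.range f)).map βj ≤ Ideal.span {βj (f j)} := by
        rw [Ideal.map_le_iff_le_comap, Ideal.span_le]
        rintro _ ⟨l, rfl⟩
        obtain ⟨c₁, hc₁⟩ := hV.gen j l
        exact Ideal.mem_span_singleton'.2 ⟨c₁, hc₁.symm⟩
      have h3 := Ideal.pow_right_mono h2 d h1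
      rw [Ideal.span_singleton_pow, Ideal.mem_span_singleton'] at h3
      exact h3.imp fun _ => Eq.symm
    have hW := hV.affine j
    set D := (𝔛'.X 0).basicOpen (prj h' 0 (V j) e)
    have hDaff : IsAffineOpen D := (Groth.AdicLinTop.FormalLevels.isAffineOpen_lvU h' hW 0).basicOpen _
    have hDj : D ≤ V j := ((𝔛'.X 0).basicOpen_le _).trans
      (Groth.AdicLinTop.FormalLevels.toX_preimage_lvU h' 0 (V j)).le
    have hunit := isUnit_rs_of_le_basicOpen hDj e le_rfl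
    have hres : ∀ a, bmap h' h b U (hDj.trans (hV.le j)) a = rs h' hDj (βj a) := fun a =>
      (RingHom.congr_fun (rs_bmap (hV.le j) hDj) a).symm
    have hDi : D ≤ V i := hV.maximal i D (hDj.trans (hV.le j)) hDaff fun l => by
      obtain ⟨el, hel⟩ := hV.gen j l
      obtain ⟨u₁, hu₁⟩ := hunit.exists_left_inv
      refine ⟨rs h' hDj el * u₁, ?_⟩
      rw [hres, hres, hel, he, map_mul, map_mul, mul_assoc, ← mul_assoc u₁, hu₁, one_mul]
    have hresi : ∀ a, bmap h' h b U (hDj.trans (hV.le j)) a = rs h' hDi (bmap h' h b U (hV.le i) a) := fun a =>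
      (RingHom.congr_fun (rs_bmap (hV.le i) hDi) a).symm
    have hDq : rs h' hDj q = rs h' hDi c' * rs h' hDj e ^ d := by
      have hnz : bmap h' h b U (hDj.trans (hV.le j)) (f j) ^ d ∈ nonZeroDivisors (Sec h' D) :=
        pow_mem (hV.nzd j D hDj hDaff) d
      refine (mul_cancel_right_mem_nonZeroDivisors hnz).1 ?_
      have h5 : bmap h' h b U (hDj.trans (hV.le j)) a₀ =
          rs h' hDi c' * bmap h' h b U (hDj.trans (hV.le j)) (f i) ^ d := by
        rw [hresi a₀, hβ, map_mul, map_pow, ← hresi (f i)]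
      rw [hres (f i), he, map_mul, mul_pow, ← hres (f j), hres a₀, hq, map_mul, map_pow, ← hres (f j)] at h5
      rw [h5, mul_assoc]
    have hzD : lrs h' n' hDj (prj h' n' (V j) q) ∈ (J'.sect D).map (prj h' n' D) := by
      rw [← prj_rs]
      exact Ideal.mem_map_of_mem _ (hDq ▸ Ideal.mul_mem_right _ _ (J'.map_mem hDi hc'))
    obtain ⟨s, hs⟩ := exists_pow_lift hJ'.small hW e (z := prj h' n' (V j) q) hzD
    refine ⟨s, fun s' hs' => ?_⟩
    have h1 : e ^ s * q ∈ J'.sect (V j) :=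
      mem_of_comap_map (prj_surjective hW n') _ (hJ'.ker_le _) (by rw [map_mul, map_pow]; exact hs)
    obtain ⟨t, rfl⟩ := Nat.exists_eq_add_of_le hs'
    rw [map_mul, map_pow, hq, he, show q * βj (f j) ^ d * (e * βj (f j)) ^ (s + t) =
      (e ^ t * (e ^ s * q)) * βj (f j) ^ (d + (s + t)) by ring]
    exact Ideal.mul_mem_mul (Ideal.mul_mem_left _ _ h1) (Ideal.mem_span_singleton_self _)
  choose s hs using hpow
  refine ⟨d + Finset.univ.sup s, fun k hk => ⟨a₀ * f i ^ (k - d), c', ?_, hcc, ?_⟩⟩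
  · rw [goodIdeal, Submodule.mem_iInf]
    intro j
    rw [Ideal.mem_comap]
    have h1 := hs j (k - d) ((Finset.le_sup (Finset.mem_univ j)).trans (by omega))
    rwa [Nat.add_sub_cancel' (le_trans (Nat.le_add_right d _) hk)] at h1
  · rw [map_mul, map_pow, hβ, mul_assoc, ← pow_add, Nat.add_sub_cancel' (le_trans (Nat.le_add_right d _) hk)]

theorem BlowCharts.exists_uniform (hV : BlowCharts h' h b U f V) (hI : I.FG) (o : Over 𝔛 I) (hb : FSch.IsAdicHom b)
    {n' : ℕ} (hJ' : IsLevel n' J') :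
    ∃ k₀, ∀ k, k₀ ≤ k → ∀ i, J'.sect (V i) * Ideal.span {bmap h' h b U (hV.le i) (f i) ^ k} ≤
      (goodIdeal hV J' k).map (bmap h' h b U (hV.le i)) := by
  classical
  choose S hS using fun i => hJ'.fg (V i) (hV.affine i)
  have hmem : ∀ i, ∀ c ∈ S i, c ∈ J'.sect (V i) := fun i c hc => hS i ▸ Submodule.subset_span hc
  choose k₀ hk₀ using fun (x : Σ i, {c // c ∈ S i}) => hV.exists_lift hJ' x.1 x.2.1 (hmem _ _ x.2.2)
  refine ⟨Finset.univ.sup k₀, fun k hk i => Ideal.mul_le.2 fun c hc z hz => ?_⟩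
  obtain ⟨z', rfl⟩ := Ideal.mem_span_singleton'.1 hz
  set β := bmap h' h b U (hV.le i)
  suffices hc' : c * β (f i) ^ k ∈ (goodIdeal hV J' k).map β by
    rw [mul_left_comm]; exact Ideal.mul_mem_left _ _ hc'
  have hker : ∀ x ∈ RingHom.ker (prj h' n' (V i)), x * β (f i) ^ k ∈ (goodIdeal hV J' k).map β := by
    intro x hx
    rw [(o.comp h b hb).ker_prj hI (hV.affine i), ← bmap_φ o hb (hV.le i), ← Ideal.map_map] at hx
    refine Submodule.span_induction (p := fun y _ => y * β (f i) ^ k ∈ (goodIdeal hV J' k).map β) ?_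
      (by simp) (fun y y' _ _ h1 h2 => by rw [add_mul]; exact Ideal.add_mem _ h1 h2)
      (fun t y _ h1 => by rw [smul_eq_mul, mul_assoc]; exact Ideal.mul_mem_left _ _ h1) hx
    rintro _ ⟨θ, hθ, rfl⟩
    rw [← map_pow, ← map_mul]
    refine Ideal.mem_map_of_mem _ ?_
    rw [goodIdeal, Submodule.mem_iInf]
    intro j
    obtain ⟨e, he⟩ := hV.gen j i
    rw [Ideal.mem_comap, map_mul, map_pow, he, mul_pow, ← mul_assoc]
    refine Ideal.mul_mem_mul (Ideal.mul_mem_right _ _ (hJ'.ker_le _ ?_)) (Ideal.mem_span_singleton_self _)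
    rw [(o.comp h b hb).ker_prj hI (hV.affine j), ← bmap_φ o hb (hV.le j), ← Ideal.map_map]
    exact Ideal.mem_map_of_mem _ hθ
  rw [← hS i] at hc
  refine Submodule.span_induction (p := fun y _ => y * β (f i) ^ k ∈ (goodIdeal hV J' k).map β) ?_
    (by simp) (fun y y' _ _ h1 h2 => by rw [add_mul]; exact Ideal.add_mem _ h1 h2)
    (fun t y _ h1 => by rw [smul_eq_mul, mul_assoc]; exact Ideal.mul_mem_left _ _ h1) hc
  intro y hy
  obtain ⟨a, c', ha, hcc, hβ⟩ := hk₀ ⟨i, y, hy⟩ k ((Finset.le_sup (Finset.mem_univ _)).trans hk)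
  rw [show y * β (f i) ^ k = c' * β (f i) ^ k + (y - c') * β (f i) ^ k by ring]
  refine Ideal.add_mem _ (hβ ▸ Ideal.mem_map_of_mem _ ha) (hker _ ?_)
  rw [RingHom.mem_ker, map_sub, hcc, sub_self]

/-- A section lies in the push-forward of ideal data if it does so on the source. -/
theorem mem_ideal_map_of_memData {X Y : Scheme.{u}} (g : X ⟶ Y) [QuasiCompact g] (𝔐 : X.IdealSheafData)
    (W : Y.affineOpens) (c : Γ(Y, W.1)) (hc : FBlow.MemData 𝔐 (g ⁻¹ᵁ W.1) (g.app W.1 c)) :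
    c ∈ (𝔐.map g).ideal W := by
  show c ∈ (𝔐.subschemeι ≫ g).ker.ideal W
  rw [Scheme.Hom.ker_apply, RingHom.mem_ker]
  show 𝔐.subschemeι.app (g ⁻¹ᵁ W.1) (g.app W.1 c) = 0
  choose V e hxV hV using hc
  refine TopCat.Sheaf.eq_of_locally_eq' 𝔐.subscheme.sheaf
    (fun x : ↥(g ⁻¹ᵁ W.1) => 𝔐.subschemeι ⁻¹ᵁ (V x.1 x.2).1) _
    (fun x => homOfLE (Scheme.Hom.preimage_mono _ (e x.1 x.2))) (fun z hz => ?_) _ 0 fun x => ?_
  · exact Opens.mem_iSup.mpr ⟨⟨_, hz⟩, hxV _ hz⟩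
  · rw [map_zero]
    have h1 : (g.app W.1 c |> fun z => X.presheaf.map (homOfLE (e x.1 x.2)).op z) ∈
        RingHom.ker (𝔐.subschemeι.app (V x.1 x.2).1).hom := by
      rw [← Scheme.Hom.ker_apply, Scheme.IdealSheafData.ker_subschemeι]
      exact hV x.1 x.2
    rw [RingHom.mem_ker] at h1
    refine Eq.trans ?_ h1
    exact (congr($(𝔐.subschemeι.naturality (homOfLE (e x.1 x.2)).op) (g.app W.1 c))).symm

theorem ideal_finset_sup {X : Scheme.{u}} {ι : Type*} (t : Finset ι) (ℬ : ι → X.IdealSheafData)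
    (A : X.affineOpens) : (t.sup ℬ).ideal A = t.sup fun x => (ℬ x).ideal A := by
  classical
  induction t using Finset.induction_on with
  | empty => rfl
  | @insert x s _ ih => rw [Finset.sup_insert, Finset.sup_insert, Scheme.IdealSheafData.ideal_sup, Pi.sup_apply, ih]

set_option maxHeartbeats 800000 in
/-- On a quasi-compact base every coherent open ideal upstairs becomes, after twisting by a power of the
exceptional ideal, the inverse image of a coherent open ideal. -/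
theorem exists_idealMap_eq (hR : AdicRing.IsBase R I) (p : 𝔛 ⟶ FSch.spf R I) (hp : FSch.IsAdicHom p)
    (hfp : ∀ n, LocallyOfFinitePresentation ((p : FSch.Hom 𝔛 (FSch.spf R I)).app n))
    (htf : ∀ (U : (𝔛.X 0).Opens) (s : (𝔛.Osh h).obj.obj (Opposite.op U)),
      (∀ a ∈ (FBlow.IdealSh.ker (𝔛.OshProj h 0)).sect U, a * s = 0) → s = 0)
    [CompactSpace (𝔛.X 0)] [QuasiSeparatedSpace (𝔛.X 0)]
    {J : FBlow.IdealSh (𝔛.Osh h)} (hJ : FBlow.IsCohOpen 𝔛 h J) (hb : FBlow.IsAdmBlowUp b h' h J)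
    (hJ' : FBlow.IsCohOpen 𝔛' h' J') :
    ∃ (k : ℕ) (K : FBlow.IdealSh (𝔛.Osh h)), FBlow.IsCohOpen 𝔛 h K ∧
      FBlow.idealMap b h' h K = iterMul J' (FBlow.idealMap b h' h J) k ∧ CompactSpace (𝔛'.X 0) := by
  classical
  have hI := Groth.TopFinType.fg_of_isBase hR
  set o := baseOver p hp
  set o' := o.comp h b hb.1
  set L := FBlow.idealMap b h' h J
  choose U hU n₁ 𝔞 hxU _ h𝔞 hpow hJU using fun x : 𝔛.X 0 => exists_affine_centre o hI hJ (x := x) (O := ⊤) trivial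
  obtain ⟨t, ht⟩ := (isCompact_univ (X := 𝔛.X 0)).elim_finite_subcover (fun x => (U x : Set (𝔛.X 0)))
    (fun x => (U x).isOpen) (fun x _ => Set.mem_iUnion.2 ⟨x, hxU x⟩)
  choose r g hg using fun x => Submodule.fg_iff_exists_fin_generating_family.1 (h𝔞 x)
  let f : ∀ x, Fin (r x + 1) → Sec h (U x) := fun x => Fin.cons 0 (g x)
  have hf : ∀ x, Ideal.span (Set.range (f x)) = 𝔞 x := fun x => by
    rw [← hg x, Fin.range_cons, Ideal.span_insert_zero]
  choose V hV using fun x => exists_blowCharts hR p hp hfp htf hb (hU x) (n₁ x) (f x) (hf x ▸ hpow x)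
    (fun D e hD => hf x ▸ hJU x D e hD)
  set j := (b : FSch.Hom 𝔛' 𝔛).app 0
  have hcov : ∀ y : 𝔛'.X 0, ∃ x ∈ t, ∃ i, y ∈ V x i := fun y => by
    obtain ⟨x, hx, hyx⟩ := Set.mem_iUnion₂.1 (ht (Set.mem_univ (j.base y)))
    obtain ⟨i, hi⟩ := (hV x).cover y hyx
    exact ⟨x, hx, i, hi⟩
  have hc' : CompactSpace (𝔛'.X 0) := ⟨by
    rw [show (Set.univ : Set (𝔛'.X 0)) = ⋃ x ∈ t, ⋃ i, (V x i : Set (𝔛'.X 0)) from
      (Set.eq_univ_of_forall fun y => by
        obtain ⟨x, hx, i, hi⟩ := hcov y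
        exact Set.mem_iUnion₂.2 ⟨x, hx, Set.mem_iUnion.2 ⟨i, hi⟩⟩).symm]
    exact t.isCompact_biUnion fun x _ => isCompact_iUnion fun i => ((hV x).affine i).isCompact⟩
  obtain ⟨n', hn'⟩ := exists_isLevel o' hI hJ'
  obtain ⟨m, hm⟩ := exists_isLevel o' hI (isCohOpen_idealMap (hY := h') o hI b hb.1 hJ)
  choose k₀ hk₀ using fun x => (hV x).exists_uniform hI o hb.1 hn'
  set k := t.sup k₀
  obtain ⟨N, hN, hsect⟩ := exists_isLevel_iterMul o' hI hn' hm k
  set T := iterMul J' L k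
  have hT : ∀ x i (D : (𝔛'.X 0).Opens) (e : D ≤ V x i), IsAffineOpen D → T.sect D =
      (J'.sect (V x i) * Ideal.span {bmap h' h b (U x) ((hV x).le i) (f x i) ^ k}).map (rs h' e) := by
    intro x i D e hD
    rw [hsect D hD, (hV x).sect_eq J (fun E eE hE => hf x ▸ hJU x E eE hE) i D e hD, Ideal.span_singleton_pow,
      hn'.map_eq (V x i) D e ((hV x).affine i) hD, Ideal.map_mul, Ideal.map_span, Set.image_singleton,
      ← rs_bmap ((hV x).le i) e, RingHom.comp_apply, map_pow]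
  have hqex : ∀ x, ∃ q : Ideal (Sec h (U x)), q.FG ∧ q ≤ goodIdeal (hV x) J' k ∧
      (x ∈ t → ∀ i, J'.sect (V x i) * Ideal.span {bmap h' h b (U x) ((hV x).le i) (f x i) ^ k} ≤
        q.map (bmap h' h b (U x) ((hV x).le i))) := by
    intro x
    by_cases hx : x ∈ t
    · choose q hq1 hq2 hq3 using fun i => exists_fg_le_map (bmap h' h b (U x) ((hV x).le i)) _ _
        (Submodule.FG.mul (hn'.fg (V x i) ((hV x).affine i)) (Submodule.fg_span_singleton _))
        (hk₀ x k (Finset.le_sup hx) i)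
      refine ⟨Finset.univ.sup q, Submodule.fg_finset_sup _ q fun i _ => hq1 i, Finset.sup_le fun i _ => hq2 i,
        fun _ i => (hq3 i).trans (Ideal.map_mono (Finset.le_sup (Finset.mem_univ i)))⟩
    · exact ⟨⊥, Submodule.fg_bot, bot_le, fun hh => absurd hh hx⟩
  choose q hq hqG hqV using hqex
  have hqT : ∀ x, ∀ a ∈ q x, shp h' h b (U x) a ∈ T.sect (j ⁻¹ᵁ U x) := by
    intro x a ha
    refine T.mem_of_local fun y hy => ?_
    obtain ⟨i, hi⟩ := (hV x).cover y hy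
    refine ⟨V x i, (hV x).le i, hi, ?_⟩
    have h1 := hqG x ha
    rw [goodIdeal, Submodule.mem_iInf] at h1
    show bmap h' h b (U x) ((hV x).le i) a ∈ _
    rw [hT x i _ le_rfl ((hV x).affine i),
      show rs h' (le_refl (V x i)) = RingHom.id _ from RingHom.ext fun a => rs_self _ a, Ideal.map_id]
    exact h1 i
  have hqs : QuasiSeparatedSpace (𝔛.X N) := (𝔛.levelHomeo h N).symm.isOpenEmbedding.quasiSeparatedSpace
  have hcN : CompactSpace (𝔛.X N) := (𝔛.levelHomeo h N).compactSpace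
  have hcN' : CompactSpace (𝔛'.X N) := (𝔛'.levelHomeo h' N).compactSpace
  set bN := (b : FSch.Hom 𝔛' 𝔛).app N
  have : QuasiCompact bN := quasiCompact_of_compactSpace bN
  set 𝔐 := levelData hN.small
  let A₀ : 𝔛.X 0 → (𝔛.X N).affineOpens := fun x =>
    ⟨_, Groth.AdicLinTop.FormalLevels.isAffineOpen_lvU h (hU x) N⟩
  have hqN : ∀ x, (q x).map (prj h N (U x)) ≤ (𝔐.map bN).ideal (A₀ x) := fun x => by
    rw [Ideal.map_le_iff_le_comap]
    intro a ha
    refine mem_ideal_map_of_memData bN 𝔐 (A₀ x) _ ?_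
    have h1 := hqT x a ha
    rw [sect_eq_ofLevel_levelData hN.small, FBlow.mem_ofLevel_iff] at h1
    change FBlow.MemData 𝔐 _ (prj h' N _ (shp h' h b (U x) a)) at h1
    rw [prj_shp, FSch.Hom.levelPush_app] at h1
    have h2 := FBlow.memData_res 𝔐 (FSch.Hom.lvU_preimage b h' h N (U x)).le h1
    refine (congrArg (FBlow.MemData 𝔐 _) ?_).mp h2
    exact (congr($(Scheme.Hom.appLE_map bN _ _) (prj h N (U x) a))).trans
      (congr($(Scheme.Hom.appLE_eq_app bN) (prj h N (U x) a)))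
  choose ℬ hℬle hℬft hℬeq using fun x => Groth.RefRank.exists_ftIdeal_eq_on
    (𝔐.map bN ⊓ (Groth.FlatMorOne.exists_idealSheaf_of_ideal (A₀ x) ((q x).map (prj h N (U x)))).choose) {A₀ x}
    (fun A hA => by
      rw [Finset.mem_singleton] at hA
      subst hA
      rw [Scheme.IdealSheafData.ideal_inf, Pi.inf_apply,
        (Groth.FlatMorOne.exists_idealSheaf_of_ideal (A₀ x) _).choose_spec.1, inf_eq_right.2 (hqN x)]
      exact (hq x).map _)
  refine ⟨k, FBlow.ofLevel 𝔛 h N (t.sup ℬ), fun _ => ⟨⊤, trivial, N, t.sup ℬ, fun A => ?_, fun _ _ => rfl⟩,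
    idealSh_eq_of_le (idealMap_le fun W a ha => ?_) fun W s hs => ?_, hc'⟩
  · rw [ideal_finset_sup]
    exact Submodule.fg_finset_sup t _ fun x _ => hℬft x A
  · rw [FBlow.mem_ofLevel_iff] at ha
    rw [sect_eq_ofLevel_levelData hN.small, FBlow.mem_ofLevel_iff]
    show FBlow.MemData 𝔐 _ (prj h' N _ (shp h' h b W a))
    rw [prj_shp, FSch.Hom.levelPush_app]
    have h1 : (t.sup ℬ).comap bN ≤ 𝔐 := (Scheme.IdealSheafData.le_map_iff_comap_le).1
      (Finset.sup_le fun x _ => (hℬle x).trans inf_le_left)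
    exact fun y hy => (mem_ofData_comap bN _ _ ha y hy).imp fun V ⟨e, hy, hV⟩ => ⟨e, hy, h1 V hV⟩
  · refine (FBlow.idealMap b h' h _).mem_of_local fun y hy => ?_
    obtain ⟨x, hx, i, hi⟩ := hcov y
    obtain ⟨_, ⟨D, hD, rfl⟩, hyD, hle⟩ := (𝔛'.X 0).isBasis_affineOpens.exists_subset_of_mem_open
      (show y ∈ W ⊓ V x i from ⟨hy, hi⟩) (W ⊓ V x i).isOpen
    have hDW : D ≤ W := fun z hz => (hle hz).1
    have hDV : D ≤ V x i := fun z hz => (hle hz).2
    refine ⟨D, hDW, hyD, ?_⟩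
    have h1 := T.map_mem hDW hs
    rw [hT x i D hDV hD] at h1
    have h2 := Ideal.map_mono (hqV x hx i) h1
    rw [Ideal.map_map, rs_bmap] at h2
    refine Ideal.map_le_iff_le_comap.2 (fun a ha => ?_) h2
    show rs h' _ (shp h' h b (U x) a) ∈ (FBlow.idealMap b h' h _).sect D
    refine mem_idealMap ?_ _
    rw [FBlow.mem_ofLevel_iff]
    intro z hz
    refine ⟨A₀ x, le_rfl, hz, ?_⟩
    erw [FBlow.IdealSh.map_id_apply (O := (𝔛.X N).sheaf) le_rfl]
    have h3 : prj h N (U x) a ∈ (ℬ x).ideal (A₀ x) := by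
      rw [hℬeq x (A₀ x) (Finset.mem_singleton_self _), Scheme.IdealSheafData.ideal_inf, Pi.inf_apply,
        (Groth.FlatMorOne.exists_idealSheaf_of_ideal (A₀ x) _).choose_spec.1, inf_eq_right.2 (hqN x)]
      exact Ideal.mem_map_of_mem _ ha
    rw [ideal_finset_sup]
    exact (Finset.le_sup (f := fun x' => (ℬ x').ideal (A₀ x)) hx) h3

/-- A blowing-up is also the blowing-up of the product with an invertible ideal. -/
theorem isAdmBlowUp_mul_invertible {𝔛'' : FSch.Sys.{u}} {h'' : 𝔛''.IsFormal} {b' : 𝔛'' ⟶ 𝔛'}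
    {T L : FBlow.IdealSh (𝔛'.Osh h')} (hb' : FBlow.IsAdmBlowUp b' h'' h' T)
    (hL : (FBlow.idealMap b' h'' h' L).IsInvertible) : FBlow.IsAdmBlowUp b' h'' h' (FBlow.IdealSh.mul T L) := by
  refine ⟨hb'.1, by rw [idealMap_mul]; exact isInvertible_mul hb'.2.1 hL, fun 𝔜 hY g hg hinv => ?_⟩
  rw [idealMap_mul] at hinv
  exact hb'.2.2 𝔜 hY g hg (isInvertible_left_of_mul hinv)

theorem isAdmBlowUp_iterMul {𝔛'' : FSch.Sys.{u}} {h'' : 𝔛''.IsFormal} {b' : 𝔛'' ⟶ 𝔛'}
    (hb' : FBlow.IsAdmBlowUp b' h'' h' J') (hL : (FBlow.idealMap b' h'' h' L).IsInvertible) (k : ℕ) :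
    FBlow.IsAdmBlowUp b' h'' h' (iterMul J' L k) := by
  induction k with
  | zero => exact hb'
  | succ k ih => exact isAdmBlowUp_mul_invertible ih hL

end Groth.FBlowLib
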