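import Groth.Agent.FBlowLib.Functorial

/-!
# Absence of torsion for closed formal subsystems of a spectrum
-/

set_option autoImplicit false
set_option backward.isDefEq.respectTransparency false
set_option backward.isDefEq.respectTransparency.types false

universe u

open CategoryTheory CategoryTheory.Limits AlgebraicGeometry TopologicalSpace Opposite
open Groth.BlowUpBasics (sheafOf phi)

namespace Groth.FBlowLib

variable {C : Type u} [CommRing C]

/-- Sections of a closed subscheme of a spectrum over the preimage of a basic open. -/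
theorem closed_basicOpen_sections {X : Scheme.{u}} (e : X ⟶ Spec (CommRingCat.of C)) [IsClosedImmersion e]
    {J : Ideal C} (hker : e.ker = sheafOf J) (c : C) (V : X.Opens)
    (hV : V = e ⁻¹ᵁ (PrimeSpectrum.basicOpen c : (Spec (CommRingCat.of C)).Opens)) :
    IsAffineOpen V ∧ IsUnit (phi e V c) ∧ (∀ t : Γ(X, V), ∃ (l : ℕ) (x : C), phi e V c ^ l * t = phi e V x) ∧
      ∀ y : C, phi e V y = 0 → ∃ l : ℕ, c ^ l * y ∈ J := by
  have : IsAffine X := isAffine_of_isAffineHom e
  have htop : IsAffineOpen (⊤ : X.Opens) := isAffineOpen_top X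
  obtain ⟨_, hs⟩ := IsClosedImmersion.isAffine_surjective_of_isAffine (f := e)
  have hphi : phi e (⊤ : X.Opens) = e.appTop.hom.comp (Scheme.ΓSpecIso (CommRingCat.of C)).inv.hom := by
    rw [phi, Scheme.Hom.appLE]
    erw [CategoryTheory.Functor.map_id, Category.comp_id]
    exact CommRingCat.hom_comp _ _
  have hsurj : Function.Surjective (phi e (⊤ : X.Opens)) := by
    rw [hphi]
    exact hs.comp (ConcreteCategory.bijective_of_isIso (Scheme.ΓSpecIso (CommRingCat.of C)).inv).2
  have hkerTop : RingHom.ker (phi e (⊤ : X.Opens)) = J := by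
    have h1 : RingHom.ker e.appTop.hom = J.map (Scheme.ΓSpecIso (CommRingCat.of C)).inv.hom := by
      rw [← Groth.BlowUpBasics.sheafOf_ideal_top, ← hker,
        Scheme.Hom.ker_apply e ⟨⊤, isAffineOpen_top _⟩]
    rw [hphi, ← RingHom.comap_ker, h1,
      Ideal.comap_map_of_bijective _ (ConcreteCategory.bijective_of_isIso (Scheme.ΓSpecIso (CommRingCat.of C)).inv)]
  set f := phi e (⊤ : X.Opens) c with hf
  have hVf : V = X.basicOpen f := by
    rw [hV, hf, hphi, RingHom.comp_apply]
    erw [← Scheme.preimage_basicOpen_top, basicOpen_eq_of_affine]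
  subst hVf
  haveI := htop.isLocalization_basicOpen f
  have hres : ∀ y : C, phi e (X.basicOpen f) y = algebraMap Γ(X, ⊤) Γ(X, X.basicOpen f) (phi e ⊤ y) := fun y => by
    rw [Groth.BlowUpBasics.phi_restrict e (X.basicOpen_le f), RingHom.comp_apply]
    rfl
  refine ⟨htop.basicOpen f, ?_, fun t => ?_, fun y hy => ?_⟩
  · rw [hres]
    exact IsLocalization.Away.algebraMap_isUnit f
  · obtain ⟨l, a, ha⟩ := IsLocalization.Away.surj f t
    obtain ⟨x, rfl⟩ := hsurj a
    exact ⟨l, x, by rw [hres, hres, ← ha, mul_comm]⟩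
  · rw [hres, IsLocalization.map_eq_zero_iff (Submonoid.powers f)] at hy
    obtain ⟨⟨_, l, rfl⟩, hl⟩ := hy
    refine ⟨l, ?_⟩
    rw [← hkerTop, RingHom.mem_ker, map_mul, map_pow]
    exact hl

variable {K : Ideal C} {𝔜 : FSch.Sys.{u}}

/-- A closed formal subsystem of a spectrum has no torsion when the ring satisfies Artin–Rees for the torsion. -/
theorem Over.eq_zero_of_mul_eq_zero (o : Over 𝔜 K) (hY : 𝔜.IsFormal) (hc : ∀ n, IsClosedImmersion (o.π n))
    (hcker : ∀ n, (o.π n).ker = sheafOf (K ^ (n + 1))) (hK : K.FG) {n₀ : ℕ}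
    (hAR : ∀ (m : ℕ) (x : C), (∀ a ∈ K, a * x ∈ K ^ (m + n₀)) → x ∈ K ^ m)
    {U : (𝔜.X 0).Opens} (s : Sec hY U) (hs : ∀ a ∈ K, o.φ hY U a * s = 0) : s = 0 := by
  have hloc : ∀ y ∈ U, ∃ (V : (𝔜.X 0).Opens) (i : V ≤ U), y ∈ V ∧ rs hY i s = 0 := by
    intro y hy
    have := hc 0
    obtain ⟨O, hO, hOU⟩ := (o.π 0).isClosedEmbedding.toIsInducing.isOpen_iff.1 U.isOpen
    obtain ⟨_, ⟨c, rfl⟩, hyc, hcO⟩ := PrimeSpectrum.isTopologicalBasis_basic_opens.exists_subset_of_mem_open
      (show (o.π 0).base y ∈ O by rw [← SetLike.mem_coe, ← hOU] at hy; exact hy) hO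
    let V : (𝔜.X 0).Opens := (o.π 0) ⁻¹ᵁ (PrimeSpectrum.basicOpen c : (Spec (CommRingCat.of C)).Opens)
    have i : V ≤ U := fun z hz => by rw [← SetLike.mem_coe, ← hOU]; exact hcO hz
    refine ⟨V, i, hyc, sec_ext fun m => ?_⟩
    have hlv : ∀ N, 𝔜.lvU hY N V = (o.π N) ⁻¹ᵁ (PrimeSpectrum.basicOpen c : (Spec (CommRingCat.of C)).Opens) :=
      fun N => (FSch.lvU_p 𝔜 hY o.π o.comm N _).symm
    set t := rs hY i s with ht
    have hta : ∀ a ∈ K, o.φ hY V a * t = 0 := fun a ha => by
      rw [ht, ← o.rs_φ hY i, RingHom.comp_apply, ← map_mul, hs a ha, map_zero]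
    set N := m + n₀
    have := hc N
    have := hc m
    obtain ⟨hVaff, -, hsurj, hzero⟩ := closed_basicOpen_sections (o.π N) (hcker N) c _ (hlv N)
    obtain ⟨-, hunit, -, -⟩ := closed_basicOpen_sections (o.π m) (hcker m) c _ (hlv m)
    obtain ⟨l, x, hx⟩ := hsurj (prj hY N V t)
    rw [← o.prj_φ hY N V, RingHom.comp_apply, RingHom.comp_apply, ← map_pow, ← map_mul] at hx
    have hax : ∀ a ∈ K, ∃ k, c ^ k * (a * x) ∈ K ^ (N + 1) := fun a ha => hzero _ (by
      rw [← o.prj_φ hY N V, RingHom.comp_apply, map_mul, map_mul, ← hx, ← map_mul, mul_left_comm, hta a ha,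
        mul_zero, map_zero])
    obtain ⟨S, hS⟩ := id hK
    have hk : ∃ k, ∀ a ∈ K, c ^ k * (a * x) ∈ K ^ (N + 1) := by
      classical
      choose k hk using fun a : S => hax a.1 (hS ▸ Submodule.subset_span a.2)
      refine ⟨Finset.univ.sup k, fun a ha => ?_⟩
      rw [← hS] at ha
      induction ha using Submodule.span_induction with
      | mem a ha =>
        obtain ⟨d, hd⟩ := Nat.exists_eq_add_of_le (Finset.le_sup (f := k) (Finset.mem_univ (⟨a, ha⟩ : S)))
        rw [hd, add_comm (k ⟨a, ha⟩) d, pow_add c, mul_assoc]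
        exact Ideal.mul_mem_left _ _ (hk ⟨a, ha⟩)
      | zero => simp
      | add a b _ _ ha hb => rw [add_mul, mul_add]; exact add_mem ha hb
      | smul r a _ ha => rw [smul_eq_mul, mul_assoc, mul_left_comm]; exact Ideal.mul_mem_left _ _ ha
    obtain ⟨k, hk⟩ := hk
    have hxm : c ^ k * x ∈ K ^ (m + 1) := hAR _ _ fun a ha => by
      rw [mul_left_comm, show m + 1 + n₀ = N + 1 by omega]
      exact hk a ha
    have hVaff' : IsAffineOpen V := by
      obtain ⟨h0, -⟩ := closed_basicOpen_sections (o.π 0) (hcker 0) c V rfl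
      exact h0
    have hsub : prj hY m V (o.φ hY V c ^ l * t - o.φ hY V x) = 0 := by
      have h1 : o.φ hY V c ^ l * t - o.φ hY V x ∈ RingHom.ker (prj hY N V) := by
        rw [RingHom.mem_ker, map_sub, hx, sub_self]
      rw [o.ker_prj hK hVaff'] at h1
      rw [← RingHom.mem_ker, o.ker_prj hK hVaff']
      exact Ideal.map_mono (Ideal.pow_le_pow_right (Nat.succ_le_succ (Nat.le_add_right m n₀))) h1
    have hzero' : prj hY m V (o.φ hY V (c ^ k * x)) = 0 := by
      rw [← RingHom.mem_ker, o.ker_prj hK hVaff']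
      exact Ideal.mem_map_of_mem _ hxm
    rw [map_sub, map_mul, map_pow, sub_eq_zero] at hsub
    rw [map_mul, map_pow, map_mul, map_pow, ← hsub, ← RingHom.comp_apply (prj hY m V) (o.φ hY V), o.prj_φ] at hzero'
    rw [map_zero]
    exact (hunit.pow l).mul_right_eq_zero.1 ((hunit.pow k).mul_right_eq_zero.1 hzero')
  choose V i hyV hV using hloc
  exact sec_ext_local fun y hy => ⟨V y hy, i y hy, hyV y hy, by rw [hV, map_zero]⟩

end Groth.FBlowLib
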