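import Groth.Agent.FBlowLib.LocalChart
import Groth.Agent.FBlowLib.TorsionFree
import Groth.Agent.TopFinType.Trunc

/-!
# Admissible formal blowing-ups of admissible formal schemes are admissible
-/

set_option autoImplicit false
set_option backward.isDefEq.respectTransparency false
set_option backward.isDefEq.respectTransparency.types false
set_option linter.style.haveILetI false

universe u

open CategoryTheory CategoryTheory.Limits AlgebraicGeometry TopologicalSpace Opposite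
open Groth.BlowUpBasics (sheafOf phi)

namespace Groth.FBlowLib

theorem phi_comp_Spec' {A B : Type u} [CommRing A] [CommRing B] {Y : Scheme.{u}}
    (l : Y ⟶ Spec (CommRingCat.of B)) (ψ : A →+* B) (V : Y.Opens) :
    phi (l ≫ Spec.map (CommRingCat.ofHom ψ)) V = (phi l V).comp ψ := by
  rw [Groth.BlowUpBasics.phi_restrict _ (le_top : V ≤ ⊤), Groth.BlowUpBasics.phi_restrict _ (le_top : V ≤ ⊤),
    RingHom.comp_assoc]
  exact congrArg (RingHom.comp _) (phi_comp_Spec _ _)

theorem phi_comp_appLE {A : Type u} [CommRing A] {X Y : Scheme.{u}} (g : Y ⟶ X) (q : X ⟶ Spec (CommRingCat.of A))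
    (W : X.Opens) (V : Y.Opens) (e : V ≤ g ⁻¹ᵁ W) :
    phi (g ≫ q) V = (g.appLE W V e).hom.comp (phi q W) := by
  rw [phi, phi, ← CommRingCat.hom_comp, Category.assoc, Scheme.Hom.appLE_comp_appLE g q ⊤ W V le_top e]

/-- Compatibility of the structure maps with the maps on sections. -/
theorem Over.shp_φ {A C : Type u} [CommRing A] [CommRing C] {K : Ideal A} {L : Ideal C} {𝔛 𝔜 : FSch.Sys.{u}}
    {h : 𝔛.IsFormal} {hY : 𝔜.IsFormal} (o : Over 𝔛 K) (oY : Over 𝔜 L) (f : 𝔜 ⟶ 𝔛) (α : A →+* C)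
    (hfα : ∀ n, (f : FSch.Hom 𝔜 𝔛).app n ≫ o.π n = oY.π n ≫ Spec.map (CommRingCat.ofHom α))
    (W : (𝔛.X 0).Opens) (a : A) : shp hY h f W (o.φ h W a) = oY.φ hY _ (α a) := by
  refine sec_ext fun n => ?_
  rw [← RingHom.comp_apply (prj hY n _) (oY.φ hY _), oY.prj_φ, prj_shp, FSch.Hom.levelPush_app,
    ← RingHom.comp_apply (prj h n W) (o.φ h W), o.prj_φ]
  exact congr($(((phi_comp_appLE ((f : FSch.Hom 𝔜 𝔛).app n) (o.π n) (𝔛.lvU h n W) _
    (FSch.Hom.lvU_preimage f hY h n W).ge).symm.trans ((congrArg (fun q => phi q _) (hfα n)).trans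
      (phi_comp_Spec' _ α _)))) a)

variable {R : Type u} [CommRing R] {I : Ideal R} {𝔛 𝔛' : FSch.Sys.{u}}

theorem φ_mem_ker_proj {h : 𝔛.IsFormal} (p : 𝔛 ⟶ FSch.spf R I) (hp : FSch.IsAdicHom p) (U : (𝔛.X 0).Opens)
    {a : R} (ha : a ∈ I) : (baseOver p hp).φ h U a ∈ (FBlow.IdealSh.ker (𝔛.OshProj h 0)).sect U := by
  show prj h 0 U ((baseOver p hp).φ h U a) = 0
  rw [← RingHom.comp_apply (prj h 0 U), Over.prj_φ, phi_baseOver, RingHom.comp_apply,
    Ideal.Quotient.eq_zero_iff_mem.2 (by rwa [zero_add, pow_one]), map_zero]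

variable (hR : AdicRing.IsBase R I) {h : 𝔛.IsFormal} (p : 𝔛 ⟶ FSch.spf R I) (hp : FSch.IsAdicHom p)
  (hfp : ∀ n, LocallyOfFinitePresentation ((p : FSch.Hom 𝔛 (FSch.spf R I)).app n))
  (htf : ∀ (U : (𝔛.X 0).Opens) (s : (𝔛.Osh h).obj.obj (Opposite.op U)),
    (∀ a ∈ (FBlow.IdealSh.ker (𝔛.OshProj h 0)).sect U, a * s = 0) → s = 0)
  {J : FBlow.IdealSh (𝔛.Osh h)} (hJ : FBlow.IsCohOpen 𝔛 h J)
  {h' : 𝔛'.IsFormal} {b : 𝔛' ⟶ 𝔛} (hb : FBlow.IsAdmBlowUp b h' h J)

include hR hp hfp htf hJ hb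

/-- No torsion on the blowing-up. -/
theorem eq_zero_of_isAdmBlowUp (U : (𝔛'.X 0).Opens) (s : Sec h' U)
    (hs : ∀ a ∈ (FBlow.IdealSh.ker (𝔛'.OshProj h' 0)).sect U, a * s = 0) : s = 0 := by
  refine sec_ext_local fun x hx => ?_
  obtain ⟨C, iC, iRC, hC, u, hu, ⟨z, hz⟩, hcomp⟩ := exists_admissible_chart hR p hp hfp htf hJ hb x
  have := hu 0
  have hp' : FSch.IsAdicHom (b ≫ p) := isAdicHom_comp hb.1 hp
  let V : (𝔛'.X 0).Opens := U ⊓ ((u : FSch.Hom _ 𝔛').app 0).opensRange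
  refine ⟨V, inf_le_left, ⟨hx, z, hz⟩, ?_⟩
  have hY : (FSch.spf C (I.map (algebraMap R C))).IsFormal := Groth.AdicLinTop.Thickenings.isFormal_spf _
  have hI := Groth.TopFinType.fg_of_isBase hR
  obtain ⟨n₀, hAR⟩ := exists_ar_of_noPowTorsion hR (Groth.TopFinType.topFiniteType_of_topFinitePresentation hC.1) hC.2
  rw [map_zero]
  refine (bijective_shp_of_isOpenImmersion (h := h') (hY := hY) u hu
    (W := V) (fun _ hy => hy.2)).1 ((?_ : _ = _).trans (map_zero _).symm)
  refine (Over.spf C (I.map (algebraMap R C))).eq_zero_of_mul_eq_zero hY (Groth.AdicLinTop.Thickenings.isClosedImmersion_specQuot _)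
    (fun n => idealSpec_eq_sheafOf _) (hI.map _) hAR _ fun a ha => ?_
  induction ha using Submodule.span_induction with
  | mem a ha =>
    obtain ⟨r, hr, rfl⟩ := ha
    rw [← Over.shp_φ (baseOver (b ≫ p) hp') (Over.spf C (I.map (algebraMap R C))) u (algebraMap R C) hcomp, ← map_mul,
      ← (baseOver (b ≫ p) hp').rs_φ h' (inf_le_left : V ≤ U), RingHom.comp_apply, ← map_mul,
      hs _ (φ_mem_ker_proj (b ≫ p) hp' U hr), map_zero, map_zero]
  | zero => rw [map_zero, zero_mul]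
  | add a c _ _ ha hc => rw [map_add, add_mul, ha, hc, add_zero]
  | smul c a _ ha => rw [smul_eq_mul, map_mul, mul_assoc, ha, mul_zero]

/-- The levels of the blowing-up are locally of finite presentation. -/
theorem locallyOfFinitePresentation_isAdmBlowUp (n : ℕ) :
    LocallyOfFinitePresentation ((b ≫ p : FSch.Hom 𝔛' (FSch.spf R I)).app n) := by
  have hI := Groth.TopFinType.fg_of_isBase hR
  choose C iC iRC hC u hu hmem hcomp using exists_admissible_chart hR p hp hfp htf hJ hb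
  let 𝒰 : (𝔛'.X n).OpenCover :=
    { I₀ := 𝔛'.X 0
      X := fun x => (FSch.spf (C x) (I.map (algebraMap R (C x)))).X n
      f := fun x => (u x : FSch.Hom _ 𝔛').app n
      mem₀ := by
        rw [Scheme.presieve₀_mem_precoverage_iff]
        refine ⟨fun w => ?_, fun x => hu x n⟩
        obtain ⟨x, rfl⟩ := 𝔛'.toX_surjective h' n w
        obtain ⟨z, hz⟩ := hmem x
        refine ⟨x, ((FSch.spf (C x) (I.map (algebraMap R (C x)))).toX n).base z, ?_⟩
        exact (congr(($(FSch.Hom.toX_comm (u x) n)).base z)).trans (congrArg (𝔛'.toX n).base hz) }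
  refine IsZariskiLocalAtSource.of_openCover 𝒰 fun x => ?_
  have hle : I ^ (n + 1) ≤ ((I.map (algebraMap R (C x))) ^ (n + 1)).comap (algebraMap R (C x)) := by
    rw [← Ideal.map_pow]
    exact Ideal.le_comap_map
  set g := Ideal.quotientMap ((I.map (algebraMap R (C x))) ^ (n + 1)) (algebraMap R (C x)) hle
  have heq : (u x : FSch.Hom _ 𝔛').app n ≫ (b ≫ p : FSch.Hom 𝔛' (FSch.spf R I)).app n =
      Spec.map (CommRingCat.ofHom g) := by
    have := Groth.AdicLinTop.Thickenings.isClosedImmersion_specQuot I n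
    rw [← cancel_mono (FSch.spfToSpec R I n), Category.assoc, hcomp x n]
    show Spec.map _ ≫ Spec.map _ = Spec.map _ ≫ Spec.map _
    rw [← Spec.map_comp, ← Spec.map_comp]
    rfl
  show LocallyOfFinitePresentation ((u x : FSch.Hom _ 𝔛').app n ≫ (b ≫ p : FSch.Hom 𝔛' (FSch.spf R I)).app n)
  rw [heq]
  refine (HasRingHomProperty.Spec_iff (P := @LocallyOfFinitePresentation)).2 ?_
  have h1 := Groth.TopFinType.trunc_finitePresentation hI (hC x).1 (n + 1)
  let e := Ideal.quotEquivOfEq (Ideal.map_pow (algebraMap R (C x)) I (n + 1))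
  have h2 := (RingHom.FinitePresentation.of_bijective (f := e.toRingHom) e.bijective).comp h1
  rw [show e.toRingHom.comp (Ideal.quotientMap ((I ^ (n + 1)).map (algebraMap R (C x))) (algebraMap R (C x))
    Ideal.le_comap_map) = g from Ideal.Quotient.ringHom_ext (RingHom.ext fun r => rfl)] at h2
  exact h2

end Groth.FBlowLib
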