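import Groth.Agent.FBlowLib.Local

/-!
# Admissible formal blowing-ups over opens of the base
-/

set_option autoImplicit false
set_option backward.isDefEq.respectTransparency false
set_option backward.isDefEq.respectTransparency.types false

universe u

open CategoryTheory CategoryTheory.Limits AlgebraicGeometry TopologicalSpace Opposite

namespace Groth.FBlowLib

variable {𝔛 𝔜 ℨ : FSch.Sys.{u}} {h : 𝔛.IsFormal} {hY : 𝔜.IsFormal} {hZ : ℨ.IsFormal}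

/-- The points over an open of the common space of the target. -/
theorem app_mem_lvU_iff (hY : 𝔜.IsFormal) (h : 𝔛.IsFormal) (f : 𝔜 ⟶ 𝔛) (n : ℕ) (U : (𝔛.X 0).Opens) (z : 𝔜.X n) :
    ((f : FSch.Hom 𝔜 𝔛).app n).base z ∈ 𝔛.lvU h n U ↔
      z ∈ 𝔜.lvU hY n ((f : FSch.Hom 𝔜 𝔛).app 0 ⁻¹ᵁ U) :=
  (congrArg (z ∈ ·) (FSch.Hom.lvU_preimage f hY h n U)).to_iff

theorem isAdicHom_of_comp {f : ℨ ⟶ 𝔜} {g : 𝔜 ⟶ 𝔛} (hfg : FSch.IsAdicHom (f ≫ g)) (hg : FSch.IsAdicHom g) :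
    FSch.IsAdicHom f := fun n =>
  IsPullback.of_bot (hfg n) ((f : FSch.Hom ℨ 𝔜).comm n).symm (hg n)

theorem range_app_subset (hZ : ℨ.IsFormal) (u : ℨ ⟶ 𝔛) (j : 𝔜 ⟶ 𝔛)
    (hu : Set.range ((u : FSch.Hom ℨ 𝔛).app 0).base ⊆ Set.range ((j : FSch.Hom 𝔜 𝔛).app 0).base) (n : ℕ) :
    Set.range ((u : FSch.Hom ℨ 𝔛).app n).base ⊆ Set.range ((j : FSch.Hom 𝔜 𝔛).app n).base := by
  rintro _ ⟨z, rfl⟩
  obtain ⟨z₀, rfl⟩ := ℨ.toX_surjective hZ n z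
  obtain ⟨y, hy⟩ := hu ⟨z₀, rfl⟩
  refine ⟨(𝔜.toX n).base y, ?_⟩
  rw [← Scheme.Hom.comp_apply, ← Scheme.Hom.comp_apply, FSch.Hom.toX_comm u n, FSch.Hom.toX_comm j n,
    Scheme.Hom.comp_apply, Scheme.Hom.comp_apply, hy]

theorem mono_of_isOpenImmersion (j : 𝔜 ⟶ 𝔛) (hj : ∀ n, IsOpenImmersion ((j : FSch.Hom 𝔜 𝔛).app n)) : Mono j :=
  mono_of_levels j fun n => have := hj n; inferInstance

theorem exists_lift_openImmersion (hZ : ℨ.IsFormal) (u : ℨ ⟶ 𝔛) (j : 𝔜 ⟶ 𝔛)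
    (hj : ∀ n, IsOpenImmersion ((j : FSch.Hom 𝔜 𝔛).app n))
    (hu : Set.range ((u : FSch.Hom ℨ 𝔛).app 0).base ⊆ Set.range ((j : FSch.Hom 𝔜 𝔛).app 0).base) :
    ∃ v : ℨ ⟶ 𝔜, v ≫ j = u := by
  refine ⟨⟨fun n => have := hj n; IsOpenImmersion.lift ((j : FSch.Hom 𝔜 𝔛).app n) _ (range_app_subset hZ u j hu n),
    fun n => ?_⟩, FSch.Hom.ext (funext fun n => have := hj n; IsOpenImmersion.lift_fac _ _ _)⟩
  have := hj (n + 1)
  have := hj n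
  rw [← cancel_mono ((j : FSch.Hom 𝔜 𝔛).app (n + 1)), Category.assoc, Category.assoc, IsOpenImmersion.lift_fac,
    ← (j : FSch.Hom 𝔜 𝔛).comm n, IsOpenImmersion.lift_fac_assoc]
  exact (u : FSch.Hom ℨ 𝔛).comm n

/-- Invertibility of the restrictions to a covering family of open subsystems suffices. -/
theorem isInvertible_of_openImmersions {J : FBlow.IdealSh (𝔛.Osh h)}
    (H : ∀ x : 𝔛.X 0, ∃ (𝔜 : FSch.Sys.{u}) (hY : 𝔜.IsFormal) (j : 𝔜 ⟶ 𝔛),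
      (∀ n, IsOpenImmersion ((j : FSch.Hom 𝔜 𝔛).app n)) ∧ x ∈ Set.range ((j : FSch.Hom 𝔜 𝔛).app 0).base ∧
        (FBlow.idealMap j hY h J).IsInvertible) : J.IsInvertible := by
  intro x
  obtain ⟨𝔜, hY, f, hf, ⟨y, rfl⟩, hJ⟩ := H x
  have := hf 0
  set j := (f : FSch.Hom 𝔜 𝔛).app 0
  obtain ⟨U, hyU, g', hg', hgen⟩ := hJ y
  have hrange : ∀ V : (𝔛.X 0).Opens, V ≤ j ''ᵁ U → (V : Set (𝔛.X 0)) ⊆ Set.range j.base := fun V i =>
    (SetLike.coe_subset_coe.2 i).trans (Set.image_subset_range _ _)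
  have hb := bijective_shp_of_isOpenImmersion (h := h) (hY := hY) f hf (hrange _ le_rfl)
  have e : j ⁻¹ᵁ (j ''ᵁ U) ≤ U := (j.preimage_image_eq U).le
  obtain ⟨g, hg⟩ := hb.2 (rs hY e g')
  refine ⟨j ''ᵁ U, ⟨y, hyU, rfl⟩, g, ?_, fun V i => ?_⟩
  · rw [← mem_idealMap_iff f hf J (hrange _ le_rfl), hg]
    exact FBlow.IdealSh.map_mem _ e hg'
  have hb' := bijective_shp_of_isOpenImmersion (h := h) (hY := hY) f hf (hrange V i)
  have hV : j ⁻¹ᵁ V ≤ U := (Scheme.Hom.preimage_mono j i).trans e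
  have key : shp hY h f V (rs h i g) = rs hY hV g' := by rw [rs_shp, hg, rs_rs]
  refine ⟨fun t ht => hb'.1 ((?_ : _ = _).trans (map_zero _).symm), fun s hs => ?_⟩
  · refine (hgen _ hV).1 _ ?_
    show shp hY h f V t * rs hY hV g' = 0
    rw [← key, ← map_mul]
    exact (congrArg _ ht).trans (map_zero _)
  · obtain ⟨t', ht'⟩ := (hgen _ hV).2 _ ((mem_idealMap_iff f hf J (hrange V i) s).2 hs)
    obtain ⟨t, rfl⟩ := hb'.2 t'
    refine ⟨t, hb'.1 ?_⟩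
    show shp hY h f V s = shp hY h f V (t * rs h i g)
    rw [map_mul, key]
    exact ht'

/-- An admissible formal blowing-up of the restriction to an open. -/
structure IsBlowOver (g : 𝔜 ⟶ 𝔛) (hY : 𝔜.IsFormal) (h : 𝔛.IsFormal) (J : FBlow.IdealSh (𝔛.Osh h))
    (U : (𝔛.X 0).Opens) : Prop where
  mem : ∀ y, ((g : FSch.Hom 𝔜 𝔛).app 0).base y ∈ U
  adic : FSch.IsAdicHom g
  inv : (FBlow.idealMap g hY h J).IsInvertible
  univ : ∀ (ℨ : FSch.Sys.{u}) (hZ : ℨ.IsFormal) (t : ℨ ⟶ 𝔛), FSch.IsAdicHom t →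
    (FBlow.idealMap t hZ h J).IsInvertible → (∀ z, ((t : FSch.Hom ℨ 𝔛).app 0).base z ∈ U) →
    ∃! k : ℨ ⟶ 𝔜, k ≫ g = t

theorem IsBlowOver.of_restrict {J : FBlow.IdealSh (𝔛.Osh h)} {U : (𝔛.X 0).Opens}
    (hU : (𝔛.restrictOpen h U).IsFormal) {b : 𝔜 ⟶ 𝔛.restrictOpen h U}
    (hb : FBlow.IsAdmBlowUp b hY hU (FBlow.idealMap (𝔛.restrictOpenι h U) hU h J)) :
    IsBlowOver (b ≫ 𝔛.restrictOpenι h U) hY h J U where
  mem y := (range_restrictOpenι (h := h) U).le ⟨_, rfl⟩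
  adic := isAdicHom_comp hb.1 (isAdicHom_restrictOpenι h U)
  inv := by rw [idealMap_comp (hY := hU)]; exact hb.2.1
  univ ℨ hZ t ht hinv hmem := by
    obtain ⟨t', rfl⟩ := exists_restrict_lift (h := h) hZ t U hmem
    obtain ⟨k, hk, huniq⟩ := hb.2.2 ℨ hZ t' (isAdicHom_of_comp ht (isAdicHom_restrictOpenι h U))
      (by rwa [← idealMap_comp])
    refine ⟨k, by show k ≫ b ≫ _ = _; rw [← Category.assoc, hk], fun l hl => huniq l ?_⟩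
    show l ≫ b = t'
    rw [← cancel_mono (𝔛.restrictOpenι h U), Category.assoc]
    exact hl

theorem IsBlowOver.mono {g : 𝔜 ⟶ 𝔛} {J : FBlow.IdealSh (𝔛.Osh h)} {U : (𝔛.X 0).Opens}
    (hg : IsBlowOver g hY h J U) {V : (𝔛.X 0).Opens} (e : V ≤ U) :
    IsBlowOver (𝔜.restrictOpenι hY ((g : FSch.Hom 𝔜 𝔛).app 0 ⁻¹ᵁ V) ≫ g) (isFormal_restrictOpen' hY _) h J V where
  mem y := show _ ∈ (g : FSch.Hom 𝔜 𝔛).app 0 ⁻¹ᵁ V from (range_restrictOpenι (h := hY) _).le ⟨y, rfl⟩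
  adic := isAdicHom_comp (isAdicHom_restrictOpenι hY _) hg.adic
  inv := by
    rw [idealMap_comp (hY := hY)]
    exact isInvertible_idealMap_openImmersion _ (isOpenImmersion_restrictOpenι _) hg.inv
  univ ℨ hZ t ht hinv hmem := by
    obtain ⟨k, hk, huniq⟩ := hg.univ ℨ hZ t ht hinv fun z => e (hmem z)
    obtain ⟨k', hk'⟩ := exists_restrict_lift (h := hY) hZ k ((g : FSch.Hom 𝔜 𝔛).app 0 ⁻¹ᵁ V) fun z => by
      show (((k ≫ g : ℨ ⟶ 𝔛) : FSch.Hom ℨ 𝔛).app 0).base z ∈ V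
      rw [hk]
      exact hmem z
    refine ⟨k', by show k' ≫ _ ≫ _ = t; rw [← Category.assoc, hk', hk], fun l hl => ?_⟩
    rw [← cancel_mono (𝔜.restrictOpenι hY _), hk']
    exact huniq _ ((Category.assoc _ _ _).trans hl)

/-- Over a smaller open the blowing-up is an open subsystem of the one over the larger open. -/
theorem IsBlowOver.exists_trans {g : 𝔜 ⟶ 𝔛} {J : FBlow.IdealSh (𝔛.Osh h)} {U V : (𝔛.X 0).Opens}
    (hg : IsBlowOver g hY h J U) {g' : ℨ ⟶ 𝔛} (hg' : IsBlowOver g' hZ h J V) (e : V ≤ U) :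
    ∃ k : ℨ ⟶ 𝔜, k ≫ g = g' ∧ (∀ k' : ℨ ⟶ 𝔜, k' ≫ g = g' → k' = k) ∧
      (∀ n, IsOpenImmersion ((k : FSch.Hom ℨ 𝔜).app n)) ∧
      Set.range ((k : FSch.Hom ℨ 𝔜).app 0).base = ((g : FSch.Hom 𝔜 𝔛).app 0 ⁻¹ᵁ V : (𝔜.X 0).Opens) := by
  obtain ⟨k, hk, huniq⟩ := hg.univ ℨ hZ g' hg'.adic hg'.inv fun z => e (hg'.mem z)
  have hmono := hg.mono e
  obtain ⟨a, ha, -⟩ := hmono.univ ℨ hZ g' hg'.adic hg'.inv hg'.mem
  obtain ⟨b, hb, -⟩ := hg'.univ _ (isFormal_restrictOpen' hY _) _ hmono.adic hmono.inv hmono.mem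
  obtain ⟨_, -, u1⟩ := hg'.univ ℨ hZ g' hg'.adic hg'.inv hg'.mem
  obtain ⟨_, -, u2⟩ := hmono.univ _ (isFormal_restrictOpen' hY _) _ hmono.adic hmono.inv hmono.mem
  have hab : a ≫ b = 𝟙 ℨ :=
    (u1 _ (by show (a ≫ b) ≫ g' = g'; rw [Category.assoc, hb, ha])).trans (u1 _ (Category.id_comp _)).symm
  have hba : b ≫ a = 𝟙 _ :=
    (u2 _ (by show (b ≫ a) ≫ _ = _; rw [Category.assoc, ha, hb])).trans (u2 _ (Category.id_comp _)).symm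
  have hka : a ≫ 𝔜.restrictOpenι hY _ = k := huniq _ ((Category.assoc _ _ _).trans ha)
  have hiso : ∀ n, IsIso ((a : FSch.Hom ℨ _).app n) := fun n => ⟨(b : FSch.Hom _ ℨ).app n,
    congrArg (fun φ => (φ : FSch.Hom _ _).app n) hab, congrArg (fun φ => (φ : FSch.Hom _ _).app n) hba⟩
  refine ⟨k, hk, huniq, fun n => ?_, ?_⟩
  · have := hiso n
    have := isOpenImmersion_restrictOpenι (h := hY) ((g : FSch.Hom 𝔜 𝔛).app 0 ⁻¹ᵁ V) n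
    rw [← hka]
    exact inferInstanceAs (IsOpenImmersion (_ ≫ _))
  · have := hiso 0
    rw [← hka, FSch.comp_app, ← range_restrictOpenι (h := hY) ((g : FSch.Hom 𝔜 𝔛).app 0 ⁻¹ᵁ V)]
    show Set.range (⇑((𝔜.restrictOpenι hY ((g : FSch.Hom 𝔜 𝔛).app 0 ⁻¹ᵁ V) : FSch.Hom _ 𝔜).app 0).base ∘
      ⇑((a : FSch.Hom ℨ _).app 0).base) = _
    exact (Scheme.Hom.surjective ((a : FSch.Hom ℨ _).app 0)).range_comp _

end Groth.FBlowLib
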