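import Groth.Agent.FBlowLib.Completion
import Mathlib.AlgebraicGeometry.GammaSpecAdjunction

/-!
# Finite blowing-ups inside the generic fibre
-/

set_option autoImplicit false
set_option backward.isDefEq.respectTransparency false
set_option backward.isDefEq.respectTransparency.types false

universe u

open CategoryTheory AlgebraicGeometry
open Groth.BlowUpBasics (sheafOf phi)

namespace Groth.FBlowLib

/-- Clearing denominators in a polynomial. -/
theorem exists_clear_den {A : Type u} [CommRing A] {n : ℕ} (c : A) (g : Fin n → A)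
    (p : MvPolynomial (Fin n) A) :
    ∃ (N : ℕ) (a : A), ∀ (S : Type u) [CommRing S] (φ : A →+* S) (x : Fin n → S),
      (∀ i, φ c * x i = φ (g i)) → φ c ^ N * MvPolynomial.eval₂ φ x p = φ a := by
  induction p using MvPolynomial.induction_on with
  | C a => exact ⟨0, a, fun S _ φ x _ => by simp⟩
  | add p q hp hq =>
    obtain ⟨N, a, ha⟩ := hp
    obtain ⟨M, b, hb⟩ := hq
    exact ⟨N + M, c ^ M * a + c ^ N * b, fun S _ φ x hx => by
      rw [MvPolynomial.eval₂_add, map_add, map_mul, map_mul, map_pow, map_pow, ← ha S φ x hx, ← hb S φ x hx]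
      ring⟩
  | mul_X p i hp =>
    obtain ⟨N, a, ha⟩ := hp
    exact ⟨N + 1, a * g i, fun S _ φ x hx => by
      rw [MvPolynomial.eval₂_mul, MvPolynomial.eval₂_X, map_mul, ← ha S φ x hx, ← hx i]
      ring⟩

theorem hom_ext_phi {A : Type u} [CommRing A] {Y : Scheme.{u}} {f g : Y ⟶ Spec (CommRingCat.of A)}
    (h : phi f ⊤ = phi g ⊤) : f = g := by
  refine ext_to_Spec ?_
  have e : ∀ (l : Y ⟶ Spec (CommRingCat.of A)), Scheme.Γ.map l.op = l.appLE ⊤ ⊤ le_top := fun l => by
    rw [Scheme.Γ_map_op, Scheme.Hom.appLE]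
    erw [CategoryTheory.Functor.map_id, Category.comp_id]
  rw [e, e]
  exact CommRingCat.hom_ext h

theorem phi_toSpecΓ_comp {A : Type u} [CommRing A] {Y : Scheme.{u}} (ψ : A →+* Γ(Y, ⊤)) :
    phi (Y.toSpecΓ ≫ Spec.map (CommRingCat.ofHom ψ)) ⊤ = ψ := by
  rw [phi]
  refine congrArg CommRingCat.Hom.hom (?_ : _ = CommRingCat.ofHom ψ)
  rw [← Scheme.Hom.appLE_comp_appLE Y.toSpecΓ (Spec.map (CommRingCat.ofHom ψ)) ⊤ ⊤ ⊤ le_top le_top,
    Scheme.Hom.appLE, Scheme.Hom.appLE]
  erw [CategoryTheory.Functor.map_id, CategoryTheory.Functor.map_id, Category.comp_id, Category.comp_id]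
  show _ ≫ (Spec.map (CommRingCat.ofHom ψ)).appTop ≫ Y.toSpecΓ.appTop = _
  rw [← Category.assoc, ← Scheme.ΓSpecIso_inv_naturality, Category.assoc, Scheme.toSpecΓ_appTop]
  exact (congrArg (_ ≫ ·) (Scheme.ΓSpecIso Γ(Y, ⊤)).inv_hom_id).trans (Category.comp_id _)

theorem phi_comp_Spec {A B : Type u} [CommRing A] [CommRing B] {Y : Scheme.{u}}
    (l : Y ⟶ Spec (CommRingCat.of B)) (ψ : A →+* B) :
    phi (l ≫ Spec.map (CommRingCat.ofHom ψ)) ⊤ = (phi l ⊤).comp ψ := by
  refine congrArg CommRingCat.Hom.hom (?_ : _ = CommRingCat.ofHom ψ ≫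
    ((Scheme.ΓSpecIso (CommRingCat.of B)).inv ≫ l.appLE ⊤ ⊤ le_top))
  rw [← Scheme.Hom.appLE_comp_appLE l (Spec.map (CommRingCat.ofHom ψ)) ⊤ ⊤ ⊤ le_top le_top,
    Scheme.Hom.appLE, Scheme.Hom.appLE]
  erw [CategoryTheory.Functor.map_id, CategoryTheory.Functor.map_id, Category.comp_id, Category.comp_id]
  show _ ≫ (Spec.map (CommRingCat.ofHom ψ)).appTop ≫ _ = _
  rw [← Category.assoc, ← Scheme.ΓSpecIso_inv_naturality, Category.assoc]

variable {A : Type u} [CommRing A] {Q : Type u} [CommRing Q] [Algebra A Q]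
  {n : ℕ} (f : Fin n → Q) {c : A} (g : Fin n → A)

/-- The universal property of the finite algebra. -/
theorem existsUnique_adjoin_lift (hinj : Function.Injective (algebraMap A Q))
    (hg : ∀ i, algebraMap A Q (g i) = algebraMap A Q c * f i) {D : Type u} [CommRing D] (φ : A →+* D)
    (hnzd : φ c ∈ nonZeroDivisors D) (d : Fin n → D) (hd : ∀ i, φ c * d i = φ (g i)) :
    ∃! ψ : ↥(Algebra.adjoin A (Set.range f)) →+* D,
      ψ.comp (algebraMap A ↥(Algebra.adjoin A (Set.range f))) = φ := by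
  set T := Algebra.adjoin A (Set.range f)
  let fT : Fin n → T := fun i => ⟨f i, Algebra.subset_adjoin ⟨i, rfl⟩⟩
  have hgT : ∀ i, algebraMap A T c * fT i = algebraMap A T (g i) := fun i => Subtype.ext (hg i).symm
  let P := MvPolynomial.eval₂Hom (algebraMap A T) fT
  have hP : Function.Surjective P := by
    rintro ⟨x, hx⟩
    induction hx using Algebra.adjoin_induction with
    | mem x hx => obtain ⟨i, rfl⟩ := hx; exact ⟨MvPolynomial.X i, MvPolynomial.eval₂Hom_X' _ _ _⟩
    | algebraMap a => exact ⟨MvPolynomial.C a, MvPolynomial.eval₂Hom_C _ _ _⟩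
    | add x y hx hy h1 h2 =>
      obtain ⟨p, hp⟩ := h1; obtain ⟨q, hq⟩ := h2
      exact ⟨p + q, by rw [map_add, hp, hq]; rfl⟩
    | mul x y hx hy h1 h2 =>
      obtain ⟨p, hp⟩ := h1; obtain ⟨q, hq⟩ := h2
      exact ⟨p * q, by rw [map_mul, hp, hq]; rfl⟩
  have hker : RingHom.ker P ≤ RingHom.ker (MvPolynomial.eval₂Hom φ d) := fun p hp => by
    obtain ⟨N, a, ha⟩ := exists_clear_den c g p
    have h1 := ha T (algebraMap A T) fT hgT
    rw [show MvPolynomial.eval₂ (algebraMap A T) fT p = 0 from hp, mul_zero] at h1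
    obtain rfl : a = 0 := hinj (by
      rw [map_zero]
      exact (congrArg Subtype.val h1).symm)
    have h2 := ha D φ d hd
    rw [map_zero] at h2
    exact (mem_nonZeroDivisors_iff.1 (pow_mem hnzd N)).1 _ h2
  obtain ⟨ψ, hψ⟩ : ∃ ψ : T →+* D, ψ.comp P = MvPolynomial.eval₂Hom φ d :=
    ⟨P.liftOfSurjective hP ⟨_, hker⟩, RingHom.liftOfSurjective_comp _ _ _⟩
  have hψA : ψ.comp (algebraMap A T) = φ := RingHom.ext fun a => by
    have h1 := congr($hψ (MvPolynomial.C a))
    rwa [RingHom.comp_apply, MvPolynomial.eval₂Hom_C, MvPolynomial.eval₂Hom_C] at h1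
  refine ⟨ψ, hψA, fun ψ' hψ' => RingHom.ext fun x => ?_⟩
  obtain ⟨p, rfl⟩ := hP x
  induction p using MvPolynomial.induction_on with
  | C a =>
    rw [MvPolynomial.eval₂Hom_C]
    exact congr($(hψ'.trans hψA.symm) a)
  | add p q hp hq => rw [map_add, map_add, map_add, hp, hq]
  | mul_X p i hp =>
    rw [map_mul, map_mul, map_mul, hp, MvPolynomial.eval₂Hom_X']
    congr 1
    refine (mul_cancel_left_mem_nonZeroDivisors hnzd).1 ?_
    have key : ∀ χ : T →+* D, χ.comp (algebraMap A T) = φ → φ c * χ (fT i) = φ (g i) := by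
      intro χ hχ
      rw [← hχ, RingHom.comp_apply, RingHom.comp_apply, ← map_mul, hgT]
    rw [key ψ' hψ', key ψ hψA]

/-- Over any ring where the ideal is generated by a nonzerodivisor, it is generated by `c`. -/
theorem span_c_of_generated (hinj : Function.Injective (algebraMap A Q)) (hf : ∀ i, IsIntegral A (f i))
    (hg : ∀ i, algebraMap A Q (g i) = algebraMap A Q c * f i) {D : Type u} [CommRing D] (φ : A →+* D)
    {h : D} (hh : h ∈ nonZeroDivisors D)
    (hgen : (Ideal.span (insert c (Set.range g))).map φ = Ideal.span {h}) :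
    φ c ∈ nonZeroDivisors D ∧ (Ideal.span (insert c (Set.range g))).map φ = Ideal.span {φ c} := by
  have hmem : ∀ a ∈ insert c (Set.range g), ∃ u, φ a = u * h := fun a ha => by
    have := Ideal.mem_map_of_mem φ (Ideal.subset_span ha)
    rw [hgen, Ideal.mem_span_singleton'] at this
    obtain ⟨u, hu⟩ := this
    exact ⟨u, hu.symm⟩
  obtain ⟨u, hu⟩ := hmem _ (Set.mem_insert _ _)
  have hdvd : ∀ i, ∃ v N, φ (g i) = v * h ∧ u ∣ v ^ N := fun i => by
    obtain ⟨v, hv⟩ := hmem _ (Set.mem_insert_of_mem _ ⟨i, rfl⟩)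
    obtain ⟨p, hp, hpf⟩ := hf i
    rw [← Polynomial.aeval_def, Polynomial.aeval_eq_sum_range, Finset.sum_range_succ, hp.coeff_natDegree,
      one_smul] at hpf
    set N := p.natDegree
    refine ⟨v, N, hv, ?_⟩
    have h2 : ∑ j ∈ Finset.range N, p.coeff j * c ^ (N - j) * g i ^ j + g i ^ N = 0 := by
      apply hinj
      rw [map_zero, map_add, map_sum, map_pow, hg, mul_pow, ← mul_zero (algebraMap A Q c ^ N), ← hpf, mul_add,
        Finset.mul_sum]
      refine congrArg (· + _) (Finset.sum_congr rfl fun j hj => ?_)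
      have e : algebraMap A Q c ^ N = algebraMap A Q c ^ (N - j) * algebraMap A Q c ^ j := by
        rw [← pow_add, Nat.sub_add_cancel (Finset.mem_range.1 hj).le]
      rw [map_mul, map_mul, map_pow, map_pow, hg, e, Algebra.smul_def, mul_pow]
      ring
    have h3 := congrArg φ h2
    rw [map_zero, map_add, map_sum, map_pow, hv] at h3
    have h4 : h ^ N * (∑ j ∈ Finset.range N, φ (p.coeff j) * u ^ (N - j) * v ^ j + v ^ N) = 0 := by
      rw [← h3, mul_add, Finset.mul_sum]
      congr 1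
      · refine Finset.sum_congr rfl fun j hj => ?_
        have e : h ^ N = h ^ (N - j) * h ^ j := by
          rw [← pow_add, Nat.sub_add_cancel (Finset.mem_range.1 hj).le]
        rw [map_mul, map_mul, map_pow, map_pow, hu, hv, mul_pow, mul_pow, e]
        ring
      · ring
    have h5 := (mem_nonZeroDivisors_iff.1 (pow_mem hh N)).1 _ h4
    rw [add_comm, add_eq_zero_iff_eq_neg] at h5
    rw [h5, dvd_neg]
    exact Finset.dvd_sum fun j hj =>
      ((dvd_pow_self u (Nat.sub_ne_zero_of_lt (Finset.mem_range.1 hj))).mul_left _).mul_right _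
  choose v N hv hN using hdvd
  have huu : IsUnit u := by
    rw [← Ideal.span_singleton_eq_top, ← Ideal.radical_eq_top, eq_top_iff]
    intro d _
    have h1 : h ∈ (Ideal.span (insert c (Set.range g))).map φ := hgen ▸ Ideal.mem_span_singleton_self h
    have h2 : (Ideal.span (insert c (Set.range g))).map φ ≤ (Ideal.span {u}).radical * Ideal.span {h} := by
      rw [Ideal.map_le_iff_le_comap, Ideal.span_le]
      intro a ha
      rw [SetLike.mem_coe, Ideal.mem_comap]
      rcases ha with rfl | ⟨i, rfl⟩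
      · rw [hu]
        exact Ideal.mul_mem_mul (Ideal.le_radical (Ideal.mem_span_singleton_self u)) (Ideal.mem_span_singleton_self h)
      · rw [hv i]
        exact Ideal.mul_mem_mul ⟨N i, Ideal.mem_span_singleton.2 (hN i)⟩ (Ideal.mem_span_singleton_self h)
    obtain ⟨e, he, heq⟩ := Ideal.mem_mul_span_singleton.1 (h2 h1)
    obtain rfl : e = 1 := (mul_cancel_right_mem_nonZeroDivisors hh).1 (by rw [heq, one_mul])
    simpa using Ideal.mul_mem_left _ d he
  refine ⟨hu ▸ mul_mem (huu.mem_nonZeroDivisors) hh, ?_⟩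
  rw [hgen, hu, Ideal.span_singleton_mul_left_unit huu]

/-- The spectrum of the finite algebra is the blowing-up of the spectrum. -/
theorem isBlowUp_adjoin (hinj : Function.Injective (algebraMap A Q)) (hc : IsUnit (algebraMap A Q c))
    (hf : ∀ i, IsIntegral A (f i)) (hg : ∀ i, algebraMap A Q (g i) = algebraMap A Q c * f i) :
    BlowUp.IsBlowUp (Spec.map (CommRingCat.ofHom (algebraMap A ↥(Algebra.adjoin A (Set.range f)))))
      (sheafOf (Ideal.span (insert c (Set.range g)))) := by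
  set T := Algebra.adjoin A (Set.range f)
  set 𝔞 := Ideal.span (insert c (Set.range g))
  have hcT : algebraMap A T c ∈ nonZeroDivisors T := mem_nonZeroDivisors_iff_right.2 fun x hx =>
    Subtype.ext (hc.mul_left_eq_zero.1 (congrArg Subtype.val hx))
  have hgen : 𝔞.map (algebraMap A T) = Ideal.span {algebraMap A T c} := by
    refine le_antisymm ?_ ?_
    · rw [Ideal.map_le_iff_le_comap, Ideal.span_le]
      intro a ha
      rw [SetLike.mem_coe, Ideal.mem_comap, Ideal.mem_span_singleton']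
      rcases ha with rfl | ⟨i, rfl⟩
      · exact ⟨1, one_mul _⟩
      · exact ⟨⟨f i, Algebra.subset_adjoin ⟨i, rfl⟩⟩, Subtype.ext ((mul_comm _ _).trans (hg i).symm)⟩
    · rw [Ideal.span_le, Set.singleton_subset_iff]
      exact Ideal.mem_map_of_mem _ (Ideal.subset_span (Set.mem_insert _ _))
  refine ⟨?_, fun Y l hl => ?_⟩
  · rw [Groth.BlowUpBasics.comap_sheafOf_Spec, hgen]
    exact Groth.BlowUpBasics.isEffCartierIdeal_sheafOf_span hcT
  set φ := phi l ⊤
  have hloc : ∀ y : Y, ∃ U : Y.affineOpens, y ∈ U.1 ∧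
      phi l U.1 c ∈ nonZeroDivisors Γ(Y, U.1) ∧ 𝔞.map (phi l U.1) = Ideal.span {phi l U.1 c} := fun y => by
    obtain ⟨U, hyU, h, hh, hUh⟩ := hl y
    rw [Groth.BlowUpBasics.ideal_comap_sheafOf] at hUh
    exact ⟨U, hyU, span_c_of_generated f g hinj hf hg (phi l U.1) hh hUh⟩
  choose U hyU hnz hsp using hloc
  have hphi : ∀ (V : Y.Opens) a, phi l V a = Y.presheaf.map (homOfLE (le_top : V ≤ ⊤)).op (φ a) := fun V a =>
    congr($(Groth.BlowUpBasics.phi_restrict l (le_top : V ≤ ⊤)) a)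
  have hnzV : ∀ (V : Y.Opens) (x : Γ(Y, V)), x * phi l V c = 0 → x = 0 := by
    intro V x hx
    have key : ∀ p : V, ∃ W : Y.affineOpens, p.1 ∈ W.1 ∧ W.1 ≤ V ∧ W.1 ≤ (U p.1).1 := fun p => by
      obtain ⟨_, ⟨W, hW, rfl⟩, h1, h2⟩ := Y.isBasis_affineOpens.exists_subset_of_mem_open
        (show p.1 ∈ V ⊓ (U p.1).1 from ⟨p.2, hyU p.1⟩) (V ⊓ (U p.1).1).isOpen
      exact ⟨⟨W, hW⟩, h1, fun z hz => (h2 hz).1, fun z hz => (h2 hz).2⟩
    choose W hW hWV hWU using key
    refine TopCat.Sheaf.eq_of_locally_eq' Y.sheaf (fun p => (W p).1) V (fun p => homOfLE (hWV p))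
      (fun p hp => TopologicalSpace.Opens.mem_iSup.2 ⟨⟨p, hp⟩, hW _⟩) x 0 fun p => ?_
    rw [map_zero]
    refine mem_nonZeroDivisors_iff_right.1
      (Groth.BlowUpBasics.restrict_mem_nonZeroDivisors (U := U p.1) (V := W p) (hWU p) (hnz p.1)) _ ?_
    have e : phi l (W p).1 c = Y.presheaf.map (homOfLE (hWU p)).op (phi l (U p.1).1 c) :=
      congr($(Groth.BlowUpBasics.phi_restrict l (hWU p)) c)
    show Y.presheaf.map (homOfLE (hWV p)).op x * Y.presheaf.map (homOfLE (hWU p)).op (phi l (U p.1).1 c) = 0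
    refine (congrArg (_ * ·) (e.symm.trans congr($(Groth.BlowUpBasics.phi_restrict l (hWV p)) c))).trans ?_
    exact (map_mul _ _ _).symm.trans ((congrArg _ hx).trans (map_zero _))
  have hnzd : φ c ∈ nonZeroDivisors Γ(Y, ⊤) := mem_nonZeroDivisors_iff_right.2 (hnzV ⊤)
  have hd : ∀ i, ∃ d, φ c * d = φ (g i) := fun i => by
    have h1 : ∀ y, ∃ d, d * phi l (U y).1 c = phi l (U y).1 (g i) := fun y =>
      Ideal.mem_span_singleton'.1 (hsp y ▸ Ideal.mem_map_of_mem _
        (Ideal.subset_span (Set.mem_insert_of_mem _ ⟨i, rfl⟩)))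
    choose d hd using h1
    have h2 : ∀ (a : Y) (V : Y.Opens) (e : V ≤ (U a).1),
        Y.presheaf.map (homOfLE e).op (d a) * phi l V c = phi l V (g i) := fun a V e => by
      rw [congr($(Groth.BlowUpBasics.phi_restrict l e) c), congr($(Groth.BlowUpBasics.phi_restrict l e) (g i))]
      exact (map_mul _ _ _).symm.trans (congrArg _ (hd a))
    obtain ⟨D, hD, -⟩ := TopCat.Sheaf.existsUnique_gluing' Y.sheaf (fun y => (U y).1) ⊤
      (fun _ => homOfLE le_top) (fun y _ => TopologicalSpace.Opens.mem_iSup.2 ⟨y, hyU y⟩) d fun a b => by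
        show Y.presheaf.map (homOfLE inf_le_left).op (d a) = Y.presheaf.map (homOfLE inf_le_right).op (d b)
        exact sub_eq_zero.1 (hnzV _ _ (by rw [sub_mul, h2, h2, sub_self]))
    refine ⟨D, sub_eq_zero.1 (TopCat.Sheaf.eq_of_locally_eq' Y.sheaf (fun y => (U y).1) ⊤
      (fun _ => homOfLE le_top) (fun y _ => TopologicalSpace.Opens.mem_iSup.2 ⟨y, hyU y⟩) _ 0 fun y => ?_)⟩
    show Y.presheaf.map (homOfLE le_top).op _ = Y.presheaf.map (homOfLE le_top).op 0
    rw [map_sub, map_mul, map_zero, ← hphi, ← hphi, sub_eq_zero, mul_comm, ← hd y]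
    exact congrArg (· * _) (hD y)
  choose d hd using hd
  obtain ⟨ψ, hψ, huniq⟩ := existsUnique_adjoin_lift f g hinj hg φ hnzd d hd
  refine ⟨Y.toSpecΓ ≫ Spec.map (CommRingCat.ofHom ψ), hom_ext_phi ?_, fun m hm => hom_ext_phi ?_⟩
  · rw [phi_comp_Spec, phi_toSpecΓ_comp, hψ]
  · rw [phi_toSpecΓ_comp]
    refine huniq _ ?_
    show (phi m ⊤).comp _ = _
    rw [← phi_comp_Spec]
    exact congrArg (phi · ⊤) hm

end Groth.FBlowLib
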