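import Groth.Agent.FBlowLib.Restrict
import Groth.Agent.FBlowLib.FiniteBlow

/-!
# The affine charts of an admissible formal blowing-up
-/

set_option autoImplicit false
set_option backward.isDefEq.respectTransparency false
set_option backward.isDefEq.respectTransparency.types false

universe u

open CategoryTheory CategoryTheory.Limits AlgebraicGeometry TopologicalSpace Opposite
open Groth.BlowUpBasics (sheafOf phi)

namespace Groth.FBlowLib

variable {A : Type u} [CommRing A] {K : Ideal A} {𝔛 : FSch.Sys.{u}} {h : 𝔛.IsFormal}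

theorem Over.φ_congr (o o' : Over 𝔛 K) (hπ : ∀ n, o.π n = o'.π n) (U : (𝔛.X 0).Opens) :
    o.φ h U = o'.φ h U := by
  obtain ⟨π, _, _⟩ := o
  obtain ⟨π', _, _⟩ := o'
  obtain rfl : π = π' := funext hπ
  rfl

theorem isAdicHom_comp {𝔜 ℨ : FSch.Sys.{u}} {f : ℨ ⟶ 𝔜} {g : 𝔜 ⟶ 𝔛} (hf : FSch.IsAdicHom f)
    (hg : FSch.IsAdicHom g) : FSch.IsAdicHom (f ≫ g) :=
  fun n => (hf n).paste_vert (hg n)

variable (o : Over 𝔛 K) {𝔞 : Ideal A} {k : ℕ}

theorem eq_unit_mul_of_span_eq {B : Type*} [CommRing B] {g c : B} (hg : g ∈ nonZeroDivisors B)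
    (hgen : Ideal.span {g} = Ideal.span {c}) : ∃ u : B, IsUnit u ∧ c = u * g := by
  obtain ⟨u, hu⟩ := Ideal.mem_span_singleton'.1 (hgen ▸ Ideal.mem_span_singleton_self c)
  obtain ⟨v, hv⟩ := Ideal.mem_span_singleton'.1 (hgen.symm ▸ Ideal.mem_span_singleton_self g)
  refine ⟨u, IsUnit.of_mul_eq_one v ?_, hu.symm⟩
  refine (mul_cancel_right_mem_nonZeroDivisors hg).1 ?_
  rw [one_mul, mul_comm u v, mul_assoc, hu, hv]

/-- A good open where `a` generates the ideal. -/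
theorem Over.Good.goodAt {U : (𝔛.X 0).Opens} (hU : o.Good h 𝔞 U) {a : A}
    (ha : 𝔞.map (o.φ h U) = Ideal.span {o.φ h U a}) : o.GoodAt h 𝔞 a U := by
  obtain ⟨hUa, g, hg, hgen⟩ := hU
  obtain ⟨w, hw, haw⟩ := eq_unit_mul_of_span_eq hg (hgen.symm.trans ha)
  exact ⟨hUa, haw ▸ mul_mem hw.mem_nonZeroDivisors hg, ha⟩

include o in
/-- The element generates near a point where its coefficient does not vanish. -/
theorem Over.goodAt_basicOpen (hK : K.FG) (hk : K ^ k ≤ 𝔞) {U : (𝔛.X 0).Opens} (hU : IsAffineOpen U)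
    {g : Sec h U} (hg : g ∈ nonZeroDivisors (Sec h U)) (hgen : 𝔞.map (o.φ h U) = Ideal.span {g}) {a : A}
    {w : Sec h U} (haw : o.φ h U a = w * g) :
    o.GoodAt h 𝔞 a ((𝔛.X 0).basicOpen (prj h 0 U w)) := by
  have hDU : (𝔛.X 0).basicOpen (prj h 0 U w) ≤ U :=
    ((𝔛.X 0).basicOpen_le _).trans (Groth.AdicLinTop.FormalLevels.toX_preimage_lvU h 0 U).le
  have hu := isUnit_rs_of_le_basicOpen hDU w le_rfl
  have hφ : o.φ h _ a = rs h hDU w * rs h hDU g := by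
    rw [← o.rs_φ h hDU, RingHom.comp_apply, haw, map_mul]
  refine ⟨(Groth.AdicLinTop.FormalLevels.isAffineOpen_lvU h hU 0).basicOpen _, ?_, ?_⟩
  · rw [hφ]
    exact mul_mem hu.mem_nonZeroDivisors (o.nzd_rs hK hk hU hg hgen hDU)
  · rw [hφ, Ideal.span_singleton_mul_left_unit hu]
    exact o.map_rs hgen hDU

include o in
/-- Some member of a generating family generates near every point. -/
theorem Over.exists_goodAt {ι : Type*} [Fintype ι] (f : ι → A) (hK : K.FG)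
    (hk : K ^ k ≤ Ideal.span (Set.range f)) (hinv : (o.idealOf h (Ideal.span (Set.range f))).IsInvertible)
    (x : 𝔛.X 0) : ∃ (i : ι) (U : (𝔛.X 0).Opens), x ∈ U ∧ o.GoodAt h (Ideal.span (Set.range f)) (f i) U := by
  obtain ⟨U, hxU, -, hU, g, hg, hgen⟩ := o.exists_good hK hk hinv (x := x) (O := ⊤) trivial
  have hw : ∀ j, ∃ w, w * g = o.φ h U (f j) := fun j => Ideal.mem_span_singleton'.1
    (hgen ▸ Ideal.mem_map_of_mem _ (Ideal.subset_span ⟨j, rfl⟩))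
  choose w hw using hw
  have hg' : g ∈ Ideal.span (Set.range fun j => o.φ h U (f j)) := by
    rw [← Function.comp_def (o.φ h U) f, Set.range_comp, ← Ideal.map_span, hgen]
    exact Ideal.mem_span_singleton_self g
  obtain ⟨c, hc⟩ := Ideal.mem_span_range_iff_exists_fun.1 hg'
  have h1 : ∑ j, c j * w j = 1 := (mul_cancel_right_mem_nonZeroDivisors hg).1 (by
    rw [Finset.sum_mul, one_mul]
    simp only [mul_assoc, hw, hc])
  have hx0 : x ∈ 𝔛.lvU h 0 U := (Groth.AdicLinTop.FormalLevels.toX_preimage_lvU h 0 U).ge hxU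
  let γ := ((𝔛.X 0).presheaf.germ (𝔛.lvU h 0 U) x hx0).hom.comp (prj h 0 U)
  by_contra hne
  push Not at hne
  have hmem : ∀ j, γ (w j) ∈ IsLocalRing.maximalIdeal ((𝔛.X 0).presheaf.stalk x) := fun j => by
    rw [IsLocalRing.mem_maximalIdeal, mem_nonunits_iff]
    intro hu
    exact hne j _ (((𝔛.X 0).mem_basicOpen (prj h 0 U (w j)) x hx0).2 hu)
      (o.goodAt_basicOpen hK hk hU hg hgen (hw j).symm)
  have h2 := (Ideal.sum_mem _ fun j (_ : j ∈ Finset.univ) =>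
    Ideal.mul_mem_left (IsLocalRing.maximalIdeal ((𝔛.X 0).presheaf.stalk x)) (γ (c j)) (hmem j))
  simp only [← map_mul] at h2
  rw [← map_sum, h1, map_one] at h2
  exact (IsLocalRing.maximalIdeal.isMaximal _).ne_top ((Ideal.eq_top_iff_one _).2 h2)

include o in
/-- The locus where an element generates, in terms of equality of ideal sheaves. -/
theorem Over.goodAt_iff (hK : K.FG) (hk : K ^ k ≤ 𝔞) (hinv : (o.idealOf h 𝔞).IsInvertible) {a : A}
    (ha : a ∈ 𝔞) (x : 𝔛.X 0) :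
    (∃ V : (𝔛.X 0).Opens, x ∈ V ∧ ∀ V' : (𝔛.X 0).Opens, V' ≤ V →
      (o.idealOf h 𝔞).sect V' = (o.idealOf h (Ideal.span {a})).sect V') ↔
      ∃ U, x ∈ U ∧ o.GoodAt h 𝔞 a U := by
  constructor
  · rintro ⟨V, hxV, hV⟩
    obtain ⟨U, hxU, hUV, hU, g, hg, hgen⟩ := o.exists_good hK hk hinv (x := x) (O := V) hxV
    have h1 : g ∈ (o.idealOf h (Ideal.span {a})).sect U :=
      hV U hUV ▸ o.map_le_idealOf _ (hgen ▸ Ideal.mem_span_singleton_self g)
    obtain ⟨W, i, hxW, hW⟩ := o.mem_idealOf.1 h1 x hxU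
    obtain ⟨_, ⟨W', hW', rfl⟩, hxW', hle⟩ := (𝔛.X 0).isBasis_affineOpens.exists_subset_of_mem_open hxW W.2
    have hle : W' ≤ W := hle
    refine ⟨W', hxW', Over.Good.goodAt o ⟨hW', _, o.nzd_rs hK hk hU hg hgen (hle.trans i), o.map_rs hgen _⟩ ?_⟩
    refine le_antisymm ?_ ?_
    · rw [o.map_rs hgen (hle.trans i), Ideal.span_le, Set.singleton_subset_iff, ← rs_rs i hle]
      have h2 := o.rs_mem_map hle hW
      rwa [Ideal.map_span, Set.image_singleton] at h2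
    · rw [Ideal.span_le, Set.singleton_subset_iff]
      exact Ideal.mem_map_of_mem _ ha
  · rintro ⟨U, hxU, -, -, hgen⟩
    refine ⟨U, hxU, fun V' hV' => le_antisymm (fun s hs => ?_) (fun s hs => ?_)⟩
    · refine o.mem_idealOf.2 fun y hy => ?_
      obtain ⟨W, i, hyW, hW⟩ := o.mem_idealOf.1 hs y hy
      refine ⟨W, i, hyW, ?_⟩
      rw [o.map_rs hgen (i.trans hV')] at hW
      rwa [Ideal.map_span, Set.image_singleton, ← o.rs_φ h (i.trans hV'), RingHom.comp_apply]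
    · refine o.mem_idealOf.2 fun y hy => ?_
      obtain ⟨W, i, hyW, hW⟩ := o.mem_idealOf.1 hs y hy
      exact ⟨W, i, hyW, Ideal.map_mono (by rwa [Ideal.span_le, Set.singleton_subset_iff]) hW⟩

theorem existsUnique_spec_lift {C D : Type u} [CommRing C] [CommRing D] (α : A →+* C) (φ : A →+* D)
    (hu : ∃! χ : C →+* D, χ.comp α = φ) :
    ∃! kU : Spec (CommRingCat.of D) ⟶ Spec (CommRingCat.of C),
      kU ≫ Spec.map (CommRingCat.ofHom α) = Spec.map (CommRingCat.ofHom φ) := by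
  obtain ⟨χ, hχ, huniq⟩ := hu
  refine ⟨Spec.map (CommRingCat.ofHom χ), ?_, fun m hm => ?_⟩
  · show Spec.map _ ≫ Spec.map _ = _
    rw [← Spec.map_comp, ← CommRingCat.ofHom_comp, hχ]
  · obtain ⟨r, rfl⟩ : ∃ r, Spec.map r = m := ⟨Spec.preimage m, Spec.map_preimage m⟩
    have : r.hom.comp α = φ := by
      have h1 : Spec.map r ≫ Spec.map (CommRingCat.ofHom α) = Spec.map (CommRingCat.ofHom φ) := hm
      rw [← Spec.map_comp] at h1
      exact congrArg CommRingCat.Hom.hom (Spec.map_injective h1)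
    rw [← huniq _ this]
    rfl

set_option maxHeartbeats 1000000 in
include o in
/-- The chart of an admissible formal blowing-up where one element generates. -/
theorem exists_chart (hK : K.FG) (hk : K ^ k ≤ 𝔞) (hc : ∀ n, IsClosedImmersion (o.π n))
    (hcker : ∀ n, (o.π n).ker = sheafOf (K ^ (n + 1)))
    {𝔛' : FSch.Sys.{u}} (h' : 𝔛'.IsFormal) (b : 𝔛' ⟶ 𝔛)
    (hb : FBlow.IsAdmBlowUp b h' h (o.idealOf h 𝔞)) {a : A} (ha : a ∈ 𝔞)
    {C : Type u} [CommRing C] (α : A →+* C) (hnzd : α a ∈ nonZeroDivisors C)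
    (hgenC : 𝔞.map α = Ideal.span {α a})
    (huniv : ∀ (B : Type u) [CommRing B] (φ : A →+* B), IsAdicComplete (K.map φ) B → φ a ∈ nonZeroDivisors B →
      𝔞.map φ = Ideal.span {φ a} → ∃! χ : C →+* B, χ.comp α = φ)
    {𝔓 : FSch.Sys.{u}} (hP : 𝔓.IsFormal) (e : ∀ n, 𝔓.X n ⟶ Spec (CommRingCat.of C))
    (he : ∀ n, IsClosedImmersion (e n)) (ecomm : ∀ n, 𝔓.ι n ≫ e (n + 1) = e n)
    (eker : ∀ n, (e n).ker = (sheafOf (K ^ (n + 1))).comap (Spec.map (CommRingCat.ofHom α))) (bC : 𝔓 ⟶ 𝔛)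
    (hbq : ∀ n, (bC : FSch.Hom 𝔓 𝔛).app n ≫ o.π n = e n ≫ Spec.map (CommRingCat.ofHom α)) :
    ∃ u : 𝔓 ⟶ 𝔛', u ≫ b = bC ∧ (∀ n, IsOpenImmersion ((u : FSch.Hom 𝔓 𝔛').app n)) ∧
      Set.range ((u : FSch.Hom 𝔓 𝔛').app 0).base =
        {x | ∃ U, x ∈ U ∧ (o.comp h b hb.1).GoodAt h' 𝔞 a U} := by
  obtain ⟨hbadic, hbinv, hbuniv⟩ := hb
  rw [o.idealMap_idealOf b hbadic] at hbinv
  set o' := o.comp h b hbadic with ho'
  -- the chart
  have hC := isAdicHom_of_closed o e he ecomm eker bC hbq hc hcker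
  have hCinv : (FBlow.idealMap bC hP h (o.idealOf h 𝔞)).IsInvertible :=
    isInvertible_completion o e he ecomm eker bC hbq hK hk h hP hC (by
      rw [Groth.BlowUpBasics.comap_sheafOf_Spec, hgenC]
      exact Groth.BlowUpBasics.isEffCartierIdeal_sheafOf_span hnzd)
  obtain ⟨u, hu, -⟩ := hbuniv 𝔓 hP bC hC hCinv
  rw [o.idealMap_idealOf bC hC] at hCinv
  set oC := o.comp h bC hC with hoC
  have hgenP : ∀ W : (𝔓.X 0).Opens, 𝔞.map (oC.φ hP W) = Ideal.span {oC.φ hP W a} := fun W => by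
    obtain ⟨ψ, hψ⟩ := exists_sharp hP e ecomm (⊤ : (Spec (CommRingCat.of C)).Opens) (U := W) (fun _ _ => trivial)
    rw [← oC.comp_eq_phi e (fun n => (hbq n).symm) ψ hψ, Groth.BlowUpBasics.phi_Spec, ← RingHom.comp_assoc,
      ← Ideal.map_map, hgenC, Ideal.map_span, Set.image_singleton]
    rfl
  have hbasisC : ∀ {x : 𝔓.X 0} {O : (𝔓.X 0).Opens}, x ∈ O → ∃ W, x ∈ W ∧ W ≤ O ∧ oC.GoodAt hP 𝔞 a W :=
    fun hx => by
      obtain ⟨W, h1, h2, h3⟩ := oC.exists_good hK hk hCinv hx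
      exact ⟨W, h1, h2, Over.Good.goodAt oC h3 (hgenP W)⟩
  -- the locus
  let L : (𝔛'.X 0).Opens := sSup {U | o'.GoodAt h' 𝔞 a U}
  have hmemL : ∀ {x}, x ∈ L ↔ ∃ U, x ∈ U ∧ o'.GoodAt h' 𝔞 a U := fun {x} => by
    refine TopologicalSpace.Opens.mem_sSup.trans ⟨?_, ?_⟩
    · rintro ⟨U, h1, h2⟩; exact ⟨U, h2, h1⟩
    · rintro ⟨U, h1, h2⟩; exact ⟨U, h2, h1⟩
  -- the chart lands in the locus
  have huL : ∀ y, ((u : FSch.Hom 𝔓 𝔛').app 0).base y ∈ L := fun y => by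
    obtain ⟨U, hxU, -, hU, g, hg, hgen⟩ :=
      o'.exists_good hK hk hbinv (x := ((u : FSch.Hom 𝔓 𝔛').app 0).base y) (O := ⊤) trivial
    obtain ⟨w, hw⟩ := Ideal.mem_span_singleton'.1 (hgen ▸ Ideal.mem_map_of_mem (o'.φ h' U) ha)
    obtain ⟨W, hyW, hWU, hWgood⟩ := hbasisC (x := y) (O := (u : FSch.Hom 𝔓 𝔛').app 0 ⁻¹ᵁ U) hxU
    have huadic : FSch.IsAdicHom u := fun n => IsPullback.of_bot
      (by have := hC n; rw [← hu] at this; exact this) ((u : FSch.Hom 𝔓 𝔛').comm n).symm (hbadic n)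
    let σ := (rs hP hWU).comp (shp hP h' u U)
    have hσ : σ.comp (o'.φ h' U) = oC.φ hP W := by
      refine (o'.sharp_φ hP u huadic U W hWU).trans (Over.φ_congr _ _ (fun n => ?_) W)
      show (u : FSch.Hom 𝔓 𝔛').app n ≫ (b : FSch.Hom 𝔛' 𝔛).app n ≫ o.π n = (bC : FSch.Hom 𝔓 𝔛).app n ≫ o.π n
      rw [← hu, ← Category.assoc]
      rfl
    have h1 : oC.φ hP W a = σ w * σ g := by rw [← hσ, RingHom.comp_apply, ← hw, map_mul]
    obtain ⟨z, hz⟩ := Ideal.mem_span_singleton'.1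
      (show σ g ∈ Ideal.span {oC.φ hP W a} by
        rw [← hWgood.2.2, ← hσ, ← Ideal.map_map, hgen]
        exact Ideal.mem_map_of_mem _ (Ideal.mem_span_singleton_self g))
    have hσw : IsUnit (σ w) := IsUnit.of_mul_eq_one z ((mul_cancel_right_mem_nonZeroDivisors hWgood.2.1).1
      (by rw [mul_assoc, hz, ← h1, one_mul]))
    refine hmemL.2 ⟨_, ?_, o'.goodAt_basicOpen hK hk hU hg hgen hw.symm⟩
    have hy : y ∈ 𝔓.lvU hP 0 W := (Groth.AdicLinTop.FormalLevels.toX_preimage_lvU hP 0 W).ge hyW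
    have hu0 : IsUnit (prj hP 0 W (σ w)) := hσw.map _
    show y ∈ (u : FSch.Hom 𝔓 𝔛').app 0 ⁻¹ᵁ (𝔛'.X 0).basicOpen (prj h' 0 U w)
    rw [Scheme.preimage_basicOpen]
    have hy' : y ∈ (u : FSch.Hom 𝔓 𝔛').app 0 ⁻¹ᵁ 𝔛'.lvU h' 0 U :=
      (Groth.AdicLinTop.FormalLevels.toX_preimage_lvU h' 0 U).ge hxU
    refine ((𝔓.X 0).mem_basicOpen _ y hy').2 ?_
    refine (congrArg IsUnit ?_).mp (hu0.map ((𝔓.X 0).presheaf.germ _ y hy).hom)
    rw [RingHom.comp_apply, prj_rs, prj_shp]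
    show ((𝔓.X 0).presheaf.map _ ≫ (𝔓.X 0).presheaf.germ _ y hy)
      ((((u : FSch.Hom 𝔓 𝔛').app 0).app _ ≫ (𝔓.X 0).presheaf.map _) (prj h' 0 U w)) = _
    rw [TopCat.Presheaf.germ_res, ← CategoryTheory.comp_apply, Category.assoc, TopCat.Presheaf.germ_res]
    rfl
  -- the restricted system
  have hL := isFormal_restrictOpen' h' L
  set ιL := 𝔛'.restrictOpenι h' L with hιL
  have hιadic := isAdicHom_restrictOpenι h' L
  have hgL := isAdicHom_comp hιadic hbadic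
  set oL := o.comp h (ιL ≫ b) hgL with hoL
  have hφL : ∀ U, oL.φ hL U = (o'.comp h' ιL hιadic).φ hL U := fun U => Over.φ_congr _ _ (fun n => by
    show ((ιL ≫ b : _ ⟶ 𝔛) : FSch.Hom _ 𝔛).app n ≫ o.π n = _
    exact Category.assoc _ _ _) U
  have hbasisL : ∀ {x : (𝔛'.restrictOpen h' L).X 0} {O : ((𝔛'.restrictOpen h' L).X 0).Opens}, x ∈ O →
      ∃ W, x ∈ W ∧ W ≤ O ∧ oL.GoodAt hL 𝔞 a W := by
    intro x O hxO
    set j := (ιL : FSch.Hom _ 𝔛').app 0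
    have : IsOpenImmersion j := inferInstanceAs (IsOpenImmersion (𝔛'.lvU h' 0 L).ι)
    have hxL : j.base x ∈ L := (Groth.AdicLinTop.FormalLevels.toX_preimage_lvU h' 0 L).le x.2
    obtain ⟨U, hxU, hU⟩ := hmemL.1 hxL
    obtain ⟨_, ⟨W, hW, rfl⟩, hxW, hle⟩ := (𝔛'.X 0).isBasis_affineOpens.exists_subset_of_mem_open
      (show j.base x ∈ U ⊓ (L ⊓ j ''ᵁ O) from ⟨hxU, hxL, x, hxO, rfl⟩) (U ⊓ (L ⊓ j ''ᵁ O)).isOpen
    have hWU : W ≤ U := fun z hz => (hle hz).1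
    have hWL : W ≤ L := fun z hz => (hle hz).2.1
    have hWO : W ≤ j ''ᵁ O := fun z hz => (hle hz).2.2
    have hgood := Over.GoodAt.preimage o' hWL (Over.GoodAt.mono o' hK hk hU hW hWU) hL
    refine ⟨j ⁻¹ᵁ W, hxW, ?_, ?_⟩
    · exact (Scheme.Hom.preimage_mono _ hWO).trans (j.preimage_image_eq O).le
    · rw [Over.GoodAt, hφL]
      exact hgood
  -- maps to the chart
  have hlift : ∀ {𝔜 : FSch.Sys.{u}} (hY : 𝔜.IsFormal) (oY : Over 𝔜 K) (W : (𝔜.X 0).Opens),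
      oY.GoodAt hY 𝔞 a W → ∃! kU : Spec (CommRingCat.of (Sec hY W)) ⟶ Spec (CommRingCat.of C),
        kU ≫ Spec.map (CommRingCat.ofHom α) = Spec.map (CommRingCat.ofHom (oY.φ hY W)) := fun hY oY W hW =>
    existsUnique_spec_lift α _ (huniv _ _ (oY.adic hK hW.1).1 hW.2.1 hW.2.2)
  obtain ⟨v, hv, -⟩ := existsUnique_hom_of_lifts h o hc e he ecomm eker bC hbq hL (ιL ≫ b) hgL
    (oL.GoodAt hL 𝔞 a) (fun W hW => hW.1) hbasisL (fun W hW => hlift hL oL W hW)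
  -- the factorisation
  have hrange : ∀ n, Set.range ((u : FSch.Hom 𝔓 𝔛').app n).base ⊆ Set.range (𝔛'.lvU h' n L).ι.base := by
    rintro n _ ⟨z, rfl⟩
    rw [Scheme.Opens.range_ι]
    have h1 := congr($(FSch.Hom.base_gInv u hP h' n) z)
    show (𝔛'.gInv h' n).hom (((u : FSch.Hom 𝔓 𝔛').app n).base z) ∈ L
    exact (congrArg (· ∈ L) h1).mpr (huL _)
  let u' : 𝔓 ⟶ 𝔛'.restrictOpen h' L :=
    ⟨fun n => IsOpenImmersion.lift (𝔛'.lvU h' n L).ι ((u : FSch.Hom 𝔓 𝔛').app n) (hrange n), fun n => by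
      rw [← cancel_mono (𝔛'.lvU h' (n + 1) L).ι]
      show (_ ≫ (𝔛'.ι n).resLE _ _ _) ≫ _ = _
      rw [Category.assoc, Scheme.Hom.resLE_comp_ι, IsOpenImmersion.lift_fac_assoc, Category.assoc,
        IsOpenImmersion.lift_fac]
      exact (u : FSch.Hom 𝔓 𝔛').comm n⟩
  have hu'ι : u' ≫ ιL = u := FSch.Hom.ext (funext fun n => IsOpenImmersion.lift_fac _ _ _)
  have hu'v : u' ≫ v = 𝟙 𝔓 := by
    obtain ⟨k₀, -, huniq⟩ := existsUnique_hom_of_lifts h o hc e he ecomm eker bC hbq hP bC hC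
      (oC.GoodAt hP 𝔞 a) (fun W hW => hW.1) hbasisC (fun W hW => hlift hP oC W hW)
    refine (huniq _ ?_).trans (huniq _ (Category.id_comp _)).symm
    show (u' ≫ v) ≫ bC = bC
    rw [Category.assoc, hv, ← Category.assoc, hu'ι, hu]
  have hinvL : (FBlow.idealMap (ιL ≫ b) hL h (o.idealOf h 𝔞)).IsInvertible := by
    rw [o.idealMap_idealOf (ιL ≫ b) hgL]
    refine oL.isInvertible_of_good hK hk fun x => ?_
    obtain ⟨W, h1, -, h2, h3, h4⟩ := hbasisL (x := x) (O := ⊤) trivial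
    exact ⟨W, h1, h2, _, h3, h4⟩
  have hvu : v ≫ u' = 𝟙 _ := by
    obtain ⟨k₀, -, huniq⟩ := hbuniv _ hL (ιL ≫ b) hgL hinvL
    have h1 : v ≫ u = ιL := (huniq _ (by show (v ≫ u) ≫ b = _; rw [Category.assoc, hu, hv])).trans
      (huniq ιL rfl).symm
    refine FSch.Hom.ext (funext fun n => ?_)
    rw [← cancel_mono (𝔛'.lvU h' n L).ι]
    have h2 := congrArg (fun φ => (φ : FSch.Hom _ _).app n) (h1.trans (Category.id_comp ιL).symm)
    have h3 := congrArg (fun φ => (φ : FSch.Hom _ _).app n) hu'ι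
    exact (Category.assoc _ _ _).trans ((congrArg (_ ≫ ·) h3).trans h2)
  have hiso : ∀ n, IsIso ((u' : FSch.Hom _ _).app n) := fun n => ⟨(v : FSch.Hom _ _).app n,
    congrArg (fun φ => (φ : FSch.Hom _ _).app n) hu'v, congrArg (fun φ => (φ : FSch.Hom _ _).app n) hvu⟩
  refine ⟨u, hu, fun n => ?_, Set.ext fun x => ⟨?_, fun hx => ?_⟩⟩
  · have := hiso n
    rw [← hu'ι]
    show IsOpenImmersion ((u' : FSch.Hom _ _).app n ≫ (𝔛'.lvU h' n L).ι)
    infer_instance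
  · rintro ⟨y, rfl⟩
    exact hmemL.1 (huL y)
  · have := hiso 0
    obtain ⟨z, hz⟩ : x ∈ Set.range (𝔛'.lvU h' 0 L).ι.base := by
      rw [Scheme.Opens.range_ι]
      exact (Groth.AdicLinTop.FormalLevels.toX_preimage_lvU h' 0 L).ge (hmemL.2 hx)
    obtain ⟨y, hy⟩ := ((u' : FSch.Hom _ _).app 0).surjective z
    exact ⟨y, (congr($(congrArg (fun φ => ((φ : FSch.Hom _ _).app 0).base) hu'ι) y)).symm.trans
      ((congrArg _ hy).trans hz)⟩

end Groth.FBlowLib
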