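import Groth.Agent.TopFinType.Local
import Groth.Agent.TopFinType.Consequences

/-!
# Chart algebras of admissible algebras are admissible; Artin–Rees for torsion-free algebras
-/

set_option autoImplicit false
set_option backward.isDefEq.respectTransparency false
set_option backward.isDefEq.respectTransparency.types false
set_option linter.style.haveILetI false

universe u

open AdicRing

namespace Groth.FBlowLib

open Groth.TopFinType

variable {R : Type u} [CommRing R] {I : Ideal R}

/-- In an algebra topologically of finite type without torsion, elements carried deep by `I` are deep. -/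
theorem exists_ar_of_noPowTorsion (hR : IsBase R I) {C : Type u} [CommRing C] [Algebra R C]
    (hC : TopFiniteType R I C) (hT : NoPowTorsion I C) :
    ∃ n₀ : ℕ, ∀ (m : ℕ) (x : C), (∀ a ∈ I.map (algebraMap R C), a * x ∈ (I.map (algebraMap R C)) ^ (m + n₀)) →
      x ∈ (I.map (algebraMap R C)) ^ m := by
  classical
  obtain ⟨s, b, hb⟩ := Submodule.fg_iff_exists_fin_generating_family.1 (fg_of_isBase hR)
  let μ : C →ₗ[C] Fin s → C := LinearMap.pi fun l => (algebraMap R C (b l)) • LinearMap.id
  have hμ : ∀ x l, μ x l = algebraMap R C (b l) * x := fun _ _ => rfl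
  have hinj : Function.Injective μ := fun x y hxy => sub_eq_zero.1 (hT _ 1 fun a ha => by
    rw [pow_one, ← hb] at ha
    induction ha using Submodule.span_induction with
    | mem a ha =>
      obtain ⟨l, rfl⟩ := ha
      rw [Algebra.smul_def, mul_sub, ← hμ, ← hμ, hxy, sub_self]
    | zero => exact zero_smul _ _
    | add p q _ _ hp hq => rw [add_smul, hp, hq, add_zero]
    | smul r p _ hp => rw [smul_assoc, hp, smul_zero])
  haveI : Algebra.FiniteType C C := ⟨⟨∅, Subsingleton.elim _ _⟩⟩
  obtain ⟨N₀, hN₀, -, n₀, h⟩ := hasAR hR hC (B := C) (LinearMap.range μ)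
  refine ⟨n₀, fun m x hx => ?_⟩
  have h1 : μ x ∈ (I.map (algebraMap R C)) ^ (m + n₀) • (⊤ : Submodule C (Fin s → C)) := by
    have hsum : μ x = ∑ l, (μ x l) • (Pi.single l (1 : C) : Fin s → C) := by
      funext l
      simp [Finset.sum_apply, Pi.single_apply]
    rw [hsum]
    refine Submodule.sum_mem _ fun l _ => Submodule.smul_mem_smul ?_ trivial
    rw [hμ]
    exact hx _ (Ideal.mem_map_of_mem _ (hb ▸ Submodule.subset_span ⟨l, rfl⟩))
  have h2 : μ x ∈ (I.map (algebraMap R C)) ^ m • LinearMap.range μ :=
    Submodule.smul_mono le_rfl hN₀ (h m ⟨h1, ⟨x, rfl⟩⟩)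
  rw [LinearMap.range_eq_map, ← Submodule.map_smul''] at h2
  obtain ⟨y, hy, hyx⟩ := h2
  rw [← hinj hyx]
  simpa using hy

variable {A : Type u} [CommRing A] [Algebra R A] {r : ℕ} (g : Fin (r + 1) → A) (i : Fin (r + 1))

theorem topFiniteType_chartCompl (hR : IsBase R I) (hA : TopFiniteType R I A) :
    TopFiniteType R I (chartCompl I g i) := by
  have hI := fg_of_isBase hR
  haveI : IsAdicComplete (I.map (algebraMap R (chartCompl I g i))) (chartCompl I g i) := by
    rw [show algebraMap R (chartCompl I g i) = (algebraMap (chartAlg g i) (chartCompl I g i)).comp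
      (algebraMap R (chartAlg g i)) from IsScalarTower.algebraMap_eq _ _ _, ← Ideal.map_map]
    exact Groth.AdicLinTop.CompletionQuot.isAdicComplete_map _ (hI.map _)
  haveI := isAdicComplete_map_self hR hA
  refine (topFiniteType_iff_redMap hI).2 ((redMap_completion_iff (I := I) RingHom.finiteType_respectsIso hI 1 _).2 ?_)
  have hA1 := (topFiniteType_iff_redMap hI).1 hA
  haveI : Algebra.FiniteType A (chartAlg g i) :=
    Algebra.FiniteType.of_surjective (Ideal.Quotient.mkₐ A _) Ideal.Quotient.mk_surjective
  let q : A ⧸ (I ^ 1).map (algebraMap R A) →+* chartAlg g i ⧸ (I ^ 1).map (algebraMap R (chartAlg g i)) :=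
    Ideal.quotientMap _ (algebraMap A (chartAlg g i)) (by
      rw [← Ideal.map_le_iff_le_comap, Ideal.map_map, ← IsScalarTower.algebraMap_eq])
  have hq : @RingHom.FiniteType (A ⧸ (I ^ 1).map (algebraMap R A))
      (chartAlg g i ⧸ (I ^ 1).map (algebraMap R (chartAlg g i))) _ _ q := by
    refine RingHom.FiniteType.of_comp_finiteType (f := Ideal.Quotient.mk ((I ^ 1).map (algebraMap R A))) ?_
    rw [show q.comp (Ideal.Quotient.mk _) =
      (Ideal.Quotient.mk ((I ^ 1).map (algebraMap R (chartAlg g i)))).comp (algebraMap A (chartAlg g i)) from rfl]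
    exact (RingHom.FiniteType.of_surjective _ Ideal.Quotient.mk_surjective).comp
      (RingHom.finiteType_algebraMap.2 inferInstance)
  rw [show redMap (I ^ 1) (chartAlg g i) = q.comp (redMap (I ^ 1) A) from
    Ideal.Quotient.ringHom_ext (RingHom.ext fun x => congrArg (Ideal.Quotient.mk _)
      (IsScalarTower.algebraMap_apply R A (chartAlg g i) x))]
  exact hq.comp hA1

theorem topFiniteType_chartAdm (hR : IsBase R I) (hA : TopFiniteType R I A) :
    TopFiniteType R I (chartAdm I g i) := by
  obtain ⟨n, φ, hφ⟩ := topFiniteType_chartCompl g i hR hA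
  exact ⟨n, (Ideal.Quotient.mkₐ R _).comp φ, Ideal.Quotient.mk_surjective.comp hφ⟩

theorem noPowTorsion_chartAdm (hR : IsBase R I) (hA : Admissible R I A) (k : ℕ)
    (hopen : (I ^ k).map (algebraMap R A) ≤ Ideal.span (Set.range g)) :
    NoPowTorsion I (chartAdm I g i) := by
  intro x n hx
  obtain ⟨z, rfl⟩ := Ideal.Quotient.mk_surjective x
  let π := algebraMap A (chartCompl I g i) (g i)
  have hdir : Directed (· ≤ ·) fun m : ℕ => Submodule.torsionBy (chartCompl I g i) (chartCompl I g i) (π ^ m) :=
    Monotone.directed_le fun a b hab => Submodule.torsionBy_le_torsionBy_of_dvd _ _ (pow_dvd_pow _ hab)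
  have key : ∀ w, Ideal.Quotient.mk _ w = (0 : chartAdm I g i) ↔ ∃ m, π ^ m * w = 0 := fun w => by
    rw [Ideal.Quotient.eq_zero_iff_mem]
    exact (Submodule.mem_iSup_of_directed _ hdir).trans (exists_congr fun m => Submodule.mem_torsionBy_iff _ _)
  refine (key z).2 ((torsion_chartCompl g hR hA k hopen i z).1 ?_)
  have hb : ∀ a ∈ I ^ n, ∃ m, ∀ c ∈ I ^ m, c • (a • z) = 0 := fun a ha =>
    (torsion_chartCompl g hR hA k hopen i _).2 ((key _).1 (hx a ha))
  obtain ⟨S, hS⟩ := Submodule.FG.pow (fg_of_isBase hR) n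
  classical
  choose m hm using fun a : S => hb a.1 (hS ▸ Submodule.subset_span a.2)
  refine ⟨Finset.univ.sup m + n, fun a ha => ?_⟩
  rw [pow_add] at ha
  induction ha using Submodule.mul_induction_on' with
  | mem_mul_mem c hc a ha =>
    rw [← hS] at ha
    induction ha using Submodule.span_induction with
    | mem a ha =>
      rw [mul_smul]
      exact hm ⟨a, ha⟩ _ (Ideal.pow_le_pow_right (Finset.le_sup (Finset.mem_univ _)) hc)
    | zero => rw [mul_zero, zero_smul]
    | add p q _ _ hp hq => rw [mul_add, add_smul, hp, hq, add_zero]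
    | smul t p _ hp => rw [smul_eq_mul, mul_left_comm, mul_smul, hp, smul_zero]
  | add p _ q _ hp hq => rw [add_smul, hp, hq, add_zero]

theorem admissible_chartAdm (hR : IsBase R I) (hA : Admissible R I A) (k : ℕ)
    (hopen : (I ^ k).map (algebraMap R A) ≤ Ideal.span (Set.range g)) :
    Admissible R I (chartAdm I g i) :=
  have hT := noPowTorsion_chartAdm g i hR hA k hopen
  ⟨topFinitePresentation_of_noPowTorsion hR
    (topFiniteType_chartAdm g i hR (topFiniteType_of_topFinitePresentation hA.1)) hT, hT⟩

end Groth.FBlowLib
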