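import Groth.Prelude.Def_W4bk4boschfrg79

/-!
# The chart algebras: the centre is generated by a nonzerodivisor
-/

set_option autoImplicit false

universe u v

namespace Groth.FBlowLib

variable {R : Type u} {A : Type u} [CommRing R] [CommRing A] [Algebra R A] (I : Ideal R)

theorem chartAdm_mk_nzd {C : Type u} [CommRing C] (a : C) (z : C)
    (hz : z * a ∈ (⨆ n : ℕ, Submodule.torsionBy C C (a ^ n) : Ideal C)) :
    z ∈ (⨆ n : ℕ, Submodule.torsionBy C C (a ^ n) : Ideal C) := by
  have hdir : Directed (· ≤ ·) fun n : ℕ => Submodule.torsionBy C C (a ^ n) :=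
    Monotone.directed_le fun n m hnm => Submodule.torsionBy_le_torsionBy_of_dvd _ _ (pow_dvd_pow _ hnm)
  obtain ⟨n, hn⟩ := (Submodule.mem_iSup_of_directed _ hdir).1 hz
  refine Submodule.mem_iSup_of_mem (n + 1) ?_
  rw [Submodule.mem_torsionBy_iff, smul_eq_mul] at hn ⊢
  rw [← hn, pow_succ]
  ring

/-- In the chart algebra the chosen generator is a nonzerodivisor dividing all the others. -/
theorem chartAdm_gen {ι : Type} (f : ι → A) (i : ι) :
    algebraMap A (AdicRing.chartAdm I f i) (f i) ∈ nonZeroDivisors (AdicRing.chartAdm I f i) ∧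
      ∀ j, algebraMap A (AdicRing.chartAdm I f i) (f i) ∣ algebraMap A (AdicRing.chartAdm I f i) (f j) := by
  have hcompl : ∀ j, algebraMap A (AdicRing.chartCompl I f i) (f i) ∣ algebraMap A (AdicRing.chartCompl I f i) (f j) := by
    intro j
    rw [IsScalarTower.algebraMap_apply A (AdicRing.chartAlg f i) (AdicRing.chartCompl I f i),
      IsScalarTower.algebraMap_apply A (AdicRing.chartAlg f i) (AdicRing.chartCompl I f i)]
    refine map_dvd _ ?_
    by_cases hj : j = i
    · rw [hj]
    let S := Ideal.span (Set.range fun j : {j // j ≠ i} =>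
      MvPolynomial.C (f i) * MvPolynomial.X j - MvPolynomial.C (f j.1))
    let z : {j // j ≠ i} := ⟨j, hj⟩
    exact ⟨Ideal.Quotient.mk S (MvPolynomial.X z),
      (Ideal.Quotient.eq.2 (Ideal.subset_span (s := Set.range fun j : {j // j ≠ i} =>
        MvPolynomial.C (f i) * MvPolynomial.X j - MvPolynomial.C (f j.1)) ⟨z, rfl⟩)).symm⟩
  refine ⟨mem_nonZeroDivisors_iff_right.2 fun x hx => ?_, fun j => ?_⟩
  · obtain ⟨z, rfl⟩ := Ideal.Quotient.mk_surjective x
    exact Ideal.Quotient.eq_zero_iff_mem.2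
      (chartAdm_mk_nzd (algebraMap A (AdicRing.chartCompl I f i) (f i)) z (Ideal.Quotient.eq_zero_iff_mem.1 hx))
  · obtain ⟨c, hc⟩ := hcompl j
    exact ⟨Ideal.Quotient.mk _ c, (congrArg (Ideal.Quotient.mk _) hc).trans (map_mul _ _ _)⟩

end Groth.FBlowLib
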