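import Groth.Agent.FBlowLib.Prod

/-!
# Open ideals of finite type at a uniform level
-/

set_option autoImplicit false
set_option backward.isDefEq.respectTransparency false
set_option backward.isDefEq.respectTransparency.types false

universe u

open CategoryTheory CategoryTheory.Limits AlgebraicGeometry TopologicalSpace Opposite

namespace Groth.FBlowLib

variable {A : Type u} [CommRing A] {K : Ideal A} {𝔛 : FSch.Sys.{u}} {h : 𝔛.IsFormal}

/-- An open ideal sheaf containing the kernel of level `n`, quasi-coherent of finite type on affine opens. -/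
structure IsLevel (n : ℕ) (J : FBlow.IdealSh (𝔛.Osh h)) : Prop where
  ker_le : ∀ D : (𝔛.X 0).Opens, RingHom.ker (prj h n D) ≤ J.sect D
  fg : ∀ D : (𝔛.X 0).Opens, IsAffineOpen D → (J.sect D).FG
  map_eq : ∀ (D D' : (𝔛.X 0).Opens) (e : D' ≤ D), IsAffineOpen D → IsAffineOpen D' →
    J.sect D' = (J.sect D).map (rs h e)

variable {J L : FBlow.IdealSh (𝔛.Osh h)} {n m : ℕ}

theorem IsLevel.small (hJ : IsLevel n J) (x : 𝔛.X 0) :
    ∃ (U : (𝔛.X 0).Opens) (𝔞 : Ideal (Sec h U)), IsAffineOpen U ∧ x ∈ U ∧ 𝔞.FG ∧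
      ∀ (D : (𝔛.X 0).Opens) (e : D ≤ U), IsAffineOpen D →
        J.sect D = 𝔞.map (rs h e) ∧ RingHom.ker (prj h n D) ≤ J.sect D := by
  obtain ⟨_, ⟨U, hU, rfl⟩, hxU, -⟩ := (𝔛.X 0).isBasis_affineOpens.exists_subset_of_mem_open
    (show x ∈ (⊤ : (𝔛.X 0).Opens) from trivial) (⊤ : (𝔛.X 0).Opens).isOpen
  exact ⟨U, J.sect U, hU, hxU, hJ.fg U hU, fun D e hD => ⟨hJ.map_eq U D e hU hD, hJ.ker_le D⟩⟩

theorem IsLevel.isCohOpen (hJ : IsLevel n J) : FBlow.IsCohOpen 𝔛 h J :=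
  isCohOpen_of_small hJ.small

theorem fg_of_fg_map_of_fg_ker {B C : Type*} [CommRing B] [CommRing C] (f : B →+* C) (hf : Function.Surjective f)
    (I : Ideal B) (h1 : (I.map f).FG) (h2 : (RingHom.ker f).FG) (hle : RingHom.ker f ≤ I) : I.FG := by
  obtain ⟨S, hS⟩ := h1
  classical
  choose l hl using hf
  have key : I = Ideal.span ↑(S.image l) ⊔ RingHom.ker f := by
    refine le_antisymm (fun x hx => ?_) (sup_le (Ideal.span_le.2 fun z hz => ?_) hle)
    · have h3 : f x ∈ (Ideal.span ↑(S.image l)).map f := by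
        rw [Ideal.map_span, Finset.coe_image, ← Set.image_comp, show f ∘ l = id from funext hl, Set.image_id]
        show f x ∈ Ideal.span ↑S
        rw [hS]
        exact Ideal.mem_map_of_mem f hx
      obtain ⟨y, hy, hyx⟩ := (Ideal.mem_map_iff_of_surjective f fun z => ⟨l z, hl z⟩).1 h3
      exact Submodule.mem_sup.2 ⟨y, hy, x - y, by rw [RingHom.mem_ker, map_sub, hyx, sub_self], by ring⟩
    · rw [Finset.coe_image] at hz
      obtain ⟨s, hs, rfl⟩ := hz
      have h4 : f (l s) ∈ I.map f := by rw [hl, ← hS]; exact Submodule.subset_span hs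
      exact mem_of_comap_map (fun z => ⟨l z, hl z⟩) _ hle h4
  rw [key]
  exact Submodule.FG.sup ⟨_, rfl⟩ h2

theorem isLevel_of_small (o : Over 𝔛 K) (hK : K.FG)
    (hsmall : ∀ (x : 𝔛.X 0), ∃ (U : (𝔛.X 0).Opens) (𝔞 : Ideal (Sec h U)), IsAffineOpen U ∧ x ∈ U ∧ 𝔞.FG ∧
      ∀ (D : (𝔛.X 0).Opens) (e : D ≤ U), IsAffineOpen D →
        J.sect D = 𝔞.map (rs h e) ∧ RingHom.ker (prj h n D) ≤ J.sect D) :
    IsLevel n J where
  ker_le := ker_prj_le_sect hsmall
  fg D hD := fg_of_fg_map_of_fg_ker _ (prj_surjective hD n) _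
    (by rw [← ideal_levelData hsmall D hD]; exact idealFT_levelData hsmall _)
    (by rw [o.ker_prj hK hD]; exact Ideal.FG.map (Ideal.FG.pow hK) _) (ker_prj_le_sect hsmall D)
  map_eq D D' e hD hD' := by
    refine le_antisymm (fun s hs => mem_of_comap_map (prj_surjective hD' n) _ ?_ ?_) ?_
    · rw [o.ker_prj hK hD', ← o.rs_φ h e, ← Ideal.map_map, ← o.ker_prj hK hD]
      exact Ideal.map_mono (ker_prj_le_sect hsmall D)
    · have h1 : prj h n D' s ∈ ((J.sect D').map (prj h n D')) := Ideal.mem_map_of_mem _ hs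
      rw [← ideal_levelData hsmall D' hD', ← (levelData hsmall).map_ideal
        (U := ⟨_, Groth.AdicLinTop.FormalLevels.isAffineOpen_lvU h hD' n⟩)
        (V := ⟨_, Groth.AdicLinTop.FormalLevels.isAffineOpen_lvU h hD n⟩) (FBlow.lvU_mono 𝔛 h n e),
        ideal_levelData hsmall D hD] at h1
      rw [Ideal.map_map, show (prj h n D').comp (rs h e) = (lrs h n e).comp (prj h n D) from
        RingHom.ext fun a => prj_rs n e a, ← Ideal.map_map]
      exact h1
    · exact Ideal.map_le_iff_le_comap.2 fun a ha => J.map_mem e ha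

/-- On a quasi-compact formal system a coherent open ideal has a uniform level. -/
theorem exists_isLevel [CompactSpace (𝔛.X 0)] (o : Over 𝔛 K) (hK : K.FG) (hJ : FBlow.IsCohOpen 𝔛 h J) :
    ∃ n, IsLevel n J :=
  (exists_uniform_level o hK hJ).imp fun _ hn => isLevel_of_small o hK hn

theorem IsLevel.eq_ofLevel (hJ : IsLevel n J) : J = FBlow.ofLevel 𝔛 h n (levelData hJ.small) :=
  FBlow.IdealSh.ext (funext (sect_eq_ofLevel_levelData hJ.small))

theorem IsLevel.ker_le_map (hJ : IsLevel n J) (o : Over 𝔛 K) (hK : K.FG) {D : (𝔛.X 0).Opens}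
    (hD : IsAffineOpen D) : (K ^ (n + 1)).map (o.φ h D) ≤ J.sect D :=
  o.ker_prj hK hD n ▸ hJ.ker_le D

theorem sect_mul_eq (o : Over 𝔛 K) (hK : K.FG) (hJ : IsLevel n J) (hL : IsLevel m L) {D : (𝔛.X 0).Opens}
    (hD : IsAffineOpen D) : (FBlow.IdealSh.mul J L).sect D = J.sect D * L.sect D := by
  refine le_antisymm (fun s hs => ?_) (Ideal.mul_le.2 fun a ha b hb => mem_mul ha hb)
  refine mem_map_of_local hD (n + m + 1) _ ?_ s fun x hx => ?_
  · rw [o.ker_prj hK hD, show n + m + 1 + 1 = (n + 1) + (m + 1) by omega, pow_add, Ideal.map_mul]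
    exact Ideal.mul_mono (hJ.ker_le_map o hK hD) (hL.ker_le_map o hK hD)
  obtain ⟨W, i, hxW, hW⟩ := (FBlow.IdealSh.mem_gen_iff _ D s).1 hs x hx
  obtain ⟨_, ⟨D', hD', rfl⟩, hxD', hle⟩ := (𝔛.X 0).isBasis_affineOpens.exists_subset_of_mem_open hxW W.isOpen
  have hDW : D' ≤ W := hle
  refine ⟨D', hDW.trans i, hxD', hD', ?_⟩
  rw [Ideal.map_mul, ← hJ.map_eq D D' _ hD hD', ← hL.map_eq D D' _ hD hD']
  have h1 := FBlow.IdealSh.map_span_seed hDW hW
  rw [FBlow.IdealSh.map_comp_apply] at h1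
  refine Ideal.span_le.2 ?_ h1
  rintro _ ⟨W₁, j, _, ⟨a, ha, b, hb, rfl⟩, rfl⟩
  show rs h j (a * b) ∈ _
  rw [map_mul]
  exact Ideal.mul_mem_mul (J.map_mem j ha) (L.map_mem j hb)

/-- Levels add up in products. -/
theorem IsLevel.mul (o : Over 𝔛 K) (hK : K.FG) (hJ : IsLevel n J) (hL : IsLevel m L) :
    IsLevel (n + m + 1) (FBlow.IdealSh.mul J L) := by
  refine isLevel_of_small o hK fun x => ?_
  obtain ⟨_, ⟨U, hU, rfl⟩, hxU, -⟩ := (𝔛.X 0).isBasis_affineOpens.exists_subset_of_mem_open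
    (show x ∈ (⊤ : (𝔛.X 0).Opens) from trivial) (⊤ : (𝔛.X 0).Opens).isOpen
  refine ⟨U, J.sect U * L.sect U, hU, hxU, Submodule.FG.mul (hJ.fg U hU) (hL.fg U hU), fun D e hD => ?_⟩
  rw [sect_mul_eq o hK hJ hL hD]
  refine ⟨by rw [Ideal.map_mul, ← hJ.map_eq U D e hU hD, ← hL.map_eq U D e hU hD], ?_⟩
  rw [o.ker_prj hK hD, show n + m + 1 + 1 = (n + 1) + (m + 1) by omega, pow_add, Ideal.map_mul]
  exact Ideal.mul_mono (hJ.ker_le_map o hK hD) (hL.ker_le_map o hK hD)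

/-- Products of coherent open ideals on a quasi-compact formal system are coherent open. -/
theorem isCohOpen_mul [CompactSpace (𝔛.X 0)] (o : Over 𝔛 K) (hK : K.FG) (hJ : FBlow.IsCohOpen 𝔛 h J)
    (hL : FBlow.IsCohOpen 𝔛 h L) : FBlow.IsCohOpen 𝔛 h (FBlow.IdealSh.mul J L) := by
  obtain ⟨n, hn⟩ := exists_isLevel o hK hJ
  obtain ⟨m, hm⟩ := exists_isLevel o hK hL
  exact (hn.mul o hK hm).isCohOpen

end Groth.FBlowLib
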