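import Groth.Agent.FBlowLib.LocalChart
import Groth.Agent.FBlowLib.BlowAdm
import Groth.Agent.FBlowLib.IsLevel
import Groth.Agent.AdicLinTop.CompletionQuot

/-!
# The charts of an admissible formal blowing-up over an affine open, with their generators
-/

set_option autoImplicit false
set_option backward.isDefEq.respectTransparency false
set_option backward.isDefEq.respectTransparency.types false
set_option linter.style.haveILetI false

universe u

open CategoryTheory CategoryTheory.Limits AlgebraicGeometry TopologicalSpace Opposite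
open Groth.BlowUpBasics (sheafOf phi)

namespace Groth.FBlowLib

theorem exists_frac_repr {A C σ : Type*} [CommRing A] [CommRing C] (α : A →+* C) (g : MvPolynomial σ A →+* C)
    (f : σ → A) (a₀ : A) (𝔞 : Ideal A) (hf : ∀ s, f s ∈ 𝔞) (ha₀ : a₀ ∈ 𝔞)
    (hgC : ∀ c, g (MvPolynomial.C c) = α c) (hgX : ∀ s, α (f s) = g (MvPolynomial.X s) * α a₀)
    (p : MvPolynomial σ A) : ∃ (d : ℕ) (a : A), a ∈ 𝔞 ^ d ∧ α a = g p * α a₀ ^ d := by
  induction p using MvPolynomial.induction_on with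
  | C c => exact ⟨0, c, by simp, by simp [hgC]⟩
  | add p₁ p₂ h₁ h₂ =>
    obtain ⟨d₁, a₁, ha₁, e₁⟩ := h₁
    obtain ⟨d₂, a₂, ha₂, e₂⟩ := h₂
    refine ⟨d₁ + d₂, a₁ * a₀ ^ d₂ + a₂ * a₀ ^ d₁, Ideal.add_mem _ ?_ ?_, ?_⟩
    · rw [pow_add]
      exact Ideal.mul_mem_mul ha₁ (Ideal.pow_mem_pow ha₀ _)
    · rw [pow_add, mul_comm (𝔞 ^ d₁)]
      exact Ideal.mul_mem_mul ha₂ (Ideal.pow_mem_pow ha₀ _)
    · rw [map_add, map_add, map_mul, map_mul, map_pow, map_pow, e₁, e₂, pow_add]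
      ring
  | mul_X p s h₁ =>
    obtain ⟨d, a, ha, e⟩ := h₁
    refine ⟨d + 1, a * f s, ?_, ?_⟩
    · rw [pow_succ]
      exact Ideal.mul_mem_mul ha (hf s)
    · rw [map_mul, map_mul, e, hgX s, pow_succ]
      ring

theorem mem_map_pow_quotient {R B : Type*} [CommRing R] [CommRing B] (φ : R →+* B) (I : Ideal R) (T : Ideal B)
    (m : ℕ) (y q : B) (hq : y - q ∈ (I.map φ) ^ m) :
    Ideal.Quotient.mk T q - Ideal.Quotient.mk T y ∈ (I ^ m).map ((Ideal.Quotient.mk T).comp φ) := by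
  rw [← neg_sub, ← map_sub, ← Ideal.map_map, Ideal.map_pow φ]
  exact Submodule.neg_mem _ (Ideal.mem_map_of_mem _ hq)

theorem algebraMap_tower_quotient {A B σ : Type*} [CommRing A] (T₀ : Ideal (MvPolynomial σ A)) [CommRing B]
    [Algebra A B] [Algebra (MvPolynomial σ A ⧸ T₀) B] [IsScalarTower A (MvPolynomial σ A ⧸ T₀) B] (T : Ideal B)
    (c : A) : Ideal.Quotient.mk T (algebraMap (MvPolynomial σ A ⧸ T₀) B (Ideal.Quotient.mk T₀ (MvPolynomial.C c))) =
      algebraMap A (B ⧸ T) c :=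
  congrArg (Ideal.Quotient.mk T) (IsScalarTower.algebraMap_apply A (MvPolynomial σ A ⧸ T₀) B c).symm

set_option maxHeartbeats 1000000 in
/-- Modulo a power of the ideal of definition, elements of a chart algebra are homogeneous fractions. -/
theorem exists_chartAdm_repr {R A : Type u} [CommRing R] [CommRing A] [Algebra R A] {I : Ideal R} (hI : I.FG)
    {r : ℕ} (f : Fin (r + 1) → A) (i : Fin (r + 1)) (m : ℕ) (z : AdicRing.chartAdm I f i) :
    ∃ (d : ℕ) (a : A) (z' : AdicRing.chartAdm I f i), a ∈ Ideal.span (Set.range f) ^ d ∧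
      z' - z ∈ (I ^ m).map (algebraMap R (AdicRing.chartAdm I f i)) ∧
      algebraMap A (AdicRing.chartAdm I f i) a = z' * algebraMap A (AdicRing.chartAdm I f i) (f i) ^ d := by
  obtain ⟨y, rfl⟩ := Ideal.Quotient.mk_surjective z
  obtain ⟨q, hq⟩ := Groth.AdicLinTop.CompletionQuot.exists_sub_mem
    (I := I.map (algebraMap R (AdicRing.chartAlg f i))) (hI.map _) m y
  obtain ⟨p, rfl⟩ := Ideal.Quotient.mk_surjective q
  let g : MvPolynomial {j // j ≠ i} A →+* AdicRing.chartAdm I f i :=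
    (Ideal.Quotient.mk _).comp ((algebraMap (AdicRing.chartAlg f i) (AdicRing.chartCompl I f i)).comp
      (Ideal.Quotient.mk _))
  have hgC : ∀ c, g (MvPolynomial.C c) = algebraMap A (AdicRing.chartAdm I f i) c := fun c =>
    algebraMap_tower_quotient (B := AdicRing.chartCompl I f i)
      (Ideal.span (Set.range fun j : {j // j ≠ i} =>
        MvPolynomial.C (f i) * MvPolynomial.X j - MvPolynomial.C (f j.1))) _ c
  have hgX : ∀ j : {j // j ≠ i}, algebraMap A (AdicRing.chartAdm I f i) (f j.1) =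
      g (MvPolynomial.X j) * algebraMap A (AdicRing.chartAdm I f i) (f i) := fun j => by
    rw [← hgC, ← hgC, ← map_mul, mul_comm (MvPolynomial.X j)]
    refine congrArg (Ideal.Quotient.mk _) (congrArg (algebraMap (AdicRing.chartAlg f i) (AdicRing.chartCompl I f i)) (Ideal.Quotient.eq.2 ?_).symm)
    exact Ideal.subset_span ⟨j, rfl⟩
  obtain ⟨d, a, ha, e⟩ := exists_frac_repr _ g (fun j => f j.1) (f i) (Ideal.span (Set.range f))
    (fun j => Ideal.subset_span ⟨j.1, rfl⟩) (Ideal.subset_span ⟨i, rfl⟩) hgC hgX p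
  refine ⟨d, a, g p, ha, ?_, e⟩
  rw [Ideal.map_map, ← IsScalarTower.algebraMap_eq] at hq
  exact mem_map_pow_quotient (algebraMap R (AdicRing.chartCompl I f i)) I _ m _ _ hq

/-- The chart algebra with its universal property and its generators. -/
theorem exists_chartRing_repr {R A : Type u} [CommRing R] [CommRing A] {I : Ideal R} (hR : AdicRing.IsBase R I)
    [Algebra R A] (hA : AdicRing.Admissible R I A) (k : ℕ) {r : ℕ} (f : Fin (r + 1) → A)
    (hopen : (I ^ k).map (algebraMap R A) ≤ Ideal.span (Set.range f)) (i : Fin (r + 1)) :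
    ∃ (C : Type u) (_ : CommRing C) (α : A →+* C), α (f i) ∈ nonZeroDivisors C ∧
      (Ideal.span (Set.range f)).map α = Ideal.span {α (f i)} ∧
      (∀ (B : Type u) [CommRing B] (φ : A →+* B), IsAdicComplete ((I.map (algebraMap R A)).map φ) B →
        φ (f i) ∈ nonZeroDivisors B → (Ideal.span (Set.range f)).map φ = Ideal.span {φ (f i)} →
        ∃! χ : C →+* B, χ.comp α = φ) ∧
      ∀ (m : ℕ) (z : C), ∃ (d : ℕ) (a : A) (z' : C), a ∈ Ideal.span (Set.range f) ^ d ∧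
        z' - z ∈ (I ^ m).map (α.comp (algebraMap R A)) ∧ α a = z' * α (f i) ^ d := by
  obtain ⟨hnzd, hdvd⟩ := chartAdm_gen I f i
  refine ⟨AdicRing.chartAdm I f i, inferInstance, algebraMap A (AdicRing.chartAdm I f i), hnzd, ?_, ?_, ?_⟩
  · refine le_antisymm ?_ (Ideal.span_le.2 (Set.singleton_subset_iff.2
      (Ideal.mem_map_of_mem _ (Ideal.subset_span (Set.mem_range_self i)))))
    rw [Ideal.map_le_iff_le_comap, Ideal.span_le]
    rintro _ ⟨j, rfl⟩
    rw [SetLike.mem_coe, Ideal.mem_comap, Ideal.mem_span_singleton]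
    exact hdvd j
  · intro B _ φ hcomp h1 h2
    letI : Algebra R B := (φ.comp (algebraMap R A)).toAlgebra
    haveI : IsAdicComplete (I.map (algebraMap R B)) B := by
      rw [RingHom.algebraMap_toAlgebra, ← Ideal.map_map]
      exact hcomp
    let φR : A →ₐ[R] B := { φ with commutes' := fun _ => rfl }
    obtain ⟨ψ, hψ, huniq⟩ := Groth.Agent.S11545.result R I hR A hA r f k hopen i B φR h1 h2
    refine ⟨ψ.toRingHom, congrArg AlgHom.toRingHom hψ, fun χ hχ => ?_⟩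
    have hc : ∀ x, χ (algebraMap R (AdicRing.chartAdm I f i) x) = φ (algebraMap R A x) := fun x => by
      rw [IsScalarTower.algebraMap_apply R A (AdicRing.chartAdm I f i), ← hχ, RingHom.comp_apply]
    let χR : AdicRing.chartAdm I f i →ₐ[R] B := { χ with commutes' := hc }
    exact congrArg AlgHom.toRingHom (huniq χR (AlgHom.coe_ringHom_injective hχ))
  · intro m z
    rw [← IsScalarTower.algebraMap_eq]
    exact exists_chartAdm_repr (Groth.TopFinType.fg_of_isBase hR) f i m z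

section congr

variable {𝔛 𝔜 : FSch.Sys.{u}} {h : 𝔛.IsFormal} {hY : 𝔜.IsFormal}

theorem rs_shp_congr {f g : 𝔜 ⟶ 𝔛} (hfg : f = g) (W : (𝔛.X 0).Opens) {V : (𝔜.X 0).Opens}
    (e : V ≤ (f : FSch.Hom 𝔜 𝔛).app 0 ⁻¹ᵁ W) (e' : V ≤ (g : FSch.Hom 𝔜 𝔛).app 0 ⁻¹ᵁ W) (a : Sec h W) :
    rs hY e (shp hY h f W a) = rs hY e' (shp hY h g W a) := by
  subst hfg
  rfl

theorem mem_ker_prj_of_shp (f : 𝔜 ⟶ 𝔛) (hf : ∀ n, IsOpenImmersion ((f : FSch.Hom 𝔜 𝔛).app n))
    {W : (𝔛.X 0).Opens} (hW : (W : Set (𝔛.X 0)) ⊆ Set.range ((f : FSch.Hom 𝔜 𝔛).app 0).base) (n : ℕ)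
    (c : Sec h W) (hc : prj hY n _ (shp hY h f W c) = 0) : prj h n W c = 0 := by
  have := hf n
  have hle : 𝔛.lvU h n W ≤ ((f : FSch.Hom 𝔜 𝔛).app n).opensRange := by
    intro z hz
    obtain ⟨y, hy⟩ := hW hz
    obtain ⟨x, rfl⟩ := 𝔛.toX_surjective h n z
    rw [show (𝔛.gInv h n).hom ((𝔛.toX n).base x) = x from congr($(𝔛.toX_base_gInv h n) x)] at hy
    refine ⟨(𝔜.toX n).base y, ?_⟩
    rw [← hy]
    exact congr(($(FSch.Hom.toX_comm f n)).base y)
  have := Scheme.Hom.isIso_app ((f : FSch.Hom 𝔜 𝔛).app n) (𝔛.lvU h n W) hle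
  have h2 := Groth.AdicLinTop.FormalLevels.bijective_res (FSch.Hom.lvU_preimage f hY h n W).ge
    (FSch.Hom.lvU_preimage f hY h n W).le
  rw [prj_shp, FSch.Hom.levelPush_app, Scheme.Hom.appLE] at hc
  refine (h2.comp ((ConcreteCategory.isIso_iff_bijective _).1 this)).1 (hc.trans ?_)
  simp

theorem surjective_phi_of_closed {A : Type u} [CommRing A] {Z : Scheme.{u}} (g : Z ⟶ Spec (CommRingCat.of A))
    [IsClosedImmersion g] {V : Z.Opens} (hV : ∀ z, z ∈ V) : Function.Surjective (phi g V) := by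
  have hle : g ⁻¹ᵁ ⊤ ≤ V := fun z _ => hV z
  have h1 := g.app_surjective ⊤ (isAffineOpen_top _)
  have h2 := (Groth.AdicLinTop.FormalLevels.bijective_res (Groth.BlowUpBasics.le_preimage_top g V) hle).2
  intro x
  obtain ⟨y, rfl⟩ := h2 x
  obtain ⟨w, rfl⟩ := h1 y
  refine ⟨(Scheme.ΓSpecIso (CommRingCat.of A)).hom w, ?_⟩
  show (((Scheme.ΓSpecIso (CommRingCat.of A)).hom ≫ (Scheme.ΓSpecIso (CommRingCat.of A)).inv) ≫
    g.appLE ⊤ V _) w = _
  rw [Iso.hom_inv_id, Category.id_comp]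
  rfl

end congr

variable {𝔛 𝔛' : FSch.Sys.{u}} {h : 𝔛.IsFormal}

/-- The map from the sections of an affine open of the base to an open over it. -/
noncomputable def bmap (h' : 𝔛'.IsFormal) (h : 𝔛.IsFormal) (b : 𝔛' ⟶ 𝔛) (U : (𝔛.X 0).Opens)
    {D : (𝔛'.X 0).Opens} (e : D ≤ (b : FSch.Hom 𝔛' 𝔛).app 0 ⁻¹ᵁ U) : Sec h U →+* Sec h' D :=
  (rs h' e).comp (shp h' h b U)

variable {h' : 𝔛'.IsFormal} {b : 𝔛' ⟶ 𝔛}

theorem rs_bmap {U : (𝔛.X 0).Opens} {D D' : (𝔛'.X 0).Opens} (e : D ≤ (b : FSch.Hom 𝔛' 𝔛).app 0 ⁻¹ᵁ U)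
    (i : D' ≤ D) : (rs h' i).comp (bmap h' h b U e) = bmap h' h b U (i.trans e) :=
  RingHom.ext fun _ => rs_rs _ _ _

theorem bmap_φ {R : Type u} [CommRing R] {I : Ideal R} (o : Over 𝔛 I) (hb : FSch.IsAdicHom b)
    {U : (𝔛.X 0).Opens} {D : (𝔛'.X 0).Opens} (e : D ≤ (b : FSch.Hom 𝔛' 𝔛).app 0 ⁻¹ᵁ U) :
    (bmap h' h b U e).comp (o.φ h U) = (o.comp h b hb).φ h' D :=
  o.sharp_φ h' b hb U D e

/-- The charts over `U` belonging to generators `f` of the centre. -/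
structure BlowCharts (h' : 𝔛'.IsFormal) (h : 𝔛.IsFormal) (b : 𝔛' ⟶ 𝔛) (U : (𝔛.X 0).Opens) {r : ℕ}
    (f : Fin (r + 1) → Sec h U) (V : Fin (r + 1) → (𝔛'.X 0).Opens) : Prop where
  affine : ∀ i, IsAffineOpen (V i)
  le : ∀ i, V i ≤ (b : FSch.Hom 𝔛' 𝔛).app 0 ⁻¹ᵁ U
  cover : ∀ y, y ∈ (b : FSch.Hom 𝔛' 𝔛).app 0 ⁻¹ᵁ U → ∃ i, y ∈ V i
  gen : ∀ i j, ∃ c, bmap h' h b U (le i) (f j) = c * bmap h' h b U (le i) (f i)
  nzd : ∀ (i : Fin (r + 1)) (D : (𝔛'.X 0).Opens) (e : D ≤ V i), IsAffineOpen D →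
    bmap h' h b U (e.trans (le i)) (f i) ∈ nonZeroDivisors (Sec h' D)
  maximal : ∀ (i : Fin (r + 1)) (D : (𝔛'.X 0).Opens) (e : D ≤ (b : FSch.Hom 𝔛' 𝔛).app 0 ⁻¹ᵁ U),
    IsAffineOpen D → (∀ j, ∃ c, bmap h' h b U e (f j) = c * bmap h' h b U e (f i)) → D ≤ V i
  sect_eq : ∀ (J : FBlow.IdealSh (𝔛.Osh h)), (∀ (D : (𝔛.X 0).Opens) (e : D ≤ U), IsAffineOpen D →
      J.sect D = (Ideal.span (Set.range f)).map (rs h e)) →
    ∀ (i : Fin (r + 1)) (D : (𝔛'.X 0).Opens) (e : D ≤ V i), IsAffineOpen D →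
      (FBlow.idealMap b h' h J).sect D = Ideal.span {bmap h' h b U (e.trans (le i)) (f i)}
  repr : ∀ (i : Fin (r + 1)) (m : ℕ) (c : Sec h' (V i)), ∃ (d : ℕ) (a : Sec h U) (c' : Sec h' (V i)),
    a ∈ Ideal.span (Set.range f) ^ d ∧ prj h' m (V i) c' = prj h' m (V i) c ∧
      bmap h' h b U (le i) a = c' * bmap h' h b U (le i) (f i) ^ d

variable {R : Type u} [CommRing R] {I : Ideal R}

theorem sect_idealMap_eq_map (hI : I.FG) (o : Over 𝔛 I) (hb : FSch.IsAdicHom b) {J : FBlow.IdealSh (𝔛.Osh h)}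
    {U : (𝔛.X 0).Opens} (hU : IsAffineOpen U) (n : ℕ) (𝔞 : Ideal (Sec h U))
    (hpow : (I.map (o.φ h U)) ^ (n + 1) ≤ 𝔞)
    (hJU : ∀ (D : (𝔛.X 0).Opens) (e : D ≤ U), IsAffineOpen D → J.sect D = 𝔞.map (rs h e))
    {D : (𝔛'.X 0).Opens} (hD : IsAffineOpen D) (e : D ≤ (b : FSch.Hom 𝔛' 𝔛).app 0 ⁻¹ᵁ U) :
    (FBlow.idealMap b h' h J).sect D = 𝔞.map (bmap h' h b U e) := by
  refine le_antisymm (fun s hs => ?_) (Ideal.map_le_iff_le_comap.2 fun a ha => ?_)
  swap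
  · show rs h' e (shp h' h b U a) ∈ (FBlow.idealMap b h' h J).sect D
    refine mem_idealMap ?_ e
    rw [hJU U le_rfl hU]
    exact rs_self le_rfl a ▸ Ideal.mem_map_of_mem _ ha
  refine mem_map_of_local hD n _ ?_ s fun x hx => ?_
  · rw [(o.comp h b hb).ker_prj hI hD, ← bmap_φ o hb e, ← Ideal.map_map, Ideal.map_pow (o.φ h U)]
    exact Ideal.map_mono hpow
  obtain ⟨W, i, hxW, hW⟩ := (FBlow.IdealSh.mem_gen_iff _ D s).1 hs x hx
  obtain ⟨_, ⟨D', hD', rfl⟩, hxD', hle⟩ := (𝔛'.X 0).isBasis_affineOpens.exists_subset_of_mem_open hxW W.isOpen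
  have hDW : D' ≤ W := hle
  refine ⟨D', hDW.trans i, hxD', hD', ?_⟩
  rw [Ideal.map_map, rs_bmap]
  have h1 := FBlow.IdealSh.map_span_seed hDW hW
  rw [FBlow.IdealSh.map_comp_apply] at h1
  refine Ideal.span_le.2 ?_ h1
  rintro _ ⟨W₁, j₁, _, ⟨W₂, j₂, a, ha, rfl⟩, rfl⟩
  show rs h' j₁ (rs h' j₂ (shp h' h b W₂ a)) ∈ _
  rw [rs_rs]
  set j := (b : FSch.Hom 𝔛' 𝔛).app 0
  refine mem_map_of_local hD' n _ ?_ _ fun y hy => ?_
  · rw [(o.comp h b hb).ker_prj hI hD', ← bmap_φ o hb ((hDW.trans i).trans e), ← Ideal.map_map,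
      Ideal.map_pow (o.φ h U)]
    exact Ideal.map_mono hpow
  obtain ⟨_, ⟨E, hE, rfl⟩, hyE, hEle⟩ := (𝔛.X 0).isBasis_affineOpens.exists_subset_of_mem_open
    (show j.base y ∈ W₂ ⊓ U from ⟨(j₁.trans j₂) hy, ((hDW.trans i).trans e) hy⟩) (W₂ ⊓ U).isOpen
  have hEW : E ≤ W₂ := fun z hz => (hEle hz).1
  have hEU : E ≤ U := fun z hz => (hEle hz).2
  obtain ⟨_, ⟨D'', hD'', rfl⟩, hyD'', hle'⟩ := (𝔛'.X 0).isBasis_affineOpens.exists_subset_of_mem_open
    (show y ∈ D' ⊓ j ⁻¹ᵁ E from ⟨hy, hyE⟩) (D' ⊓ j ⁻¹ᵁ E).isOpen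
  have hD'D : D'' ≤ D' := fun z hz => (hle' hz).1
  have hD'E : D'' ≤ j ⁻¹ᵁ E := fun z hz => (hle' hz).2
  refine ⟨D'', hD'D, hyD'', hD'', ?_⟩
  rw [Ideal.map_map, rs_bmap, rs_rs,
    show rs h' (hD'D.trans (j₁.trans j₂)) (shp h' h b W₂ a) = rs h' hD'E (shp h' h b E (rs h hEW a)) by
      rw [rs_shp, rs_rs],
    show bmap h' h b U ((hD'D.trans (hDW.trans i)).trans e) = ((rs h' hD'E).comp (shp h' h b E)).comp (rs h hEU) from
      RingHom.ext fun c => by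
        show rs h' _ (shp h' h b U c) = rs h' hD'E (shp h' h b E (rs h hEU c))
        rw [rs_shp, rs_rs],
    ← Ideal.map_map, ← hJU E hEU hE]
  exact Ideal.mem_map_of_mem _ (J.map_mem hEW ha)

/-- On opens where one generator divides the others it is a nonzerodivisor. -/
theorem nzd_of_isInvertible (hI : I.FG) (o : Over 𝔛 I) (hb : FSch.IsAdicHom b) {J : FBlow.IdealSh (𝔛.Osh h)}
    (hinv : (FBlow.idealMap b h' h J).IsInvertible)
    {U : (𝔛.X 0).Opens} (hU : IsAffineOpen U) (n : ℕ) {r : ℕ} (f : Fin (r + 1) → Sec h U)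
    (hpow : (I.map (o.φ h U)) ^ (n + 1) ≤ Ideal.span (Set.range f))
    (hJU : ∀ (D : (𝔛.X 0).Opens) (e : D ≤ U), IsAffineOpen D →
      J.sect D = (Ideal.span (Set.range f)).map (rs h e))
    {D : (𝔛'.X 0).Opens} (e : D ≤ (b : FSch.Hom 𝔛' 𝔛).app 0 ⁻¹ᵁ U) (i : Fin (r + 1))
    (hgen : ∀ j, ∃ c, bmap h' h b U e (f j) = c * bmap h' h b U e (f i)) :
    bmap h' h b U e (f i) ∈ nonZeroDivisors (Sec h' D) := by
  refine mem_nonZeroDivisors_iff_right.2 fun t ht => sec_ext_local fun x hx => ?_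
  obtain ⟨U₀, hxU₀, g, hg, hggen⟩ := hinv x
  obtain ⟨_, ⟨W, hW, rfl⟩, hxW, hle⟩ := (𝔛'.X 0).isBasis_affineOpens.exists_subset_of_mem_open
    (show x ∈ U₀ ⊓ D from ⟨hxU₀, hx⟩) (U₀ ⊓ D).isOpen
  have hW0 : W ≤ U₀ := fun z hz => (hle hz).1
  have hWD : W ≤ D := fun z hz => (hle hz).2
  refine ⟨W, hWD, hxW, ?_⟩
  have hspan : (FBlow.idealMap b h' h J).sect W = Ideal.span {bmap h' h b U (hWD.trans e) (f i)} := by
    rw [sect_idealMap_eq_map hI o hb hU n _ hpow hJU hW (hWD.trans e)]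
    refine le_antisymm ?_ (Ideal.span_le.2 (Set.singleton_subset_iff.2
      (Ideal.mem_map_of_mem _ (Ideal.subset_span ⟨i, rfl⟩))))
    rw [Ideal.map_le_iff_le_comap, Ideal.span_le]
    rintro _ ⟨j, rfl⟩
    obtain ⟨c, hc⟩ := hgen j
    refine Ideal.mem_span_singleton'.2 ⟨rs h' hWD c, ?_⟩
    rw [← rs_bmap e hWD, RingHom.comp_apply, RingHom.comp_apply, hc, map_mul]
  obtain ⟨v, hv⟩ := Ideal.mem_span_singleton'.1 (hspan ▸ (FBlow.idealMap b h' h J).map_mem hW0 hg)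
  obtain ⟨w, hw⟩ := (hggen W hW0).2 (bmap h' h b U (hWD.trans e) (f i))
    (hspan ▸ Ideal.mem_span_singleton_self _)
  replace hv : v * bmap h' h b U (hWD.trans e) (f i) = rs h' hW0 g := hv
  replace hw : bmap h' h b U (hWD.trans e) (f i) = w * rs h' hW0 g := hw
  have h1 : v * w = 1 := sub_eq_zero.1 ((hggen W hW0).1 _ (by
    show (v * w - 1) * rs h' hW0 g = 0
    rw [sub_mul, one_mul, mul_assoc, ← hw, hv, sub_self]))
  rw [map_zero]
  refine (hggen W hW0).1 _ ?_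
  show rs h' hWD t * rs h' hW0 g = 0
  have h2 := congrArg (rs h' hWD) ht
  rw [map_mul, map_zero, ← RingHom.comp_apply, rs_bmap] at h2
  rw [← hv, mul_left_comm, h2, mul_zero]

set_option maxHeartbeats 1000000 in
/-- The charts of an admissible formal blowing-up over an affine open with given generators of the centre. -/
theorem exists_blowCharts (hR : AdicRing.IsBase R I) (p : 𝔛 ⟶ FSch.spf R I) (hp : FSch.IsAdicHom p)
    (hfp : ∀ n, LocallyOfFinitePresentation ((p : FSch.Hom 𝔛 (FSch.spf R I)).app n))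
    (htf : ∀ (U : (𝔛.X 0).Opens) (s : (𝔛.Osh h).obj.obj (Opposite.op U)),
      (∀ a ∈ (FBlow.IdealSh.ker (𝔛.OshProj h 0)).sect U, a * s = 0) → s = 0)
    {J : FBlow.IdealSh (𝔛.Osh h)} (hb : FBlow.IsAdmBlowUp b h' h J)
    {U : (𝔛.X 0).Opens} (hU : IsAffineOpen U) (n₁ : ℕ) {r : ℕ} (f : Fin (r + 1) → Sec h U)
    (hpow : (I.map ((baseOver p hp).φ h U)) ^ (n₁ + 1) ≤ Ideal.span (Set.range f))
    (hJU : ∀ (D : (𝔛.X 0).Opens) (e : D ≤ U), IsAffineOpen D →
      J.sect D = (Ideal.span (Set.range f)).map (rs h e)) :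
    ∃ V : Fin (r + 1) → (𝔛'.X 0).Opens, BlowCharts h' h b U f V := by
  classical
  have hI := Groth.TopFinType.fg_of_isBase hR
  set o := baseOver p hp
  have hA : letI := (o.φ h U).toAlgebra; AdicRing.Admissible R I (Sec h U) := admissible_sec hR p hp hfp htf hU
  letI : Algebra R (Sec h U) := (o.φ h U).toAlgebra
  have hU' := isFormal_restrictOpen' h U
  set oA := o.affine (h := h) hI hU
  have hKfg : (I.map (o.φ h U)).FG := hI.map _
  let Vb : (𝔛'.X 0).Opens := (b : FSch.Hom 𝔛' 𝔛).app 0 ⁻¹ᵁ U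
  have hV' := isFormal_restrictOpen' h' Vb
  have hbU := isAdmBlowUp_restrictOpen hb U
  rw [o.idealMap_affine_eq hI hU hU' hJU] at hbU
  have hinv := hbU.2.1
  rw [oA.idealMap_idealOf _ hbU.1] at hinv
  set oV := oA.comp hU' _ hbU.1
  set ιV := 𝔛'.restrictOpenι h' Vb with hιV
  set ιU := 𝔛.restrictOpenι h U
  -- the structure map of the restricted system
  have hφV : ∀ (D : (𝔛'.X 0).Opens) (e : D ≤ Vb),
      oV.φ hV' ((ιV : FSch.Hom _ 𝔛').app 0 ⁻¹ᵁ D) = (shp hV' h' ιV D).comp (bmap h' h b U e) := by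
    intro D e
    set W := (ιV : FSch.Hom _ 𝔛').app 0 ⁻¹ᵁ D
    have hWU : W ≤ ((FSch.Hom.restrictOpen b h' h U : FSch.Hom _ _).app 0) ⁻¹ᵁ
        ((ιU : FSch.Hom _ 𝔛).app 0 ⁻¹ᵁ U) := fun z _ => (range_restrictOpenι (h := h) U).le ⟨_, rfl⟩
    have hWb : W ≤ ((FSch.Hom.restrictOpen b h' h U ≫ ιU : 𝔛'.restrictOpen h' Vb ⟶ 𝔛) :
        FSch.Hom _ 𝔛).app 0 ⁻¹ᵁ U := hWU
    rw [← oA.sharp_φ hV' _ hbU.1 _ W hWU]
    refine RingHom.ext fun a => ?_
    show rs hV' hWU (shp hV' hU' _ _ (oA.φ hU' _ a)) = shp hV' h' ιV D (rs h' e (shp h' h b U a))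
    rw [show oA.φ hU' ((ιU : FSch.Hom _ 𝔛).app 0 ⁻¹ᵁ U) a = shp hU' h ιU U a by
      rw [o.affine_φ hI hU hU' (le_refl U), RingHom.comp_apply, rs_self], ← shp_comp, rs_shp]
    refine (rs_shp_congr (FSch.Hom.restrictOpen_ι b h' h U) U hWb ?_ a).trans ?_
    · exact fun z hz => e hz
    · rw [shp_comp (hY := h')]
      rfl
  -- the chart rings
  choose C iC α hnzd hgenC huniv hrepr using fun i => exists_chartRing_repr hR hA (n₁ + 1) f
    (by rw [Ideal.map_pow]; exact hpow) i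
  have hchart : ∀ i, ∃ u : FSch.spf (C i) ((I.map (o.φ h U)).map (α i)) ⟶ 𝔛'.restrictOpen h' Vb,
      (∀ n, IsOpenImmersion ((u : FSch.Hom _ _).app n)) ∧
      Set.range ((u : FSch.Hom _ _).app 0).base =
        {x | ∃ U', x ∈ U' ∧ oV.GoodAt hV' (Ideal.span (Set.range f)) (f i) U'} ∧
      ∀ n, ((u : FSch.Hom _ _).app n) ≫ oV.π n = FSch.spfToSpec (C i) _ n ≫
        Spec.map (CommRingCat.ofHom (α i)) := by
    intro i
    have eker : ∀ n, (FSch.spfToSpec (C i) ((I.map (o.φ h U)).map (α i)) n).ker =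
        (sheafOf ((I.map (o.φ h U)) ^ (n + 1))).comap (Spec.map (CommRingCat.ofHom (α i))) :=
      fun n => by
        rw [Groth.BlowUpBasics.comap_sheafOf_Spec, Ideal.map_pow, ← idealSpec_eq_sheafOf]
        rfl
    obtain ⟨bC, hbC⟩ := exists_hom_to_closed oA (o.affine_isClosedImmersion hI hU) (o.affine_ker hI hU)
      (Spec.map (CommRingCat.ofHom (α i))) (FSch.spfToSpec (C i) ((I.map (o.φ h U)).map (α i)))
      (Groth.AdicLinTop.Thickenings.isClosedImmersion_specQuot _) (FSch.spfToSpec_comm _ _) eker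
    obtain ⟨u, hu, hopenimm, hrange⟩ := exists_chart oA hKfg hpow (o.affine_isClosedImmersion hI hU)
      (o.affine_ker hI hU) hV' _ hbU (Ideal.subset_span (Set.mem_range_self i))
      (α i) (hnzd i) (hgenC i) (huniv i) (Groth.AdicLinTop.Thickenings.isFormal_spf _)
      (FSch.spfToSpec (C i) _) (Groth.AdicLinTop.Thickenings.isClosedImmersion_specQuot _)
      (FSch.spfToSpec_comm _ _) eker bC hbC
    refine ⟨u, hopenimm, hrange, fun n => ?_⟩
    have e1 : (u : FSch.Hom _ _).app n ≫ (FSch.Hom.restrictOpen b h' h U : FSch.Hom _ _).app n =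
        (bC : FSch.Hom _ _).app n := congrArg (fun φ : FSch.spf (C i) _ ⟶ _ => (φ : FSch.Hom _ _).app n) hu
    show (u : FSch.Hom _ _).app n ≫ ((FSch.Hom.restrictOpen b h' h U : FSch.Hom _ _).app n ≫ oA.π n) = _
    rw [← Category.assoc, e1, hbC n]
  choose u hopen hrange hπ using hchart
  have hopen' : ∀ i n, IsOpenImmersion (((u i ≫ ιV : _ ⟶ 𝔛') : FSch.Hom _ 𝔛').app n) := fun i n => by
    have := hopen i n
    have := isOpenImmersion_restrictOpenι (h := h') Vb n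
    exact inferInstanceAs (IsOpenImmersion (_ ≫ _))
  have := fun i => hopen' i 0
  let V : Fin (r + 1) → (𝔛'.X 0).Opens := fun i =>
    (((u i ≫ ιV : _ ⟶ 𝔛') : FSch.Hom _ 𝔛').app 0).opensRange
  have hVle : ∀ i, V i ≤ Vb := fun i => by
    rintro y ⟨z, rfl⟩
    exact (range_restrictOpenι (h := h') Vb).le ⟨_, rfl⟩
  have hmax : ∀ (i : Fin (r + 1)) (D : (𝔛'.X 0).Opens) (e : D ≤ Vb),
      IsAffineOpen D → (∀ j, ∃ c, bmap h' h b U e (f j) = c * bmap h' h b U e (f i)) → D ≤ V i := by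
    intro i D e hD hj y hy
    obtain ⟨yV, hyV⟩ := (range_restrictOpenι (h := h') Vb).ge (e hy)
    have hDr : (D : Set (𝔛'.X 0)) ⊆ Set.range ((ιV : FSch.Hom _ 𝔛').app 0).base :=
      fun z hz => (range_restrictOpenι (h := h') Vb).ge (e hz)
    have := isOpenImmersion_restrictOpenι (h := h') Vb 0
    have hgood : oV.GoodAt hV' (Ideal.span (Set.range f)) (f i) ((ιV : FSch.Hom _ 𝔛').app 0 ⁻¹ᵁ D) := by
      have hb' := bijective_shp_of_isOpenImmersion (h := h') (hY := hV') ιV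
        (isOpenImmersion_restrictOpenι Vb) hDr
      refine ⟨IsAffineOpen.preimage_of_isOpenImmersion hD _ hDr, ?_, ?_⟩
      · rw [hφV D e, RingHom.comp_apply]
        refine mem_nonZeroDivisors_iff_right.2 fun x hx => ?_
        obtain ⟨x, rfl⟩ := hb'.2 x
        rw [← map_mul, map_eq_zero_iff _ hb'.1] at hx
        rw [mem_nonZeroDivisors_iff_right.1
          (nzd_of_isInvertible hI o hb.1 hb.2.1 hU n₁ f hpow hJU e i hj) x hx, map_zero]
      · rw [hφV D e]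
        refine le_antisymm ?_ (Ideal.span_le.2 (Set.singleton_subset_iff.2
          (Ideal.mem_map_of_mem _ (Ideal.subset_span ⟨i, rfl⟩))))
        rw [Ideal.map_le_iff_le_comap, Ideal.span_le]
        rintro _ ⟨j, rfl⟩
        obtain ⟨c, hc⟩ := hj j
        refine Ideal.mem_span_singleton'.2 ⟨shp hV' h' ιV D c, ?_⟩
        rw [RingHom.comp_apply, RingHom.comp_apply, hc, map_mul]
    obtain ⟨z, hz⟩ := (hrange i).ge ⟨_, show yV ∈ (ιV : FSch.Hom _ 𝔛').app 0 ⁻¹ᵁ D by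
      show ((ιV : FSch.Hom _ 𝔛').app 0).base yV ∈ D
      rw [hyV]; exact hy, hgood⟩
    exact ⟨z, by rw [← hyV, ← hz]; rfl⟩
  -- the transport of the chart ring
  have hθ : ∀ i, ∃ θ : C i →+* Sec h' (V i),
      θ.comp (α i) = bmap h' h b U (hVle i) ∧
      ∀ (n : ℕ) (c : Sec h' (V i)), ∃ z, prj h' n (V i) (θ z) = prj h' n (V i) c := by
    intro i
    set KC := (I.map (o.φ h U)).map (α i)
    set hP := Groth.AdicLinTop.Thickenings.isFormal_spf KC
    set v := (u i ≫ ιV : FSch.spf (C i) KC ⟶ 𝔛')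
    let W := (v : FSch.Hom _ 𝔛').app 0 ⁻¹ᵁ V i
    have hVr : (V i : Set (𝔛'.X 0)) ⊆ Set.range ((v : FSch.Hom _ 𝔛').app 0).base := fun z hz => hz
    have hbij := bijective_shp_of_isOpenImmersion (h := h') (hY := hP) v (hopen' i) hVr
    let oP := (Over.spf (C i) KC).φ hP W
    let s := RingEquiv.ofBijective _ hbij
    refine ⟨s.symm.toRingHom.comp oP, RingHom.ext fun a => ?_, fun n c => ?_⟩
    · show s.symm (oP (α i a)) = _
      rw [RingEquiv.symm_apply_eq]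
      show _ = shp hP h' v (V i) (bmap h' h b U (hVle i) a)
      refine (Over.shp_φ (h := hV') oV (Over.spf (C i) KC) (u i) (α i) (hπ i)
        ((ιV : FSch.Hom _ 𝔛').app 0 ⁻¹ᵁ V i) a).symm.trans ?_
      rw [hφV _ (hVle i), RingHom.comp_apply]
      exact (shp_comp (hY := hV') (u i) ιV (V i) _).symm
    · have := Groth.AdicLinTop.Thickenings.isClosedImmersion_specQuot KC n
      have htop : ∀ z, z ∈ (FSch.spf (C i) KC).lvU hP n W := fun z => ⟨_, rfl⟩
      obtain ⟨z, hz⟩ := surjective_phi_of_closed (FSch.spfToSpec (C i) KC n) htop (prj hP n W (shp hP h' v (V i) c))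
      refine ⟨z, sub_eq_zero.1 ?_⟩
      rw [← map_sub]
      refine mem_ker_prj_of_shp (hY := hP) v (hopen' i) hVr n _ ?_
      have h1 : shp hP h' v (V i) (s.symm (oP z)) = oP z := s.apply_symm_apply (oP z)
      show prj hP n W (shp hP h' v (V i) (s.symm (oP z) - c)) = 0
      rw [map_sub, map_sub, h1, sub_eq_zero, ← RingHom.comp_apply (prj hP n W), Over.prj_φ]
      exact hz
  choose θ hθα hθsurj using hθ
  have hgen : ∀ i j, ∃ c, bmap h' h b U (hVle i) (f j) = c * bmap h' h b U (hVle i) (f i) := fun i j => by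
    obtain ⟨c, hc⟩ := Ideal.mem_span_singleton'.1
      ((hgenC i).le (Ideal.mem_map_of_mem _ (Ideal.subset_span ⟨j, rfl⟩)))
    refine ⟨θ i c, ?_⟩
    rw [← hθα i, RingHom.comp_apply, RingHom.comp_apply, ← hc, map_mul]
  have hVaff : ∀ i, IsAffineOpen (V i) := fun i => by
    have : IsAffine ((FSch.spf (C i) ((I.map (o.φ h U)).map (α i))).X 0) :=
      inferInstanceAs (IsAffine (Spec _))
    exact isAffineOpen_opensRange _
  have hgenD : ∀ i (D : (𝔛'.X 0).Opens) (e : D ≤ V i) j, ∃ c,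
      bmap h' h b U (e.trans (hVle i)) (f j) = c * bmap h' h b U (e.trans (hVle i)) (f i) := fun i D e j => by
    obtain ⟨c, hc⟩ := hgen i j
    refine ⟨rs h' e c, ?_⟩
    rw [← rs_bmap (hVle i) e, RingHom.comp_apply, RingHom.comp_apply, hc, map_mul]
  refine ⟨V, hVaff, hVle, fun y hy => ?_, hgen, fun i D e _ => ?_, hmax, fun J' hJ' i D e hD => ?_, fun i m c => ?_⟩
  · obtain ⟨yV, hyV⟩ := (range_restrictOpenι (h := h') Vb).ge hy
    obtain ⟨i, hi⟩ := oV.exists_goodAt f hKfg hpow hinv yV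
    obtain ⟨z, hz⟩ := (hrange i).ge hi
    exact ⟨i, z, by rw [← hyV, ← hz]; rfl⟩
  · exact nzd_of_isInvertible hI o hb.1 hb.2.1 hU n₁ f hpow hJU _ i (hgenD i D e)
  · rw [sect_idealMap_eq_map hI o hb.1 hU n₁ _ hpow hJ' hD (e.trans (hVle i))]
    refine le_antisymm ?_ (Ideal.span_le.2 (Set.singleton_subset_iff.2
      (Ideal.mem_map_of_mem _ (Ideal.subset_span ⟨i, rfl⟩))))
    rw [Ideal.map_le_iff_le_comap, Ideal.span_le]
    rintro _ ⟨j, rfl⟩
    obtain ⟨c', hc'⟩ := hgenD i D e j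
    exact Ideal.mem_span_singleton'.2 ⟨c', hc'.symm⟩
  · obtain ⟨z, hz⟩ := hθsurj i m c
    obtain ⟨d, a, z', ha, hzz, e⟩ := hrepr i (m + 1) z
    refine ⟨d, a, θ i z', ha, ?_, ?_⟩
    · rw [← hz, ← sub_eq_zero, ← map_sub, ← map_sub, ← RingHom.mem_ker,
        (o.comp h b hb.1).ker_prj hI (hVaff i), ← bmap_φ o hb.1 (hVle i), ← hθα i,
        RingHom.comp_assoc, ← Ideal.map_map]
      refine Ideal.mem_map_of_mem _ ?_
      exact hzz
    · rw [← hθα i, RingHom.comp_apply, RingHom.comp_apply, e, map_mul, map_pow]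

end Groth.FBlowLib
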