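import Groth.Agent.FBlowLib.Chart

/-!
# Charts of admissible formal blowing-ups of formal spectra
-/

set_option autoImplicit false
set_option backward.isDefEq.respectTransparency false
set_option backward.isDefEq.respectTransparency.types false

universe u

open CategoryTheory CategoryTheory.Limits AlgebraicGeometry TopologicalSpace Opposite
open Groth.BlowUpBasics (sheafOf phi)

namespace Groth.FBlowLib

/-- `exists_chart` for a formal spectrum. -/
theorem exists_chart_spf {A : Type u} [CommRing A] {K : Ideal A} (hK : K.FG) {𝔞 : Ideal A} {k : ℕ}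
    (hk : K ^ k ≤ 𝔞) (hX : (FSch.spf A K).IsFormal) {𝔛' : FSch.Sys.{u}} (h' : 𝔛'.IsFormal)
    (b : 𝔛' ⟶ FSch.spf A K) (hb : FBlow.IsAdmBlowUp b h' hX ((Over.spf A K).idealOf hX 𝔞)) {a : A} (ha : a ∈ 𝔞)
    {C : Type u} [CommRing C] (α : A →+* C) (hnzd : α a ∈ nonZeroDivisors C)
    (hgenC : 𝔞.map α = Ideal.span {α a})
    (huniv : ∀ (B : Type u) [CommRing B] (φ : A →+* B), IsAdicComplete (K.map φ) B → φ a ∈ nonZeroDivisors B →
      𝔞.map φ = Ideal.span {φ a} → ∃! χ : C →+* B, χ.comp α = φ)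
    (K' : Ideal C) (hK' : K' = K.map α) (hi : (FSch.spf C K').IsFormal) (hle : K ≤ K'.comap α) :
    ∃ u : FSch.spf C K' ⟶ 𝔛', u ≫ b = FSch.spfMap K' K α hle ∧
      (∀ n, IsOpenImmersion ((u : FSch.Hom (FSch.spf C K') 𝔛').app n)) ∧
      Set.range ((u : FSch.Hom (FSch.spf C K') 𝔛').app 0).base =
        {x | ∃ U, x ∈ U ∧ ((Over.spf A K).comp hX b hb.1).GoodAt h' 𝔞 a U} := by
  subst hK'
  exact exists_chart (Over.spf A K) hK hk (Groth.AdicLinTop.Thickenings.isClosedImmersion_specQuot K)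
    (fun n => idealSpec_eq_sheafOf _) h' b hb ha α hnzd hgenC huniv hi (FSch.spfToSpec C _)
    (Groth.AdicLinTop.Thickenings.isClosedImmersion_specQuot _) (FSch.spfToSpec_comm _ _) (fun n => by
      rw [Groth.BlowUpBasics.comap_sheafOf_Spec, Ideal.map_pow, ← idealSpec_eq_sheafOf]
      rfl)
    (FSch.spfMap _ K α hle) (fun n => by
      rw [FSch.spfMap_app]
      show Spec.map _ ≫ Spec.map _ = Spec.map _ ≫ Spec.map _
      rw [← Spec.map_comp, ← Spec.map_comp]
      rfl)

end Groth.FBlowLib
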