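import Groth.Agent.FBlowLib.Functorial
import Groth.Agent.BlowUpBasics.IdealComap
import Mathlib.RingTheory.Localization.Finiteness

/-!
# Inverse images of coherent open ideals are coherent open
-/

set_option autoImplicit false
set_option backward.isDefEq.respectTransparency false
set_option backward.isDefEq.respectTransparency.types false

universe u

open CategoryTheory CategoryTheory.Limits AlgebraicGeometry TopologicalSpace Opposite

namespace Groth.FBlowLib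

variable {X Y : Scheme.{u}}

/-- The inverse image of ideal data of finite type is of finite type. -/
theorem idealFT_comap (f : Y ⟶ X) {𝒜 : X.IdealSheafData} (h𝒜 : FSch.IdealFT 𝒜) : FSch.IdealFT (𝒜.comap f) := by
  intro U
  refine Ideal.fg_of_localizationSpan {g : Γ(Y, U.1) | ((𝒜.comap f).ideal (Y.affineBasicOpen g)).FG} ?_ ?_
  · rw [← U.2.self_le_iSup_basicOpen_iff]
    intro x hx
    obtain ⟨_, ⟨W, hW, rfl⟩, hxW, -⟩ := X.isBasis_affineOpens.exists_subset_of_mem_open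
      (show f.base x ∈ (⊤ : X.Opens) from trivial) (⊤ : X.Opens).isOpen
    obtain ⟨g, hgW, hxg⟩ := U.2.exists_basicOpen_le (V := f ⁻¹ᵁ W) ⟨x, hxW⟩ hx
    refine Opens.mem_iSup.mpr ⟨⟨g, ?_⟩, hxg⟩
    show ((𝒜.comap f).ideal (Y.affineBasicOpen g)).FG
    rw [Groth.BlowUpBasics.ideal_comap f 𝒜 ⟨W, hW⟩ (Y.affineBasicOpen g) hgW]
    exact (h𝒜 _).map _
  · rintro ⟨g, hg⟩
    have := U.2.isLocalization_basicOpen g
    let e := IsLocalization.algEquiv (Submonoid.powers g) Γ(Y, Y.basicOpen g) (Localization.Away g)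
    have h := Ideal.FG.map (f := e.toRingEquiv.toRingHom) hg
    rw [← (𝒜.comap f).map_ideal_basicOpen U g] at h
    erw [Ideal.map_map] at h
    convert h using 2
    ext r
    exact (e.commutes r).symm

theorem mem_ofData_comap (f : Y ⟶ X) (𝒜 : X.IdealSheafData) {U : X.Opens} {V : Y.Opens} (e : V ≤ f ⁻¹ᵁ U)
    {s : Γ(X, U)} (hs : FBlow.MemData 𝒜 U s) : FBlow.MemData (𝒜.comap f) V ((f.appLE U V e).hom s) := by
  intro y hy
  obtain ⟨W, i, hyW, hW⟩ := hs (f.base y) (e hy)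
  obtain ⟨_, ⟨W', hW', rfl⟩, hyW', hle⟩ := Y.isBasis_affineOpens.exists_subset_of_mem_open
    (show y ∈ V ⊓ f ⁻¹ᵁ W.1 from ⟨hy, hyW⟩) (V ⊓ f ⁻¹ᵁ W.1).isOpen
  have hV : W' ≤ V := fun z hz => (hle hz).1
  have hfW : W' ≤ f ⁻¹ᵁ W.1 := fun z hz => (hle hz).2
  refine ⟨⟨W', hW'⟩, hV, hyW', ?_⟩
  rw [Groth.BlowUpBasics.ideal_comap f 𝒜 W ⟨W', hW'⟩ hfW]
  have h1 : Y.presheaf.map (homOfLE hV).op ((f.appLE U V e).hom s) =
      (f.appLE W.1 W' hfW).hom (X.presheaf.map (homOfLE i).op s) := by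
    show (f.appLE U V e ≫ Y.presheaf.map (homOfLE hV).op) s = (X.presheaf.map (homOfLE i).op ≫ f.appLE W.1 W' hfW) s
    rw [Scheme.Hom.appLE_map, Scheme.Hom.map_appLE]
  rw [h1]
  exact Ideal.mem_map_of_mem _ hW

variable {A : Type u} [CommRing A] {K : Ideal A} {𝔛 𝔜 : FSch.Sys.{u}} {h : 𝔛.IsFormal} {hY : 𝔜.IsFormal}

set_option maxHeartbeats 600000 in
/-- The inverse image of a coherent open ideal along an adic morphism is coherent open. -/
theorem isCohOpen_idealMap (o : Over 𝔛 K) (hK : K.FG) (f : 𝔜 ⟶ 𝔛) (hf : FSch.IsAdicHom f)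
    {J : FBlow.IdealSh (𝔛.Osh h)} (hJ : FBlow.IsCohOpen 𝔛 h J) :
    FBlow.IsCohOpen 𝔜 hY (FBlow.idealMap f hY h J) := by
  intro y
  obtain ⟨U, hyU, n, 𝒜, h𝒜, hJU⟩ := hJ (((f : FSch.Hom 𝔜 𝔛).app 0).base y)
  set j := (f : FSch.Hom 𝔜 𝔛).app 0
  refine ⟨j ⁻¹ᵁ U, hyU, n, 𝒜.comap ((f : FSch.Hom 𝔜 𝔛).app n), idealFT_comap _ h𝒜,
    fun V hV => le_antisymm ?_ fun s hs => ?_⟩
  · intro s hs
    refine (FBlow.ofLevel 𝔜 hY n _).mem_of_local fun z hz => ?_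
    obtain ⟨V₁, i, hz₁, hV₁⟩ := hs z hz
    refine ⟨V₁, i, hz₁, ?_⟩
    refine Ideal.span_le.2 ?_ hV₁
    rintro _ ⟨V₂, i₂, _, ⟨W, i₃, a, ha, rfl⟩, rfl⟩
    change rs hY i₂ (rs hY i₃ (shp hY h f W a)) ∈ (FBlow.ofLevel 𝔜 hY n _).sect V₁
    rw [rs_rs]
    have hle : V₁ ≤ j ⁻¹ᵁ (W ⊓ U) := fun w hw => ⟨(i₂.trans i₃) hw, hV (i hw)⟩
    have ha' := J.map_mem (inf_le_left : W ⊓ U ≤ W) ha
    rw [hJU _ inf_le_right, FBlow.mem_ofLevel_iff] at ha'
    have e : rs hY (i₂.trans i₃) (shp hY h f W a) = rs hY hle (shp hY h f (W ⊓ U) (rs h inf_le_left a)) := by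
      rw [rs_shp, rs_rs]
    rw [e]
    refine FBlow.IdealSh.map_mem _ hle ?_
    rw [FBlow.mem_ofLevel_iff]
    show FBlow.MemData _ _ (prj hY n _ (shp hY h f (W ⊓ U) _))
    rw [prj_shp, FSch.Hom.levelPush_app]
    exact mem_ofData_comap _ 𝒜 _ ha'
  · rw [FBlow.mem_ofLevel_iff] at hs
    refine (FBlow.idealMap f hY h J).mem_of_local fun z hz => ?_
    obtain ⟨_, ⟨D, hD, rfl⟩, hzD, hDle⟩ := (𝔛.X 0).isBasis_affineOpens.exists_subset_of_mem_open
      (show j.base z ∈ U from hV hz) U.isOpen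
    obtain ⟨_, ⟨D', hD', rfl⟩, hzD', hle⟩ := (𝔜.X 0).isBasis_affineOpens.exists_subset_of_mem_open
      (show z ∈ V ⊓ j ⁻¹ᵁ D from ⟨hz, hzD⟩) (V ⊓ j ⁻¹ᵁ D).isOpen
    have hDV : D' ≤ V := fun w hw => (hle hw).1
    have hDD : D' ≤ j ⁻¹ᵁ D := fun w hw => (hle hw).2
    refine ⟨D', hDV, hzD', ?_⟩
    show rs hY hDV s ∈ (FBlow.idealMap f hY h J).sect D'
    let WD : (𝔛.X n).affineOpens := ⟨_, Groth.AdicLinTop.FormalLevels.isAffineOpen_lvU h hD n⟩
    let WD' : (𝔜.X n).affineOpens := ⟨_, Groth.AdicLinTop.FormalLevels.isAffineOpen_lvU hY hD' n⟩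
    have hWle : WD'.1 ≤ (f : FSch.Hom 𝔜 𝔛).app n ⁻¹ᵁ WD.1 :=
      (FBlow.lvU_mono 𝔜 hY n hDD).trans (FSch.Hom.lvU_preimage f hY h n D).ge
    have hs' : prj hY n D' (rs hY hDV s) ∈ (𝒜.comap ((f : FSch.Hom 𝔜 𝔛).app n)).ideal WD' := by
      refine mem_ideal_of_memData _ WD' _ ?_
      rw [prj_rs]
      exact FBlow.memData_res _ _ hs
    rw [Groth.BlowUpBasics.ideal_comap _ 𝒜 WD WD' hWle] at hs'
    let ψ : Sec h D →+* Sec hY D' := (rs hY hDD).comp (shp hY h f D)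
    let ℑ : Ideal (Sec h D) := Ideal.comap (prj h n D) (𝒜.ideal WD)
    have hℑ : ℑ ≤ J.sect D := fun a ha => by
      rw [hJU D hDle, FBlow.mem_ofLevel_iff]
      exact fun w hw => ⟨WD, le_rfl, hw, by erw [FBlow.IdealSh.map_id_apply (O := (𝔛.X n).sheaf) le_rfl]; exact ha⟩
    have hψJ : ℑ.map ψ ≤ (FBlow.idealMap f hY h J).sect D' := by
      refine Ideal.map_le_iff_le_comap.2 fun a ha => ?_
      show rs hY hDD (shp hY h f D a) ∈ (FBlow.idealMap f hY h J).sect D'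
      exact mem_idealMap (f := f) (J := J) (W := D) (hℑ ha) hDD
    have hcomp : (prj hY n D').comp ψ =
        (((f : FSch.Hom 𝔜 𝔛).app n).appLE WD.1 WD'.1 hWle).hom.comp (prj h n D) := by
      ext a
      show prj hY n D' (rs hY hDD (shp hY h f D a)) = _
      rw [prj_rs, prj_shp, FSch.Hom.levelPush_app]
      exact congr($(Scheme.Hom.appLE_map ((f : FSch.Hom 𝔜 𝔛).app n) (FSch.Hom.lvU_preimage f hY h n D).ge
        (homOfLE (FBlow.lvU_mono 𝔜 hY n hDD)).op) (prj h n D a))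
    have hker : RingHom.ker (prj hY n D') ≤ ℑ.map ψ := by
      have hφ : (o.comp h f hf).φ hY D' = ψ.comp (o.φ h D) := (o.sharp_φ hY f hf D D' hDD).symm
      rw [(o.comp h f hf).ker_prj hK hD', hφ, ← Ideal.map_map, ← o.ker_prj hK hD]
      refine Ideal.map_mono fun a ha => ?_
      show prj h n D a ∈ 𝒜.ideal WD
      rw [RingHom.mem_ker.1 ha]
      exact Ideal.zero_mem _
    refine hψJ (mem_of_comap_map (prj_surjective hD' n) _ hker ?_)
    rw [Ideal.map_map, hcomp, ← Ideal.map_map, Ideal.map_comap_of_surjective _ (prj_surjective hD n)]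
    exact hs'

end Groth.FBlowLib
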