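import Groth.Agent.FBlowLib.Ideal
import Groth.Prelude.Def_BlowUp2
import Mathlib.AlgebraicGeometry.Gluing

/-!
# The completion of a blowing-up is the admissible formal blowing-up
-/

set_option autoImplicit false
set_option backward.isDefEq.respectTransparency false
set_option backward.isDefEq.respectTransparency.types false

universe u

open CategoryTheory CategoryTheory.Limits AlgebraicGeometry TopologicalSpace Opposite
open Groth.BlowUpBasics (sheafOf phi)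

namespace Groth.FBlowLib

section general

variable {Y P : Scheme.{u}}

/-- Morphisms agreeing on a covering family of opens closed under small intersections glue. -/
theorem exists_glue_of_basis {ι : Type u} (U : ι → Y.Opens) (hU : ∀ y : Y, ∃ i, y ∈ U i)
    (f : ∀ i, (U i : Scheme.{u}) ⟶ P)
    (hf : ∀ i j, ∀ y ∈ U i ⊓ U j, ∃ k, y ∈ U k ∧ ∃ (hki : U k ≤ U i) (hkj : U k ≤ U j),
      Y.homOfLE hki ≫ f i = f k ∧ Y.homOfLE hkj ≫ f j = f k) :
    ∃ g : Y ⟶ P, ∀ i, (U i).ι ≫ g = f i := by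
  let 𝒰 := Y.openCoverOfIsOpenCover U (IsOpenCover.mk (eq_top_iff.2 fun y _ => Opens.mem_iSup.2 (hU y)))
  have hc : ∀ i j, pullback.fst (𝒰.f i) (𝒰.f j) ≫ f i = pullback.snd _ _ ≫ f j := by
    intro i j
    let e := (isPullback_opens_inf (U i) (U j)).isoPullback
    show pullback.fst (U i).ι (U j).ι ≫ f i = pullback.snd (U i).ι (U j).ι ≫ f j
    rw [← cancel_epi e.hom, ← Category.assoc, ← Category.assoc, IsPullback.isoPullback_hom_fst,
      IsPullback.isoPullback_hom_snd]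
    choose k hyk hki hkj hi hj using hf i j
    let 𝒱 := (U i ⊓ U j).toScheme.openCoverOfIsOpenCover
      (fun y : (U i ⊓ U j : Y.Opens) => (U i ⊓ U j).ι ⁻¹ᵁ U (k y.1 y.2))
      (IsOpenCover.mk (eq_top_iff.2 fun y _ => Opens.mem_iSup.2 ⟨y, hyk y.1 y.2⟩))
    refine Scheme.Cover.hom_ext (𝒰 := 𝒱) _ _ fun y => ?_
    have e1 : 𝒱.f y ≫ Y.homOfLE (inf_le_left : U i ⊓ U j ≤ U i) =
        ((U i ⊓ U j).ι ∣_ U (k y.1 y.2)) ≫ Y.homOfLE (hki y.1 y.2) := by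
      rw [← cancel_mono (U i).ι]
      simp only [Category.assoc, Scheme.homOfLE_ι, morphismRestrict_ι]
      rfl
    have e2 : 𝒱.f y ≫ Y.homOfLE (inf_le_right : U i ⊓ U j ≤ U j) =
        ((U i ⊓ U j).ι ∣_ U (k y.1 y.2)) ≫ Y.homOfLE (hkj y.1 y.2) := by
      rw [← cancel_mono (U j).ι]
      simp only [Category.assoc, Scheme.homOfLE_ι, morphismRestrict_ι]
      rfl
    rw [← Category.assoc, ← Category.assoc, e1, e2, Category.assoc, Category.assoc, hi, hj]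
  exact ⟨𝒰.glueMorphisms f hc, Scheme.Cover.ι_glueMorphisms 𝒰 f hc⟩

/-- Maps to a spectrum agree after restricting to affine opens with the maps on sections. -/
theorem resLE_toSpecΓ {X : Scheme.{u}} (f : X ⟶ Y) {W : Y.Opens} (hW : IsAffineOpen W) {V : X.Opens}
    (hV : IsAffineOpen V) (e : V ≤ f ⁻¹ᵁ W) :
    f.resLE W V e ≫ W.toSpecΓ = V.toSpecΓ ≫ Spec.map (f.appLE W V e) := by
  rw [← cancel_mono hW.fromSpec]
  simp only [Category.assoc, hW.toSpecΓ_fromSpec, Scheme.Hom.resLE_comp_ι]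
  rw [IsAffineOpen.SpecMap_appLE_fromSpec f hW hV e, ← Category.assoc, hV.toSpecΓ_fromSpec]

theorem ι_comp_eq {A : Type u} [CommRing A] (g : Y ⟶ Spec (CommRingCat.of A)) {V : Y.Opens}
    (hV : IsAffineOpen V) : V.ι ≫ g = V.toSpecΓ ≫ Spec.map (CommRingCat.ofHom (phi g V)) := by
  rw [← Groth.BlowUpBasics.fromSpec_comp g hV, ← Category.assoc, hV.toSpecΓ_fromSpec]

end general

variable {A : Type u} [CommRing A] {K : Ideal A}

theorem Over.comap_π_eq_bot {𝔜 : FSch.Sys.{u}} (hY : 𝔜.IsFormal) (o : Over 𝔜 K) (n : ℕ) :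
    (sheafOf (K ^ (n + 1))).comap (o.π n) = ⊥ := by
  have := (hY n).1
  rw [← o.comm n, Scheme.IdealSheafData.comap_comp, ← o.ker_ι,
    Groth.AdicLinTop.Thickenings.ker_comap_self]

section affine

variable {𝔜 : FSch.Sys.{u}} {hY : 𝔜.IsFormal}

variable (hY) in
/-- The map from a level over an open to the spectrum of the sections. -/
noncomputable def jmap (n : ℕ) (U : (𝔜.X 0).Opens) :
    (𝔜.lvU hY n U : Scheme.{u}) ⟶ Spec (CommRingCat.of (Sec hY U)) :=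
  (𝔜.lvU hY n U).toSpecΓ ≫ Spec.map (CommRingCat.ofHom (prj hY n U))

theorem homOfLE_jmap (n : ℕ) {U V : (𝔜.X 0).Opens} (e : V ≤ U) :
    (𝔜.X n).homOfLE (FBlow.lvU_mono 𝔜 hY n e) ≫ jmap hY n U =
      jmap hY n V ≫ Spec.map (CommRingCat.ofHom (rs hY e)) := by
  rw [jmap, jmap, ← Category.assoc, ← Scheme.Opens.toSpecΓ_SpecMap_presheaf_map, Category.assoc,
    Category.assoc, ← Spec.map_comp, ← Spec.map_comp]
  refine congrArg (_ ≫ Spec.map ·) (CommRingCat.hom_ext (RingHom.ext fun a => ?_))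
  exact (prj_rs n e a).symm

theorem resLE_jmap {U : (𝔜.X 0).Opens} (hU : IsAffineOpen U) (n : ℕ) :
    (𝔜.ι n).resLE (𝔜.lvU hY (n + 1) U) (𝔜.lvU hY n U) (𝔜.lvU_le hY n U) ≫ jmap hY (n + 1) U =
      jmap hY n U := by
  rw [jmap, jmap, ← Category.assoc, resLE_toSpecΓ _ (Groth.AdicLinTop.FormalLevels.isAffineOpen_lvU hY hU _)
    (Groth.AdicLinTop.FormalLevels.isAffineOpen_lvU hY hU _), Category.assoc, ← Spec.map_comp]
  refine congrArg (_ ≫ Spec.map ·) (CommRingCat.hom_ext (RingHom.ext fun a => ?_))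
  exact trs_prj n U a

theorem Over.jmap_comp (o : Over 𝔜 K) {U : (𝔜.X 0).Opens} (hU : IsAffineOpen U) (n : ℕ) :
    jmap hY n U ≫ Spec.map (CommRingCat.ofHom (o.φ hY U)) = (𝔜.lvU hY n U).ι ≫ o.π n := by
  rw [jmap, Category.assoc, ← Spec.map_comp, ← CommRingCat.ofHom_comp, o.prj_φ,
    ← ι_comp_eq (o.π n) (Groth.AdicLinTop.FormalLevels.isAffineOpen_lvU hY hU n)]

end affine

variable {𝔞 : Ideal A} {k : ℕ} {P : Scheme.{u}} {q : P ⟶ Spec (CommRingCat.of A)}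

/-- Compatible maps from a formal system into a scheme are adjoint to ring maps over affine opens. -/
theorem exists_sharp {𝔜 : FSch.Sys.{u}} (hY : 𝔜.IsFormal) (e : ∀ n, 𝔜.X n ⟶ P)
    (ecomm : ∀ n, 𝔜.ι n ≫ e (n + 1) = e n) (W : P.Opens) {U : (𝔜.X 0).Opens} (hU : U ≤ (e 0) ⁻¹ᵁ W) :
    ∃ ψ : Γ(P, W) →+* Sec hY U, ∀ n, ∃ hn : 𝔜.lvU hY n U ≤ (e n) ⁻¹ᵁ W,
      (prj hY n U).comp ψ = ((e n).appLE W (𝔜.lvU hY n U) hn).hom := by
  refine ⟨(rs hY hU).comp ((FSch.schSharp 𝔜 hY e ecomm).hom.app (op W)).hom, fun n =>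
    ⟨(FBlow.lvU_mono 𝔜 hY n hU).trans (FSch.lvU_p 𝔜 hY e ecomm n W).ge, RingHom.ext fun a => ?_⟩⟩
  rw [RingHom.comp_apply, RingHom.comp_apply, prj_rs]
  refine (congrArg (lrs hY n hU) (congr(($(FSch.schSharp_proj 𝔜 hY e ecomm n)).hom.app (op W) a))).trans ?_
  show (((e n).appLE W _ _) ≫ (𝔜.X n).presheaf.map _).hom a = _
  rw [Scheme.Hom.appLE_map]

theorem Over.comp_eq_phi {𝔜 : FSch.Sys.{u}} {hY : 𝔜.IsFormal} (o : Over 𝔜 K) (e : ∀ n, 𝔜.X n ⟶ P)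
    (eq : ∀ n, e n ≫ q = o.π n) {W : P.Opens} {U : (𝔜.X 0).Opens} (ψ : Γ(P, W) →+* Sec hY U)
    (hψ : ∀ n, ∃ hn : 𝔜.lvU hY n U ≤ (e n) ⁻¹ᵁ W,
      (prj hY n U).comp ψ = ((e n).appLE W (𝔜.lvU hY n U) hn).hom) :
    ψ.comp (phi q W) = o.φ hY U := by
  ext a
  refine sec_ext fun n => ?_
  obtain ⟨hn, hψn⟩ := hψ n
  rw [← RingHom.comp_apply (prj hY n U) (o.φ hY U), o.prj_φ, RingHom.comp_apply,
    ← RingHom.comp_apply (prj hY n U), hψn, ← RingHom.comp_apply]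
  simp only [phi, ← eq n]
  rw [← CommRingCat.hom_comp, Category.assoc, Scheme.Hom.appLE_comp_appLE]

set_option maxHeartbeats 1600000 in
/-- Morphisms into a completion over a formal system from lifts over a basis of affine opens. -/
theorem existsUnique_hom_of_lifts {𝔛 : FSch.Sys.{u}} (hX : 𝔛.IsFormal)
    (o : Over 𝔛 K) (hc : ∀ n, IsClosedImmersion (o.π n))
    {𝔓 : FSch.Sys.{u}} (e : ∀ n, 𝔓.X n ⟶ P)
    (he : ∀ n, IsClosedImmersion (e n)) (ecomm : ∀ n, 𝔓.ι n ≫ e (n + 1) = e n)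
    (eker : ∀ n, (e n).ker = (sheafOf (K ^ (n + 1))).comap q) (b : 𝔓 ⟶ 𝔛)
    (hbq : ∀ n, (b : FSch.Hom 𝔓 𝔛).app n ≫ o.π n = e n ≫ q)
    {𝔜 : FSch.Sys.{u}} (hY : 𝔜.IsFormal) (g : 𝔜 ⟶ 𝔛) (hg : FSch.IsAdicHom g)
    (Gp : (𝔜.X 0).Opens → Prop) (haff : ∀ U, Gp U → IsAffineOpen U)
    (hbasis : ∀ {x : 𝔜.X 0} {O : (𝔜.X 0).Opens}, x ∈ O → ∃ U, x ∈ U ∧ U ≤ O ∧ Gp U)
    (hlift : ∀ U, Gp U → ∃! kU : Spec (CommRingCat.of (Sec hY U)) ⟶ P,
      kU ≫ q = Spec.map (CommRingCat.ofHom ((o.comp hX g hg).φ hY U))) :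
    ∃! kk : 𝔜 ⟶ 𝔓, kk ≫ b = g := by
  set oY := o.comp hX g hg
  let G := {U : (𝔜.X 0).Opens // Gp U}
  have hGood : ∀ {x : 𝔜.X 0} {O : (𝔜.X 0).Opens}, x ∈ O → ∃ U : G, x ∈ U.1 ∧ U.1 ≤ O := fun hx => by
    obtain ⟨U, h1, h2, h3⟩ := hbasis hx
    exact ⟨⟨U, h3⟩, h1, h2⟩
  have hU! := fun U : G => hlift U.1 U.2
  choose kU hkU hkUuniq using hU!
  have hkres : ∀ (U V : G) (e : V.1 ≤ U.1), Spec.map (CommRingCat.ofHom (rs hY e)) ≫ kU U = kU V :=
    fun U V e => hkUuniq V _ (by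
      show (_ ≫ kU U) ≫ q = _
      rw [Category.assoc, hkU U, ← Spec.map_comp, ← CommRingCat.ofHom_comp, oY.rs_φ hY e])
  have hglue : ∀ n, ∃ m : 𝔜.X n ⟶ P, ∀ U : G, (𝔜.lvU hY n U.1).ι ≫ m = jmap hY n U.1 ≫ kU U := fun n => by
    refine exists_glue_of_basis (fun U : G => 𝔜.lvU hY n U.1) (fun y => ?_) _ fun U V y hy => ?_
    · obtain ⟨U, h1, -⟩ := hGood (x := (𝔜.gInv hY n).hom y) (O := ⊤) trivial
      exact ⟨U, h1⟩
    · obtain ⟨W, h1, h2⟩ := hGood (x := (𝔜.gInv hY n).hom y) (O := U.1 ⊓ V.1) hy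
      refine ⟨W, h1, FBlow.lvU_mono 𝔜 hY n (h2.trans inf_le_left), FBlow.lvU_mono 𝔜 hY n (h2.trans inf_le_right),
        ?_, ?_⟩
      · rw [← Category.assoc, homOfLE_jmap n (h2.trans inf_le_left), Category.assoc, hkres U W (h2.trans inf_le_left)]
      · rw [← Category.assoc, homOfLE_jmap n (h2.trans inf_le_right), Category.assoc, hkres V W (h2.trans inf_le_right)]
  choose m hm using hglue
  have hext : ∀ (n : ℕ) {Z : Scheme.{u}} (a c : 𝔜.X n ⟶ Z),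
      (∀ x : 𝔜.X 0, ∃ U : (𝔜.X 0).Opens, x ∈ U ∧ (𝔜.lvU hY n U).ι ≫ a = (𝔜.lvU hY n U).ι ≫ c) → a = c := by
    intro n Z a c hac
    choose U hxU hU using hac
    exact Scheme.Cover.hom_ext (𝒰 := (𝔜.X n).openCoverOfIsOpenCover (fun x => 𝔜.lvU hY n (U x))
      (IsOpenCover.mk (eq_top_iff.2 fun y _ => Opens.mem_iSup.2 ⟨(𝔜.gInv hY n).hom y, hxU _⟩))) a c hU
  have hmq : ∀ n, m n ≫ q = oY.π n := fun n => hext n _ _ fun x => by
    obtain ⟨U, h1, -⟩ := hGood (x := x) (O := ⊤) trivial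
    refine ⟨U.1, h1, ?_⟩
    rw [← Category.assoc, hm, Category.assoc, hkU, oY.jmap_comp (haff _ U.2)]
  have hmι : ∀ n, 𝔜.ι n ≫ m (n + 1) = m n := fun n => hext n _ _ fun x => by
    obtain ⟨U, h1, -⟩ := hGood (x := x) (O := ⊤) trivial
    refine ⟨U.1, h1, ?_⟩
    rw [← Category.assoc, ← Scheme.Hom.resLE_comp_ι (𝔜.ι n) (𝔜.lvU_le hY n U.1), Category.assoc, hm, hm,
      ← Category.assoc, resLE_jmap (haff _ U.2)]
  have hker : ∀ n, (e n).ker ≤ (m n).ker := fun n => by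
    rw [eker, ← Scheme.IdealSheafData.map_bot, Scheme.IdealSheafData.le_map_iff_comap_le,
      ← Scheme.IdealSheafData.comap_comp, hmq, oY.comap_π_eq_bot hY]
  have := he
  let l : ∀ n, 𝔜.X n ⟶ 𝔓.X n := fun n => IsClosedImmersion.lift (e n) (m n) (hker n)
  have hle : ∀ n, l n ≫ e n = m n := fun n => IsClosedImmersion.lift_fac _ _ _
  let kk : 𝔜 ⟶ 𝔓 := ⟨l, fun n => by
    have := he (n + 1)
    rw [← cancel_mono (e (n + 1)), Category.assoc, Category.assoc, ecomm, hle, hle, hmι]⟩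
  refine ⟨kk, FSch.Hom.ext (funext fun n => ?_), fun k' hk' => ?_⟩
  · have := hc n
    rw [← cancel_mono (o.π n)]
    show (l n ≫ (b : FSch.Hom 𝔓 𝔛).app n) ≫ o.π n = (g : FSch.Hom 𝔜 𝔛).app n ≫ o.π n
    rw [Category.assoc, hbq, ← Category.assoc, hle, hmq]
    rfl
  -- uniqueness
  let e' : ∀ n, 𝔜.X n ⟶ P := fun n => (k' : FSch.Hom 𝔜 𝔓).app n ≫ e n
  have he'c : ∀ n, 𝔜.ι n ≫ e' (n + 1) = e' n := fun n => by
    simp only [e']
    rw [← Category.assoc, ← (k' : FSch.Hom 𝔜 𝔓).comm n, Category.assoc, ecomm]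
  have he'q : ∀ n, e' n ≫ q = oY.π n := fun n => by
    simp only [e']
    rw [Category.assoc, ← hbq, ← Category.assoc]
    show ((k' ≫ b : 𝔜 ⟶ 𝔛) : FSch.Hom 𝔜 𝔛).app n ≫ _ = _
    rw [hk']
    rfl
  refine FSch.Hom.ext (funext fun n => ?_)
  have := he n
  rw [← cancel_mono (e n)]
  show e' n = l n ≫ e n
  rw [hle]
  refine hext n _ _ fun x => ?_
  obtain ⟨_, ⟨W, hW, rfl⟩, hxW, -⟩ := P.isBasis_affineOpens.exists_subset_of_mem_open
    (Set.mem_univ ((e' 0).base x)) isOpen_univ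
  obtain ⟨U, h1, h2⟩ := hGood (x := x) (O := e' 0 ⁻¹ᵁ W) hxW
  refine ⟨U.1, h1, ?_⟩
  obtain ⟨χ, hχ⟩ := exists_sharp hY e' he'c W h2
  have hcomp := oY.comp_eq_phi e' he'q χ hχ
  have hkχ : Spec.map (CommRingCat.ofHom χ) ≫ hW.fromSpec = kU U := hkUuniq U _ (by
    show (_ ≫ hW.fromSpec) ≫ q = _
    rw [Category.assoc, Groth.BlowUpBasics.fromSpec_comp q hW, ← Spec.map_comp, ← CommRingCat.ofHom_comp, hcomp])
  obtain ⟨hn, hχn⟩ := hχ n
  have hUn := Groth.AdicLinTop.FormalLevels.isAffineOpen_lvU hY (haff _ U.2) n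
  rw [hm, ← hkχ, jmap, Category.assoc, ← Category.assoc (Spec.map _), ← Spec.map_comp,
    ← CommRingCat.ofHom_comp, hχn]
  erw [IsAffineOpen.SpecMap_appLE_fromSpec (e' n) hW hUn hn]
  exact ((Category.assoc _ _ _).symm.trans (congrArg (· ≫ e' n) hUn.toSpecΓ_fromSpec)).symm


section closed

variable {𝔛 : FSch.Sys.{u}} (o : Over 𝔛 K) {𝔓 : FSch.Sys.{u}} (e : ∀ n, 𝔓.X n ⟶ P)
  (he : ∀ n, IsClosedImmersion (e n)) (ecomm : ∀ n, 𝔓.ι n ≫ e (n + 1) = e n)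
  (eker : ∀ n, (e n).ker = (sheafOf (K ^ (n + 1))).comap q) (b : 𝔓 ⟶ 𝔛)
  (hbq : ∀ n, (b : FSch.Hom 𝔓 𝔛).app n ≫ o.π n = e n ≫ q)

include o e he ecomm eker hbq in
/-- A morphism induced between systems of closed subschemes is adic. -/
theorem isAdicHom_of_closed (hc : ∀ n, IsClosedImmersion (o.π n))
    (hcker : ∀ n, (o.π n).ker = sheafOf (K ^ (n + 1))) : FSch.IsAdicHom b := by
  have hpb : ∀ n, IsPullback (e n) ((b : FSch.Hom 𝔓 𝔛).app n) q (o.π n) := fun n => by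
    have := hc n
    have := he n
    exact isPullback_of_isClosedImmersion _ _ _ _ (hbq n).symm (by rw [hcker, eker])
  have hb : FSch.IsAdicHom b := fun n => by
    refine IsPullback.of_right ?_ ((b : FSch.Hom 𝔓 𝔛).comm n).symm (hpb (n + 1))
    rw [ecomm n, o.comm n]
    exact hpb n
  exact hb

set_option maxHeartbeats 1600000 in
include e he ecomm eker hbq in
/-- An effective Cartier centre gives an invertible ideal on the completion. -/
theorem isInvertible_completion (hK : K.FG) (hk : K ^ k ≤ 𝔞) (hX : 𝔛.IsFormal) (hP : 𝔓.IsFormal)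
    (hb : FSch.IsAdicHom b) (hq1 : BlowUp.IsEffCartierIdeal ((sheafOf 𝔞).comap q)) :
    (FBlow.idealMap b hP hX (o.idealOf hX 𝔞)).IsInvertible := by
  rw [o.idealMap_idealOf b hb]
  refine (o.comp hX b hb).isInvertible_of_good hK hk fun x => ?_
  obtain ⟨W, hxW, f, hf, hfW⟩ := hq1 ((e 0).base x)
  rw [Groth.BlowUpBasics.ideal_comap_sheafOf] at hfW
  have := he 0
  set U := (e 0) ⁻¹ᵁ W.1
  obtain ⟨ψ, hψ⟩ := exists_sharp hP e ecomm W.1 (le_refl U)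
  have hφ := (o.comp hX b hb).comp_eq_phi e (fun n => (hbq n).symm) ψ hψ
  have hU : IsAffineOpen U := W.2.preimage (e 0)
  refine ⟨U, hxW, hU, ψ f, ?_, by rw [← hφ, ← Ideal.map_map, hfW, Ideal.map_span, Set.image_singleton]⟩
  refine mem_nonZeroDivisors_iff_right.2 fun t ht => sec_ext fun i => ?_
  obtain ⟨hn, hψn⟩ := hψ (i + k)
  have := he (i + k)
  have hsurj : Function.Surjective ((prj hP (i + k) U).comp ψ) := by
    rw [hψn]
    intro y
    obtain ⟨z, hz⟩ := (Groth.AdicLinTop.FormalLevels.bijective_res hn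
      (FSch.lvU_p 𝔓 hP e ecomm (i + k) W.1).le).2 y
    obtain ⟨w, rfl⟩ := (e (i + k)).app_surjective _ W.2 z
    exact ⟨w, hz⟩
  have hkern : RingHom.ker ((prj hP (i + k) U).comp ψ) = (K ^ (i + k + 1)).map (phi q W.1) := by
    rw [hψn, Groth.AdicLinTop.FormalLevels.ker_appLE_eq _ W _ _ (FSch.lvU_p 𝔓 hP e ecomm (i + k) W.1).le,
      eker, Groth.BlowUpBasics.ideal_comap_sheafOf]
  obtain ⟨c, hc'⟩ := hsurj (prj hP (i + k) U t)
  have h1 : c * f ∈ (K ^ (i + k + 1)).map (phi q W.1) := by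
    rw [← hkern, RingHom.mem_ker, map_mul, hc', RingHom.comp_apply, ← map_mul, ht, map_zero]
  rw [show i + k + 1 = (i + 1) + k by omega, pow_add, Ideal.map_mul] at h1
  obtain ⟨c', hc'mem, hc'eq⟩ := Ideal.mem_mul_span_singleton.1
    (Ideal.mul_mono_right (hfW ▸ Ideal.map_mono hk) h1)
  obtain rfl : c' = c := (mul_cancel_right_mem_nonZeroDivisors hf).1 hc'eq
  obtain ⟨hi, hψi⟩ := hψ i
  have h2 : prj hP (i + k) U (t - ψ c') = 0 := by rw [map_sub, ← hc', RingHom.comp_apply, sub_self]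
  have h3 := mul_eq_zero_of_le (Nat.le_add_right i k) h2
  rw [map_sub, sub_eq_zero, ← RingHom.comp_apply (prj hP i U)] at h3
  have := he i
  rw [map_zero, h3, ← RingHom.mem_ker, hψi,
    Groth.AdicLinTop.FormalLevels.ker_appLE_eq _ W _ _ (FSch.lvU_p 𝔓 hP e ecomm i W.1).le,
    eker, Groth.BlowUpBasics.ideal_comap_sheafOf]
  exact hc'mem

end closed

set_option maxHeartbeats 1600000 in
/-- The completion of a blowing-up of a spectrum is the admissible formal blowing-up. -/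
theorem isAdmBlowUp_of_isBlowUp (hK : K.FG) (hk : K ^ k ≤ 𝔞) {𝔛 : FSch.Sys.{u}} (hX : 𝔛.IsFormal)
    (o : Over 𝔛 K) (hc : ∀ n, IsClosedImmersion (o.π n))
    (hcker : ∀ n, (o.π n).ker = sheafOf (K ^ (n + 1)))
    (hq : BlowUp.IsBlowUp q (sheafOf 𝔞)) {𝔓 : FSch.Sys.{u}} (hP : 𝔓.IsFormal) (e : ∀ n, 𝔓.X n ⟶ P)
    (he : ∀ n, IsClosedImmersion (e n)) (ecomm : ∀ n, 𝔓.ι n ≫ e (n + 1) = e n)
    (eker : ∀ n, (e n).ker = (sheafOf (K ^ (n + 1))).comap q) (b : 𝔓 ⟶ 𝔛)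
    (hbq : ∀ n, (b : FSch.Hom 𝔓 𝔛).app n ≫ o.π n = e n ≫ q) :
    FBlow.IsAdmBlowUp b hP hX (o.idealOf hX 𝔞) := by
  have hb := isAdicHom_of_closed o e he ecomm eker b hbq hc hcker
  refine ⟨hb, isInvertible_completion o e he ecomm eker b hbq hK hk hX hP hb hq.1, fun 𝔜 hY g hg hinv => ?_⟩
  -- the universal property
  rw [o.idealMap_idealOf g hg] at hinv
  refine existsUnique_hom_of_lifts hX o hc e he ecomm eker b hbq hY g hg ((o.comp hX g hg).Good hY 𝔞)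
    (fun U hU => hU.1) (fun hx => (o.comp hX g hg).exists_good hK hk hinv hx) fun U hU => hq.2 _ _ ?_
  obtain ⟨g', hg', hgen⟩ := hU.2
  rw [Groth.BlowUpBasics.comap_sheafOf_Spec, hgen]
  exact Groth.BlowUpBasics.isEffCartierIdeal_sheafOf_span hg'

end Groth.FBlowLib
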