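import Groth.Agent.FBlowLib.Local
import Groth.Agent.FBlowLib.CohOpen
import Groth.Agent.TopFinType.Base

/-!
# A coherent open ideal on a quasi-compact formal system comes from one level
-/

set_option autoImplicit false
set_option backward.isDefEq.respectTransparency false
set_option backward.isDefEq.respectTransparency.types false

universe u

open CategoryTheory CategoryTheory.Limits AlgebraicGeometry TopologicalSpace Opposite

namespace Groth.FBlowLib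

variable {A : Type u} [CommRing A] {K : Ideal A} {𝔛 : FSch.Sys.{u}} {h : 𝔛.IsFormal}

/-- A uniform level for a coherent open ideal, and generation on small affine opens. -/
theorem exists_uniform_level [CompactSpace (𝔛.X 0)] (o : Over 𝔛 K) (hK : K.FG) {J : FBlow.IdealSh (𝔛.Osh h)}
    (hJ : FBlow.IsCohOpen 𝔛 h J) :
    ∃ n, ∀ (x : 𝔛.X 0), ∃ (U : (𝔛.X 0).Opens) (𝔞 : Ideal (Sec h U)), IsAffineOpen U ∧ x ∈ U ∧ 𝔞.FG ∧
      ∀ (D : (𝔛.X 0).Opens) (e : D ≤ U), IsAffineOpen D →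
        J.sect D = 𝔞.map (rs h e) ∧ RingHom.ker (prj h n D) ≤ J.sect D := by
  choose U hU m 𝔞 hxU hUO hfg hpow hJU using fun x : 𝔛.X 0 => exists_affine_centre o hK hJ (x := x) (O := ⊤) trivial
  obtain ⟨t, ht⟩ := (isCompact_univ (X := 𝔛.X 0)).elim_finite_subcover (fun x => (U x : Set (𝔛.X 0)))
    (fun x => (U x).isOpen) (fun x _ => Set.mem_iUnion.2 ⟨x, hxU x⟩)
  refine ⟨t.sup m, fun x => ?_⟩
  obtain ⟨z, hz, hxz⟩ := Set.mem_iUnion₂.1 (ht (Set.mem_univ x))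
  refine ⟨U z, 𝔞 z, hU z, hxz, hfg z, fun D e hD => ⟨hJU z D e hD, ?_⟩⟩
  rw [hJU z D e hD, o.ker_prj hK hD, ← o.rs_φ h e, ← Ideal.map_map, Ideal.map_pow]
  exact Ideal.map_mono ((Ideal.pow_le_pow_right (Nat.succ_le_succ (Finset.le_sup hz))).trans (hpow z))

theorem exists_lvU_eq' (h : 𝔛.IsFormal) (n : ℕ) {V : (𝔛.X n).Opens} (hV : IsAffineOpen V) :
    ∃ U : (𝔛.X 0).Opens, IsAffineOpen U ∧ 𝔛.lvU h n U = V := by
  have := 𝔛.toX_isClosedImmersion h n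
  refine ⟨𝔛.toX n ⁻¹ᵁ V, hV.preimage _, ?_⟩
  ext z
  show (𝔛.toX n).base ((𝔛.gInv h n).hom z) ∈ V ↔ z ∈ V
  rw [show (𝔛.toX n).base ((𝔛.gInv h n).hom z) = z from congr($(𝔛.gInv_toX_base h n) z)]

theorem rs_comp {U V W : (𝔛.X 0).Opens} (i : V ≤ U) (j : W ≤ V) :
    (rs h j).comp (rs h i) = rs h (j.trans i) := RingHom.ext fun a => rs_rs i j a

theorem exists_pow_mul_mem {B B' : Type*} [CommRing B] [CommRing B'] (φ : B →+* B') (c : B) (𝔟 : Ideal B) (z : B)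
    (hz : φ z ∈ 𝔟.map φ) [hloc : @IsLocalization.Away B _ c B' _ φ.toAlgebra] : ∃ k : ℕ, c ^ k * z ∈ 𝔟 := by
  let := φ.toAlgebra
  obtain ⟨⟨⟨q, hq⟩, ⟨_, k₀, rfl⟩⟩, hqk⟩ := (IsLocalization.mem_map_algebraMap_iff (Submonoid.powers c) B').1 hz
  have h1 : algebraMap B B' (z * c ^ k₀) = algebraMap B B' q := (map_mul _ _ _).trans hqk
  obtain ⟨⟨_, k₁, rfl⟩, hk₁⟩ := IsLocalization.exists_of_eq (M := Submonoid.powers c) h1
  refine ⟨k₁ + k₀, ?_⟩
  rw [show c ^ (k₁ + k₀) * z = c ^ k₁ * (z * c ^ k₀) by ring, show c ^ k₁ * (z * c ^ k₀) = c ^ k₁ * q from hk₁]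
  exact Ideal.mul_mem_left _ _ hq

variable {J : FBlow.IdealSh (𝔛.Osh h)} {n : ℕ}
  (hsmall : ∀ (x : 𝔛.X 0), ∃ (U : (𝔛.X 0).Opens) (𝔞 : Ideal (Sec h U)), IsAffineOpen U ∧ x ∈ U ∧ 𝔞.FG ∧
      ∀ (D : (𝔛.X 0).Opens) (e : D ≤ U), IsAffineOpen D →
        J.sect D = 𝔞.map (rs h e) ∧ RingHom.ker (prj h n D) ≤ J.sect D)

include hsmall

theorem ker_prj_le_sect (D : (𝔛.X 0).Opens) : RingHom.ker (prj h n D) ≤ J.sect D := fun s hs => by
  refine J.mem_of_local fun x hx => ?_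
  obtain ⟨U, 𝔞, -, hxU, -, hU⟩ := hsmall x
  obtain ⟨_, ⟨D', hD', rfl⟩, hxD', hle⟩ := (𝔛.X 0).isBasis_affineOpens.exists_subset_of_mem_open
    (show x ∈ D ⊓ U from ⟨hx, hxU⟩) (D ⊓ U).isOpen
  have hDD : D' ≤ D := fun z hz => (hle hz).1
  have hDU : D' ≤ U := fun z hz => (hle hz).2
  refine ⟨D', hDD, hxD', (hU D' hDU hD').2 ?_⟩
  show prj h n D' (rs h hDD s) = 0
  rw [prj_rs, RingHom.mem_ker.1 hs, map_zero]

omit hsmall in
theorem exists_pow_lift_small {U : (𝔛.X 0).Opens} (𝔞 : Ideal (Sec h U))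
    (hU : ∀ (D : (𝔛.X 0).Opens) (e : D ≤ U), IsAffineOpen D → J.sect D = 𝔞.map (rs h e))
    {D D' : (𝔛.X 0).Opens} (hD : IsAffineOpen D) (hDU : D ≤ U) (hD' : IsAffineOpen D') (e : D' ≤ D) (c : Sec h D)
    (hc : D' = (𝔛.X 0).basicOpen (prj h 0 D c)) (y : LSec h n D)
    (hy : lrs h n e y ∈ (J.sect D').map (prj h n D')) :
    ∃ k : ℕ, prj h n D c ^ k * y ∈ (J.sect D).map (prj h n D) := by
  have hIm : (J.sect D').map (prj h n D') = ((J.sect D).map (prj h n D)).map (lrs h n e) := by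
    rw [Ideal.map_map, show (lrs h n e).comp (prj h n D) = (prj h n D').comp (rs h e) from
      RingHom.ext fun a => (prj_rs n e a).symm, ← Ideal.map_map, hU D hDU hD, hU D' (e.trans hDU) hD',
      Ideal.map_map (rs h hDU), rs_comp]
  rw [hIm] at hy
  exact exists_pow_mul_mem (lrs h n e) (prj h n D c) ((J.sect D).map (prj h n D)) y hy
    (hloc := (Groth.AdicLinTop.FormalLevels.isAffineOpen_lvU h hD n).isLocalization_of_eq_basicOpen _
      (homOfLE (FBlow.lvU_mono 𝔛 h n e)) (lvU_eq_basicOpen c hc n))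

set_option maxHeartbeats 800000 in
theorem exists_pow_lift {W : (𝔛.X 0).Opens} (hW : IsAffineOpen W) (b : Sec h W)
    {z : LSec h n W}
    (hz : lrs h n ((𝔛.X 0).basicOpen_le (prj h 0 W b) |>.trans
        (Groth.AdicLinTop.FormalLevels.toX_preimage_lvU h 0 W).le) z ∈
      (J.sect _).map (prj h n _)) :
    ∃ k : ℕ, prj h n W b ^ k * z ∈ (J.sect W).map (prj h n W) := by
  set D := (𝔛.X 0).basicOpen (prj h 0 W b)
  have hDW : D ≤ W := ((𝔛.X 0).basicOpen_le (prj h 0 W b)).trans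
    (Groth.AdicLinTop.FormalLevels.toX_preimage_lvU h 0 W).le
  have hlocal : ∀ x ∈ W, ∃ (g : Sec h W) (k : ℕ) (e : (𝔛.X 0).basicOpen (prj h 0 W g) ≤ W),
      x ∈ (𝔛.X 0).basicOpen (prj h 0 W g) ∧
      lrs h n e (prj h n W b ^ k * z) ∈ (J.sect _).map (prj h n _) := by
    intro x hx
    obtain ⟨U, 𝔞, -, hxU, -, hU⟩ := hsmall x
    have hW' : IsAffineOpen (𝔛.lvU h 0 W) := Groth.AdicLinTop.FormalLevels.isAffineOpen_lvU h hW 0
    have hx0 : x ∈ 𝔛.lvU h 0 W := by rwa [show 𝔛.lvU h 0 W = W from Groth.AdicLinTop.FormalLevels.toX_preimage_lvU h 0 W]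
    obtain ⟨g₀, hg₀, hxg₀⟩ := hW'.exists_basicOpen_le (V := U) ⟨x, hxU⟩ hx0
    obtain ⟨g, rfl⟩ := prj_surjective hW 0 g₀
    set Dg := (𝔛.X 0).basicOpen (prj h 0 W g)
    have hgW : Dg ≤ W := ((𝔛.X 0).basicOpen_le (prj h 0 W g)).trans
      (Groth.AdicLinTop.FormalLevels.toX_preimage_lvU h 0 W).le
    have hgaff : IsAffineOpen Dg := hW'.basicOpen _
    have hDgU : Dg ≤ U := hg₀
    let bg := rs h hgW b
    set Dgb := (𝔛.X 0).basicOpen (prj h 0 Dg bg)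
    have hgbg : Dgb ≤ Dg := ((𝔛.X 0).basicOpen_le _).trans (Groth.AdicLinTop.FormalLevels.toX_preimage_lvU h 0 Dg).le
    have hgbD : Dgb ≤ D := by
      intro w hw
      have := hw
      simp only [Dgb, bg, prj_rs] at this
      exact (Scheme.basicOpen_res (𝔛.X 0) (prj h 0 W b) _).le this |>.2
    have hgbaff : IsAffineOpen Dgb := (Groth.AdicLinTop.FormalLevels.isAffineOpen_lvU h hgaff 0).basicOpen _
    have h1 : lrs h n hgbg (lrs h n hgW z) ∈ (J.sect Dgb).map (prj h n Dgb) := by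
      obtain ⟨s, hs, hsz⟩ := (Ideal.mem_map_iff_of_surjective _ (prj_surjective
        (show IsAffineOpen D from hW'.basicOpen _) n)).1 hz
      have e : lrs h n hgbg (lrs h n hgW z) = lrs h n hgbD (lrs h n hDW z) :=
        (FBlow.sch_map_comp_apply _ _ z).trans (FBlow.sch_map_comp_apply _ _ z).symm
      rw [e, show lrs h n hDW z = prj h n D s from hsz.symm, ← prj_rs]
      exact Ideal.mem_map_of_mem _ (J.map_mem hgbD hs)
    obtain ⟨k, hk⟩ := exists_pow_lift_small (J := J) (n := n) 𝔞 (fun D' e' hD' => (hU D' e' hD').1) hgaff hDgU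
      hgbaff hgbg bg rfl _ h1
    refine ⟨g, k, hgW, hxg₀, ?_⟩
    rw [map_mul, map_pow, show lrs h n hgW (prj h n W b) = prj h n Dg bg from (prj_rs n hgW b).symm]
    exact hk
  choose g k e hxg hk using hlocal
  obtain ⟨t, ht⟩ := hW.isCompact.elim_finite_subcover
    (fun x : W => ((𝔛.X 0).basicOpen (prj h 0 W (g x.1 x.2)) : Set (𝔛.X 0))) (fun x => Opens.isOpen _)
    (fun x hx => Set.mem_iUnion.2 ⟨⟨x, hx⟩, hxg x hx⟩)
  refine ⟨t.sup fun x => k x.1 x.2, ?_⟩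
  obtain ⟨s, hs⟩ := prj_surjective hW n (prj h n W b ^ (t.sup fun x => k x.1 x.2) * z)
  refine (Ideal.mem_map_iff_of_surjective _ (prj_surjective hW n)).2 ⟨s, ?_, hs⟩
  refine J.mem_of_local fun x hx => ?_
  obtain ⟨y, hy, hxy⟩ := Set.mem_iUnion₂.1 (ht hx)
  refine ⟨(𝔛.X 0).basicOpen (prj h 0 W (g y.1 y.2)), e y.1 y.2, hxy, ?_⟩
  show rs h _ s ∈ J.sect _
  refine mem_of_comap_map (prj_surjective ((Groth.AdicLinTop.FormalLevels.isAffineOpen_lvU h hW 0).basicOpen _) n) _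
    (ker_prj_le_sect hsmall _) ?_
  rw [prj_rs, hs]
  obtain ⟨d, hd⟩ := Nat.exists_eq_add_of_le (Finset.le_sup (f := fun x : W => k x.1 x.2) hy)
  rw [hd, add_comm, pow_add, mul_assoc, map_mul]
  exact Ideal.mul_mem_left _ _ (hk y.1 y.2)

/-- The ideal data at the level. -/
noncomputable def levelData : (𝔛.X n).IdealSheafData where
  ideal W := (J.sect (𝔛.toX n ⁻¹ᵁ W.1)).map
    (((𝔛.X n).presheaf.map (eqToHom (show W.1 = 𝔛.lvU h n (𝔛.toX n ⁻¹ᵁ W.1) by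
      ext z
      show z ∈ W.1 ↔ (𝔛.toX n).base ((𝔛.gInv h n).hom z) ∈ W.1
      rw [show (𝔛.toX n).base ((𝔛.gInv h n).hom z) = z from congr($(𝔛.gInv_toX_base h n) z)])).op).hom.comp
      (prj h n (𝔛.toX n ⁻¹ᵁ W.1)))
  map_ideal_basicOpen := by
    rintro ⟨W, hW⟩ f
    obtain ⟨W₀, hW₀, rfl⟩ := exists_lvU_eq' h n hW
    obtain ⟨b, rfl⟩ := prj_surjective hW₀ n f
    have hWbo : 𝔛.lvU h n ((𝔛.X 0).basicOpen (prj h 0 W₀ b)) = (𝔛.X n).basicOpen (prj h n W₀ b) :=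
      lvU_eq_basicOpen b rfl n
    have hDW : (𝔛.X 0).basicOpen (prj h 0 W₀ b) ≤ W₀ := ((𝔛.X 0).basicOpen_le _).trans
      (Groth.AdicLinTop.FormalLevels.toX_preimage_lvU h 0 W₀).le
    have key : ∀ (V : (𝔛.X n).Opens) (V₀ : (𝔛.X 0).Opens) (hV₀ : 𝔛.toX n ⁻¹ᵁ V = V₀)
        (e : V = 𝔛.lvU h n (𝔛.toX n ⁻¹ᵁ V)) (e' : V = 𝔛.lvU h n V₀),
        (J.sect (𝔛.toX n ⁻¹ᵁ V)).map (((𝔛.X n).presheaf.map (eqToHom e).op).hom.comp (prj h n _)) =
          ((J.sect V₀).map (prj h n V₀)).map ((𝔛.X n).presheaf.map (eqToHom e').op).hom := by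
      intro V V₀ hV₀ e e'
      subst hV₀
      rw [Ideal.map_map]
    rw [key _ _ (Groth.AdicLinTop.FormalLevels.toX_preimage_lvU h n W₀) _ rfl]
    refine Eq.trans ?_ (key ((𝔛.X n).basicOpen (prj h n W₀ b)) ((𝔛.X 0).basicOpen (prj h 0 W₀ b))
      ((congrArg (fun V => 𝔛.toX n ⁻¹ᵁ V) hWbo.symm).trans
        (Groth.AdicLinTop.FormalLevels.toX_preimage_lvU h n _)) (by
          ext z
          show z ∈ (𝔛.X n).basicOpen (prj h n W₀ b) ↔
            (𝔛.toX n).base ((𝔛.gInv h n).hom z) ∈ (𝔛.X n).basicOpen (prj h n W₀ b)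
          rw [show (𝔛.toX n).base ((𝔛.gInv h n).hom z) = z from congr($(𝔛.gInv_toX_base h n) z)]) hWbo.symm).symm
    rw [Ideal.map_map ((𝔛.X n).presheaf.map (eqToHom rfl).op).hom]
    let ψ : LSec h n ((𝔛.X 0).basicOpen (prj h 0 W₀ b)) ≃+* Γ(𝔛.X n, (𝔛.X n).basicOpen (prj h n W₀ b)) :=
      ((𝔛.X n).presheaf.mapIso (eqToIso hWbo.symm).op).commRingCatIsoToRingEquiv
    have hψ : ((𝔛.X n).presheaf.map (eqToHom hWbo.symm).op).hom = ψ.toRingHom := rfl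
    rw [show ((𝔛.X n).presheaf.map (homOfLE ((𝔛.X n).basicOpen_le (prj h n W₀ b))).op).hom.comp
        ((𝔛.X n).presheaf.map (eqToHom rfl).op).hom =
      ((𝔛.X n).presheaf.map (eqToHom hWbo.symm).op).hom.comp (lrs h n hDW) by
        rw [← CommRingCat.hom_comp, ← Functor.map_comp]
        show _ = ((𝔛.X n).presheaf.map (homOfLE (FBlow.lvU_mono 𝔛 h n hDW)).op ≫
          (𝔛.X n).presheaf.map (eqToHom hWbo.symm).op).hom
        rw [← Functor.map_comp]; rfl,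
      ← Ideal.map_map]
    refine congrArg (Ideal.map _) (le_antisymm ?_ fun y hy => ?_)
    · rw [Ideal.map_le_iff_le_comap, Ideal.map_le_iff_le_comap]
      intro s hs
      rw [Ideal.mem_comap, Ideal.mem_comap, ← prj_rs]
      exact Ideal.mem_map_of_mem _ (J.map_mem hDW hs)
    · have haffn : IsAffineOpen (𝔛.lvU h n W₀) := Groth.AdicLinTop.FormalLevels.isAffineOpen_lvU h hW₀ n
      let : Algebra (LSec h n W₀) (LSec h n ((𝔛.X 0).basicOpen (prj h 0 W₀ b))) := (lrs h n hDW).toAlgebra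
      have : IsLocalization.Away (prj h n W₀ b) (LSec h n ((𝔛.X 0).basicOpen (prj h 0 W₀ b))) :=
        haffn.isLocalization_of_eq_basicOpen _ (homOfLE (FBlow.lvU_mono 𝔛 h n hDW)) hWbo
      obtain ⟨k₀, a, ha⟩ := IsLocalization.Away.surj (prj h n W₀ b) y
      have hunit : IsUnit (lrs h n hDW (prj h n W₀ b)) :=
        IsLocalization.Away.algebraMap_isUnit (prj h n W₀ b)
      have hla : lrs h n hDW a = y * lrs h n hDW (prj h n W₀ b) ^ k₀ := ha.symm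
      obtain ⟨k, hk⟩ := exists_pow_lift hsmall hW₀ b (z := a) (hla ▸ Ideal.mul_mem_right _ _ hy)
      have h2 := Ideal.mem_map_of_mem (lrs h n hDW) hk
      rw [map_mul, map_pow, hla] at h2
      exact (Ideal.mul_unit_mem_iff_mem _ (hunit.pow k₀)).1 ((Ideal.unit_mul_mem_iff_mem _ (hunit.pow k)).1 h2)

theorem ideal_levelData (W₀ : (𝔛.X 0).Opens) (hW₀ : IsAffineOpen W₀) :
    (levelData hsmall).ideal ⟨𝔛.lvU h n W₀, Groth.AdicLinTop.FormalLevels.isAffineOpen_lvU h hW₀ n⟩ =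
      (J.sect W₀).map (prj h n W₀) := by
  have key : ∀ (V₀ : (𝔛.X 0).Opens) (_ : 𝔛.toX n ⁻¹ᵁ 𝔛.lvU h n W₀ = V₀)
      (e : 𝔛.lvU h n W₀ = 𝔛.lvU h n (𝔛.toX n ⁻¹ᵁ 𝔛.lvU h n W₀)) (e' : 𝔛.lvU h n W₀ = 𝔛.lvU h n V₀),
      (J.sect (𝔛.toX n ⁻¹ᵁ 𝔛.lvU h n W₀)).map (((𝔛.X n).presheaf.map (eqToHom e).op).hom.comp (prj h n _)) =
        ((J.sect V₀).map (prj h n V₀)).map ((𝔛.X n).presheaf.map (eqToHom e').op).hom := by
    intro V₀ hV₀ e e'
    subst hV₀
    rw [Ideal.map_map]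
  refine (key W₀ (Groth.AdicLinTop.FormalLevels.toX_preimage_lvU h n W₀) _ rfl).trans ?_
  rw [show ((𝔛.X n).presheaf.map (eqToHom rfl).op).hom = RingHom.id (LSec h n W₀) from by
    rw [eqToHom_refl]; exact congrArg CommRingCat.Hom.hom ((𝔛.X n).presheaf.map_id _), Ideal.map_id]

theorem idealFT_levelData : FSch.IdealFT (levelData hsmall) := by
  intro U
  refine Ideal.fg_of_localizationSpan {g : Γ(𝔛.X n, U.1) | ((levelData hsmall).ideal ((𝔛.X n).affineBasicOpen g)).FG} ?_ ?_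
  · rw [← U.2.self_le_iSup_basicOpen_iff]
    intro x hx
    obtain ⟨V, 𝔞, hV, hxV, hfg, hJV⟩ := hsmall ((𝔛.gInv h n).hom x)
    obtain ⟨g, hgV, hxg⟩ := U.2.exists_basicOpen_le (V := 𝔛.lvU h n V) ⟨x, hxV⟩ hx
    refine Opens.mem_iSup.mpr ⟨⟨g, ?_⟩, hxg⟩
    show ((levelData hsmall).ideal ((𝔛.X n).affineBasicOpen g)).FG
    have hVn := Groth.AdicLinTop.FormalLevels.isAffineOpen_lvU h hV n
    rw [← (levelData hsmall).map_ideal (U := (𝔛.X n).affineBasicOpen g) (V := ⟨_, hVn⟩) hgV,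
      ideal_levelData hsmall V hV, (hJV V le_rfl hV).1,
      show rs h (le_refl V) = RingHom.id _ from RingHom.ext fun a => rs_self _ a, Ideal.map_id]
    exact (hfg.map _).map _
  · rintro ⟨g, hg⟩
    have := U.2.isLocalization_basicOpen g
    let e := IsLocalization.algEquiv (Submonoid.powers g) Γ(𝔛.X n, (𝔛.X n).basicOpen g) (Localization.Away g)
    have h := Ideal.FG.map (f := e.toRingEquiv.toRingHom) hg
    rw [← (levelData hsmall).map_ideal_basicOpen U g] at h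
    erw [Ideal.map_map] at h
    convert h using 2
    ext r
    exact (e.commutes r).symm

theorem sect_eq_ofLevel_levelData (V : (𝔛.X 0).Opens) :
    J.sect V = (FBlow.ofLevel 𝔛 h n (levelData hsmall)).sect V := by
  refine le_antisymm (fun s hs => ?_) fun s hs => ?_
  · rw [FBlow.mem_ofLevel_iff]
    intro y hy
    obtain ⟨_, ⟨D, hD, rfl⟩, hyD, hle⟩ := (𝔛.X 0).isBasis_affineOpens.exists_subset_of_mem_open
      (show (𝔛.gInv h n).hom y ∈ V from hy) V.isOpen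
    refine ⟨⟨_, Groth.AdicLinTop.FormalLevels.isAffineOpen_lvU h hD n⟩, FBlow.lvU_mono 𝔛 h n hle, hyD, ?_⟩
    rw [ideal_levelData hsmall D hD]
    show lrs h n hle (prj h n V s) ∈ _
    rw [← prj_rs]
    exact Ideal.mem_map_of_mem _ (J.map_mem hle hs)
  · rw [FBlow.mem_ofLevel_iff] at hs
    refine J.mem_of_local fun x hx => ?_
    obtain ⟨_, ⟨D, hD, rfl⟩, hxD, hle⟩ := (𝔛.X 0).isBasis_affineOpens.exists_subset_of_mem_open hx V.isOpen
    refine ⟨D, hle, hxD, mem_of_comap_map (prj_surjective hD n) _ (ker_prj_le_sect hsmall D) ?_⟩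
    show prj h n D (rs h hle s) ∈ _
    rw [← ideal_levelData hsmall D hD, prj_rs]
    exact mem_ideal_of_memData _ ⟨_, Groth.AdicLinTop.FormalLevels.isAffineOpen_lvU h hD n⟩ _ (FBlow.memData_res _ _ hs)

end Groth.FBlowLib
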