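import Groth.Agent.FBlowLib.SecAdm
import Mathlib.RingTheory.Spectrum.Prime.Noetherian
import Mathlib.RingTheory.Polynomial.Basic
import Mathlib.RingTheory.Jacobson.Ring

/-!
# The common space of a formal scheme over a base ring is locally Noetherian
-/

set_option autoImplicit false
set_option backward.isDefEq.respectTransparency false
set_option backward.isDefEq.respectTransparency.types false

universe u

open CategoryTheory CategoryTheory.Limits AlgebraicGeometry TopologicalSpace Opposite
open Groth.BlowUpBasics (phi)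

namespace Groth.FBlowLib

theorem noetherianSpace_of_finiteType {B A : Type u} [CommRing B] [CommRing A] (φ : B →+* A) (hφ : φ.FiniteType)
    [IsNoetherianRing (B ⧸ nilradical B)] : NoetherianSpace (PrimeSpectrum A) := by
  let J := (nilradical B).map φ
  have hJ : J ≤ nilradical A := by
    rw [Ideal.map_le_iff_le_comap]
    exact fun b hb => (mem_nilradical.1 hb).map φ
  let ψ : B ⧸ nilradical B →+* A ⧸ J := Ideal.quotientMap J φ Ideal.le_comap_map
  have hψ : ψ.FiniteType := RingHom.FiniteType.of_comp_finiteType (f := Ideal.Quotient.mk (nilradical B))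
    ((RingHom.FiniteType.of_surjective (Ideal.Quotient.mk J) Ideal.Quotient.mk_surjective).comp hφ)
  have : IsNoetherianRing (A ⧸ J) := by
    let := ψ.toAlgebra
    have : Algebra.FiniteType (B ⧸ nilradical B) (A ⧸ J) := hψ
    exact Algebra.FiniteType.isNoetherianRing (B ⧸ nilradical B) (A ⧸ J)
  refine noetherianSpace_of_surjective (PrimeSpectrum.comap (Ideal.Quotient.mk J))
    (PrimeSpectrum.continuous_comap _) fun p => ?_
  have hp : p ∈ Set.range (PrimeSpectrum.comap (Ideal.Quotient.mk J)) := by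
    rw [range_comap_of_surjective _ _ Ideal.Quotient.mk_surjective, Ideal.mk_ker,
      PrimeSpectrum.mem_zeroLocus, SetLike.coe_subset_coe]
    exact hJ.trans (nilradical_le_prime p.asIdeal)
  exact hp

theorem isNoetherianRing_red {R : Type u} [CommRing R] {I : Ideal R} (hR : AdicRing.IsBase R I) :
    IsNoetherianRing ((R ⧸ I ^ (0 + 1)) ⧸ nilradical (R ⧸ I ^ (0 + 1))) := by
  rcases hR.2 with ⟨hN, -⟩ | ⟨hdom, hpre, hdim, t, ht, rfl⟩
  · infer_instance
  · have : ValuationRing R := { }
    by_cases hu : IsUnit t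
    · have hsub : Subsingleton (R ⧸ Ideal.span {t} ^ (0 + 1)) :=
        Ideal.Quotient.subsingleton_iff.2 (by rw [zero_add, pow_one, Ideal.span_singleton_eq_top]; exact hu)
      have : Subsingleton ((R ⧸ Ideal.span {t} ^ (0 + 1)) ⧸ nilradical (R ⧸ Ideal.span {t} ^ (0 + 1))) :=
        Ideal.Quotient.mk_surjective.subsingleton
      infer_instance
    set I := Ideal.span {t} ^ (0 + 1)
    have hI : I = Ideal.span {t} := by simp [I]
    let m := IsLocalRing.maximalIdeal R
    have hrad : I.radical = m := by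
      rw [hI, Ideal.radical_eq_sInf]
      refine le_antisymm (sInf_le ⟨?_, Ideal.IsMaximal.isPrime inferInstance⟩) (le_sInf fun P ⟨hP, hPp⟩ => ?_)
      · exact IsLocalRing.le_maximalIdeal (by rwa [Ne, Ideal.span_singleton_eq_top])
      · have hne : P ≠ ⊥ := fun hb => ht (by simpa [hb] using hP (Ideal.mem_span_singleton_self t))
        have := hPp.isMaximal_of_ne_bot hne
        exact (IsLocalRing.eq_maximalIdeal this).ge
    have hnil : nilradical (R ⧸ I) = m.map (Ideal.Quotient.mk I) := by
      rw [← hrad, Ideal.map_radical_of_surjective Ideal.Quotient.mk_surjective (by rw [Ideal.mk_ker]),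
        Ideal.map_quotient_self]
      rfl
    have hmax : (m.map (Ideal.Quotient.mk I)).IsMaximal := by
      refine (Ideal.map_eq_top_or_isMaximal_of_surjective _ Ideal.Quotient.mk_surjective
        (inferInstanceAs (IsLocalRing.maximalIdeal R).IsMaximal)).resolve_left fun htop => ?_
      have h1 : (1 : R) ∈ m := mem_of_mem_map_mk (hrad ▸ Ideal.le_radical) (htop ▸ Submodule.mem_top)
      exact (IsLocalRing.maximalIdeal.isMaximal R).ne_top ((Ideal.eq_top_iff_one _).2 h1)
    rw [hnil]
    have := hmax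
    let := Ideal.Quotient.field (m.map (Ideal.Quotient.mk I))
    infer_instance
where
  mem_of_mem_map_mk {R : Type u} [CommRing R] {I m : Ideal R} (hIm : I ≤ m) {x : R}
      (hx : Ideal.Quotient.mk I x ∈ m.map (Ideal.Quotient.mk I)) : x ∈ m := by
    rwa [← Ideal.mem_comap, Ideal.comap_map_of_surjective' _ Ideal.Quotient.mk_surjective, Ideal.mk_ker,
      sup_eq_left.2 hIm] at hx

variable {R : Type u} [CommRing R] {I : Ideal R} {𝔛 : FSch.Sys.{u}}

/-- Affine opens of the common space are Noetherian spaces. -/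
theorem noetherianSpace_affine (hR : AdicRing.IsBase R I) (p : 𝔛 ⟶ FSch.spf R I)
    (hfp : ∀ n, LocallyOfFinitePresentation ((p : FSch.Hom 𝔛 (FSch.spf R I)).app n))
    {U : (𝔛.X 0).Opens} (hU : IsAffineOpen U) : NoetherianSpace (U : Set (𝔛.X 0)) := by
  have := isNoetherianRing_red hR
  have hft := (finitePresentation_phi p hfp 0 hU)
  have : NoetherianSpace (Spec Γ(𝔛.X 0, U)) := noetherianSpace_of_finiteType _ (RingHom.FiniteType.of_finitePresentation hft)
  exact noetherianSpace_of_surjective (fun z => ⟨hU.fromSpec.base z, hU.range_fromSpec.le ⟨z, rfl⟩⟩)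
    (hU.fromSpec.continuous.subtype_mk _) fun x => by
      obtain ⟨z, hz⟩ := hU.range_fromSpec.ge x.2
      exact ⟨z, Subtype.ext hz⟩

/-- An open subset of a quasi-compact open subset is quasi-compact. -/
theorem isCompact_of_le_compact (hR : AdicRing.IsBase R I) (p : 𝔛 ⟶ FSch.spf R I)
    (hfp : ∀ n, LocallyOfFinitePresentation ((p : FSch.Hom 𝔛 (FSch.spf R I)).app n))
    {W : (𝔛.X 0).Opens} (hW : IsCompact (W : Set (𝔛.X 0))) {S : Set (𝔛.X 0)} (hS : S ⊆ W) : IsCompact S := by
  obtain ⟨t, ht⟩ := hW.elim_finite_subcover (fun A : (𝔛.X 0).affineOpens => (A.1 : Set (𝔛.X 0)))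
    (fun A => A.1.isOpen) (fun x _ => by
      obtain ⟨_, ⟨A, hA, rfl⟩, hxA, -⟩ := (𝔛.X 0).isBasis_affineOpens.exists_subset_of_mem_open
        (show x ∈ (⊤ : (𝔛.X 0).Opens) from trivial) (⊤ : (𝔛.X 0).Opens).isOpen
      exact Set.mem_iUnion.2 ⟨⟨A, hA⟩, hxA⟩)
  have hcov : S = ⋃ A ∈ t, S ∩ A.1 := by
    refine Set.Subset.antisymm (fun x hx => ?_) (Set.iUnion₂_subset fun A _ => Set.inter_subset_left)
    obtain ⟨A, hA, hxA⟩ := Set.mem_iUnion₂.1 (ht (hS hx))
    exact Set.mem_iUnion₂.2 ⟨A, hA, hx, hxA⟩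
  rw [hcov]
  refine t.isCompact_biUnion fun A _ => ?_
  have := noetherianSpace_affine hR p hfp A.2
  have h1 := (NoetherianSpace.isCompact (Subtype.val ⁻¹' S : Set (A.1 : Set (𝔛.X 0)))).image continuous_subtype_val
  rwa [Subtype.image_preimage_coe, Set.inter_comm] at h1

end Groth.FBlowLib
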