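import Groth.Agent.S8857
import Groth.Agent.FBlowLib.Level
import Groth.Agent.FBlowLib.NoethSpace

/-!
# Extension of ideal data from a quasi-compact open, trivial away from it
-/

set_option autoImplicit false
set_option backward.isDefEq.respectTransparency false
set_option backward.isDefEq.respectTransparency.types false

universe u

open CategoryTheory CategoryTheory.Limits AlgebraicGeometry TopologicalSpace Opposite

namespace Groth.FBlowLib

section Sch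

variable {X Y : Scheme.{u}}

theorem idealFT_of_local {𝒜 : X.IdealSheafData}
    (H : ∀ x : X, ∃ B : X.affineOpens, x ∈ B.1 ∧ (𝒜.ideal B).FG) : FSch.IdealFT 𝒜 := by
  intro U
  refine Ideal.fg_of_localizationSpan {g : Γ(X, U.1) | (𝒜.ideal (X.affineBasicOpen g)).FG} ?_ ?_
  · rw [← U.2.self_le_iSup_basicOpen_iff]
    intro x hx
    obtain ⟨B, hxB, hfg⟩ := H x
    obtain ⟨g, hgB, hxg⟩ := U.2.exists_basicOpen_le (V := B.1) ⟨x, hxB⟩ hx
    refine Opens.mem_iSup.mpr ⟨⟨g, ?_⟩, hxg⟩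
    show (𝒜.ideal (X.affineBasicOpen g)).FG
    rw [← 𝒜.map_ideal (U := X.affineBasicOpen g) (V := B) hgB]
    exact hfg.map _
  · rintro ⟨g, hg⟩
    have := U.2.isLocalization_basicOpen g
    let e := IsLocalization.algEquiv (Submonoid.powers g) Γ(X, X.basicOpen g) (Localization.Away g)
    have h := Ideal.FG.map (f := e.toRingEquiv.toRingHom) hg
    rw [← 𝒜.map_ideal_basicOpen U g] at h
    erw [Ideal.map_map] at h
    convert h using 2
    ext r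
    exact (e.commutes r).symm

theorem comap_map_openImmersion (j : Y ⟶ X) [IsOpenImmersion j] [QuasiCompact j] (𝒜 : Y.IdealSheafData) :
    (𝒜.map j).comap j = 𝒜 := by
  refine le_antisymm (Scheme.IdealSheafData.comap_map_le _ _) fun B a ha => ?_
  have hA : IsAffineOpen (j ''ᵁ B.1) := B.2.image_of_isOpenImmersion j
  have hpre : IsAffineOpen (j ⁻¹ᵁ (j ''ᵁ B.1)) := by rw [Scheme.Hom.preimage_image_eq]; exact B.2
  rw [Scheme.IdealSheafData.ideal_comap_of_isOpenImmersion,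
    show (𝒜.map j).ideal ⟨j ''ᵁ B.1, hA⟩ = _ from Scheme.IdealSheafData.ideal_map 𝒜 j ⟨_, hA⟩ (H := hpre),
    Ideal.comap_comap, ← CommRingCat.hom_comp, Ideal.mem_comap]
  have e : (j.appIso B.1).inv ≫ j.app (j ''ᵁ B.1) = Y.presheaf.map (eqToHom (Scheme.Hom.preimage_image_eq j B.1)).op :=
    Scheme.Hom.appIso_inv_app j B.1
  rw [e]
  exact 𝒜.ideal_le_comap_ideal (U := ⟨_, hpre⟩) (V := B)
    (le_of_eq (Subtype.ext (Scheme.Hom.preimage_image_eq j B.1))) ha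

theorem ideal_map_eq_top (j : Y ⟶ X) [QuasiCompact j] (𝒜 : Y.IdealSheafData) (A : X.affineOpens)
    (hA : ∀ y : Y, j.base y ∈ A.1 → y ∉ 𝒜.support) : (𝒜.map j).ideal A = ⊤ := by
  have hbot : (𝒜.subschemeι ≫ j) ⁻¹ᵁ A.1 = ⊥ := by
    ext z
    refine ⟨fun hz => ?_, False.elim⟩
    exact hA _ hz (show 𝒜.subschemeι.base z ∈ (𝒜.support : Set Y) from
      𝒜.range_subschemeι.le ⟨z, rfl⟩)
  show (𝒜.subschemeι ≫ j).ker.ideal A = ⊤
  rw [Scheme.Hom.ker_apply, Ideal.eq_top_iff_one, RingHom.mem_ker]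
  have : Subsingleton Γ(𝒜.subscheme, (𝒜.subschemeι ≫ j) ⁻¹ᵁ A.1) := by rw [hbot]; infer_instance
  exact Subsingleton.elim _ _

/-- Finite type ideal data on a quasi-compact open extends to finite type ideal data which is trivial away from it. -/
theorem exists_extension [QuasiSeparatedSpace X] {U C W : X.Opens} (hU : IsCompact (U : Set X))
    (hC : IsCompact (C : Set X)) (hW : IsCompact (W : Set X)) (hUW : U ≤ W) (hCW : C ≤ W)
    (hUC : ∀ x ∈ U, x ∉ C)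
    (hout : ∀ x, x ∉ W → ∃ A : X.affineOpens, x ∈ A.1 ∧ A.1 ⊓ W ≤ C)
    (𝒜 : U.toScheme.IdealSheafData) (h𝒜 : FSch.IdealFT 𝒜) :
    ∃ ℬ : X.IdealSheafData, FSch.IdealFT ℬ ∧ ℬ.comap U.ι = 𝒜 ∧
      ∀ A : X.affineOpens, A.1 ⊓ W ≤ C → ℬ.ideal A = ⊤ := by
  have : CompactSpace W.toScheme := isCompact_iff_compactSpace.mp hW
  have : QuasiSeparatedSpace W.toScheme := W.ι.isOpenEmbedding.quasiSeparatedSpace
  have : QuasiCompact W.ι := quasiCompact_of_compactSpace W.ι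
  have hpre : ∀ S : X.Opens, S ≤ W → IsCompact (S : Set X) → IsCompact ((W.ι ⁻¹ᵁ S : W.toScheme.Opens) : Set W.toScheme) := by
    intro S hS hc
    refine (W.ι.isOpenEmbedding.isInducing.isCompact_iff).2 ?_
    convert hc using 1
    show W.ι '' (W.ι ⁻¹' (S : Set X)) = S
    rw [Set.image_preimage_eq_inter_range, Scheme.Opens.range_ι]
    exact Set.inter_eq_left.2 hS
  set U' := W.ι ⁻¹ᵁ U
  set C' := W.ι ⁻¹ᵁ C
  let φ : U'.toScheme ⟶ U.toScheme := IsOpenImmersion.lift U.ι (U'.ι ≫ W.ι) (by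
    rintro _ ⟨z, rfl⟩
    rw [Scheme.Opens.range_ι]
    exact z.2)
  have hφ : φ ≫ U.ι = U'.ι ≫ W.ι := IsOpenImmersion.lift_fac _ _ _
  let ψ : U.toScheme ⟶ U'.toScheme := IsOpenImmersion.lift U'.ι (X.homOfLE hUW) (by
    rintro _ ⟨z, rfl⟩
    rw [Scheme.Opens.range_ι]
    show W.ι.base ((X.homOfLE hUW).base z) ∈ U
    rw [← Scheme.Hom.comp_apply, Scheme.homOfLE_ι]
    exact z.2)
  have hψ : ψ ≫ φ = 𝟙 _ := by
    rw [← cancel_mono U.ι, Category.assoc, hφ, IsOpenImmersion.lift_fac_assoc, Scheme.homOfLE_ι, Category.id_comp]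
  obtain ⟨𝒥, ⟨h𝒥, hdisj⟩, h𝒥U, -⟩ := Groth.Agent.S8857.result W.toScheme C' U' (hpre C hCW hC) (hpre U hUW hU)
    (𝒜.comap φ) ⟨idealFT_comap φ h𝒜, Set.disjoint_left.2 fun z _ hz => hUC _ z.2 hz⟩
  have htop : ∀ A : X.affineOpens, A.1 ⊓ W ≤ C → (𝒥.map W.ι).ideal A = ⊤ := fun A hA =>
    ideal_map_eq_top _ _ A fun y hy hyS => Set.disjoint_left.1 hdisj hyS (hA ⟨hy, y.2⟩)
  refine ⟨𝒥.map W.ι, idealFT_of_local fun x => ?_, ?_, htop⟩
  · by_cases hx : x ∈ W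
    · obtain ⟨_, ⟨B, hB, rfl⟩, hxB, -⟩ := W.toScheme.isBasis_affineOpens.exists_subset_of_mem_open
        (show (⟨x, hx⟩ : W.toScheme) ∈ (⊤ : W.toScheme.Opens) from trivial) (⊤ : W.toScheme.Opens).isOpen
      have hA : IsAffineOpen (W.ι ''ᵁ B) := hB.image_of_isOpenImmersion W.ι
      have hpreB : IsAffineOpen (W.ι ⁻¹ᵁ (W.ι ''ᵁ B)) := by rw [Scheme.Hom.preimage_image_eq]; exact hB
      refine ⟨⟨_, hA⟩, ⟨⟨x, hx⟩, hxB, rfl⟩, ?_⟩
      rw [Scheme.IdealSheafData.ideal_map 𝒥 W.ι ⟨_, hA⟩ (H := hpreB)]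
      have hbij : Function.Bijective (W.ι.app (W.ι ''ᵁ B)).hom := by
        have : IsIso (W.ι.app (W.ι ''ᵁ B)) := W.ι.isIso_app _ (W.ι.image_le_opensRange B)
        exact ConcreteCategory.bijective_of_isIso (W.ι.app (W.ι ''ᵁ B))
      have h := (h𝒥 ⟨_, hpreB⟩).map (RingEquiv.ofBijective _ hbij).symm.toRingHom
      convert h using 1
      exact (Ideal.map_symm (RingEquiv.ofBijective _ hbij)).symm
    · obtain ⟨A, hxA, hA⟩ := hout x hx
      exact ⟨A, hxA, by rw [htop A hA]; exact ⟨{1}, by simp⟩⟩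
  · have h1 : ((𝒥.map W.ι).comap U.ι).comap φ = 𝒜.comap φ := by
      rw [← Scheme.IdealSheafData.comap_comp, hφ, Scheme.IdealSheafData.comap_comp, comap_map_openImmersion, h𝒥U]
    have h2 := congrArg (fun I => Scheme.IdealSheafData.comap I ψ) h1
    simp only [← Scheme.IdealSheafData.comap_comp, ← Category.assoc, hψ, Category.id_comp,
      Scheme.IdealSheafData.comap_id] at h2
    exact h2

end Sch

variable {𝔛 𝔜 : FSch.Sys.{u}} {h : 𝔛.IsFormal} {hY : 𝔜.IsFormal}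

/-- The inverse image of `ofLevel` along a levelwise open immersion. -/
theorem idealMap_ofLevel (f : 𝔜 ⟶ 𝔛) (hf : ∀ n, IsOpenImmersion ((f : FSch.Hom 𝔜 𝔛).app n)) (n : ℕ)
    (𝒜 : (𝔛.X n).IdealSheafData) :
    FBlow.idealMap f hY h (FBlow.ofLevel 𝔛 h n 𝒜) =
      FBlow.ofLevel 𝔜 hY n (𝒜.comap ((f : FSch.Hom 𝔜 𝔛).app n)) := by
  refine idealSh_eq_of_le (idealMap_le fun W a ha => ?_) fun V s hs => ?_
  · rw [FBlow.mem_ofLevel_iff] at ha ⊢
    show FBlow.MemData _ _ (prj hY n _ (shp hY h f W a))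
    rw [prj_shp, FSch.Hom.levelPush_app]
    exact mem_ofData_comap _ 𝒜 _ ha
  have := hf 0
  have := hf n
  set j := (f : FSch.Hom 𝔜 𝔛).app 0
  set jn := (f : FSch.Hom 𝔜 𝔛).app n
  have hrange : ((j ''ᵁ V : (𝔛.X 0).Opens) : Set (𝔛.X 0)) ⊆ Set.range j.base := Set.image_subset_range _ _
  suffices key : ∀ V' : (𝔜.X 0).Opens, V' = j ⁻¹ᵁ (j ''ᵁ V) → ∀ s ∈ (FBlow.ofLevel 𝔜 hY n (𝒜.comap jn)).sect V',
      s ∈ (FBlow.idealMap f hY h (FBlow.ofLevel 𝔛 h n 𝒜)).sect V' from key V (j.preimage_image_eq V).symm s hs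
  rintro _ rfl s hs
  obtain ⟨t, rfl⟩ := (bijective_shp_of_isOpenImmersion (h := h) (hY := hY) f hf hrange).2 s
  rw [mem_idealMap_iff f hf _ hrange]
  rw [FBlow.mem_ofLevel_iff] at hs ⊢
  change FBlow.MemData _ _ (prj hY n _ (shp hY h f _ t)) at hs
  rw [prj_shp, FSch.Hom.levelPush_app] at hs
  intro y hy
  obtain ⟨w, hw, hwy⟩ := (show (𝔛.gInv h n).hom y ∈ j ''ᵁ V from hy)
  let z := (𝔜.toX n).base w
  have hz : jn.base z = y := by
    show ((𝔜.toX n) ≫ jn).base w = y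
    rw [FSch.Hom.toX_comm f n]
    show (𝔛.toX n).base (j.base w) = y
    erw [hwy]
    exact congr($(𝔛.gInv_toX_base h n) y)
  have hzV : z ∈ 𝔜.lvU hY n (j ⁻¹ᵁ (j ''ᵁ V)) := by
    show j.base ((𝔜.gInv hY n).hom ((𝔜.toX n).base w)) ∈ j ''ᵁ V
    rw [show (𝔜.gInv hY n).hom ((𝔜.toX n).base w) = w from congr($(𝔜.toX_base_gInv hY n) w)]
    exact ⟨w, hw, rfl⟩
  obtain ⟨B, i, hzB, hB⟩ := hs z hzV
  have hBV : B.1 ≤ jn ⁻¹ᵁ 𝔛.lvU h n (j ''ᵁ V) := i.trans (FSch.Hom.lvU_preimage f hY h n _).ge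
  have hle : jn ''ᵁ B.1 ≤ 𝔛.lvU h n (j ''ᵁ V) :=
    (jn.image_mono hBV).trans (by rw [Scheme.Hom.image_preimage_eq_opensRange_inf]; exact inf_le_right)
  refine ⟨⟨_, B.2.image_of_isOpenImmersion jn⟩, hle, ⟨z, hzB, hz⟩, ?_⟩
  rw [Scheme.IdealSheafData.ideal_comap_of_isOpenImmersion, Ideal.mem_comap] at hB
  have e := congr($(Scheme.Hom.appLE_appIso_inv jn hBV) (prj h n (j ''ᵁ V) t))
  convert hB using 1
  refine e.symm.trans ?_
  rw [CategoryTheory.comp_apply]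
  refine congrArg (jn.appIso B.1).inv.hom ?_
  exact congr($((Scheme.Hom.appLE_map jn (FSch.Hom.lvU_preimage f hY h n _).ge (homOfLE i).op).symm) (prj h n _ t))

end Groth.FBlowLib
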