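import Groth.Agent.FBlowLib.Extend

/-!
# Extension of coherent open ideals as ideals of one level
-/

set_option autoImplicit false
set_option backward.isDefEq.respectTransparency false
set_option backward.isDefEq.respectTransparency.types false

universe u

open CategoryTheory CategoryTheory.Limits AlgebraicGeometry TopologicalSpace Opposite

namespace Groth.FBlowLib

/-- A coherent open ideal on a quasi-compact open extends to the ideal of one level, trivial away from it. -/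
theorem exists_levelExtension {R : Type u} [CommRing R] {I : Ideal R} (hR : AdicRing.IsBase R I)
    {𝔛 : FSch.Sys.{u}} {h : 𝔛.IsFormal} (p : 𝔛 ⟶ FSch.spf R I) (hp : FSch.IsAdicHom p)
    (hfp : ∀ n, LocallyOfFinitePresentation ((p : FSch.Hom 𝔛 (FSch.spf R I)).app n))
    [QuasiSeparatedSpace (𝔛.X 0)]
    (hqp : ∃ (ι : Type u) (V : ι → (𝔛.X 0).Opens), (⨆ i, V i) = ⊤ ∧ (∀ i, IsCompact (V i : Set (𝔛.X 0))) ∧
      ∀ i, Set.Finite {j : ι | V i ⊓ V j ≠ ⊥})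
    (U : (𝔛.X 0).Opens) (hUc : IsCompact (U : Set (𝔛.X 0))) (hU : (𝔛.restrictOpen h U).IsFormal)
    (JU : FBlow.IdealSh ((𝔛.restrictOpen h U).Osh hU)) (hJU : FBlow.IsCohOpen (𝔛.restrictOpen h U) hU JU) :
    ∃ (n : ℕ) (ℬ : (𝔛.X n).IdealSheafData), FSch.IdealFT ℬ ∧
      FBlow.idealMap (𝔛.restrictOpenι h U) hU h (FBlow.ofLevel 𝔛 h n ℬ) = JU ∧
      ∀ V : (𝔛.X 0).Opens, V ⊓ U = ⊥ → (FBlow.ofLevel 𝔛 h n ℬ).sect V = ⊤ := by
  classical
  obtain ⟨ι, V, hVtop, hVc, hVf⟩ := hqp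
  have hcov : ∀ x : 𝔛.X 0, ∃ i, x ∈ V i := fun x => Opens.mem_iSup.1 (hVtop.ge (Opens.mem_top x))
  obtain ⟨t, ht⟩ := hUc.elim_finite_subcover (fun i => (V i : Set (𝔛.X 0))) (fun i => (V i).isOpen)
    (fun x _ => Set.mem_iUnion.2 (hcov x))
  have hSfin : {i | V i ⊓ U ≠ ⊥}.Finite := by
    refine (t.finite_toSet.biUnion fun j _ => hVf j).subset fun i hi => ?_
    obtain ⟨x, hx⟩ := Set.nonempty_iff_ne_empty.2 fun he => hi (Opens.ext he)
    obtain ⟨j, hj, hxj⟩ := Set.mem_iUnion₂.1 (ht hx.2)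
    exact Set.mem_iUnion₂.2 ⟨j, hj, fun he => (show x ∈ (⊥ : (𝔛.X 0).Opens) from he ▸ ⟨hxj, hx.1⟩)⟩
  let W : (𝔛.X 0).Opens := ⨆ i ∈ hSfin.toFinset, V i
  have hmemW : ∀ x, x ∈ W ↔ ∃ i ∈ hSfin.toFinset, x ∈ V i := fun x => by simp [W]
  have hWc : IsCompact (W : Set (𝔛.X 0)) := by
    rw [show (W : Set (𝔛.X 0)) = ⋃ i ∈ hSfin.toFinset, (V i : Set (𝔛.X 0)) from
      Set.ext fun x => (hmemW x).trans (by simp)]
    exact hSfin.toFinset.isCompact_biUnion fun i _ => hVc i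
  have hclW : ∀ x ∈ closure (U : Set (𝔛.X 0)), x ∈ W := fun x hx => by
    obtain ⟨i, hi⟩ := hcov x
    obtain ⟨y, hy⟩ := mem_closure_iff.1 hx _ (V i).isOpen hi
    exact (hmemW x).2 ⟨i, hSfin.mem_toFinset.2 fun he => (show y ∈ (⊥ : (𝔛.X 0).Opens) from he ▸ hy), hi⟩
  let O : (𝔛.X 0).Opens := ⟨(closure (U : Set (𝔛.X 0)))ᶜ, isClosed_closure.isOpen_compl⟩
  have hCc : IsCompact ((W ⊓ O : (𝔛.X 0).Opens) : Set (𝔛.X 0)) :=
    isCompact_of_le_compact hR p hfp hWc fun x hx => hx.1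
  have : CompactSpace ((𝔛.restrictOpen h U).X 0) :=
    isCompact_iff_compactSpace.mp (show IsCompact ((𝔛.lvU h 0 U : (𝔛.X 0).Opens) : Set (𝔛.X 0)) by
      rwa [show 𝔛.lvU h 0 U = U from Groth.AdicLinTop.FormalLevels.toX_preimage_lvU h 0 U])
  obtain ⟨n, hsmall⟩ := exists_uniform_level
    ((baseOver p hp).comp h (𝔛.restrictOpenι h U) (isAdicHom_restrictOpenι h U))
    (Groth.TopFinType.fg_of_isBase hR) hJU
  have hqs : QuasiSeparatedSpace (𝔛.X n) := (𝔛.levelHomeo h n).symm.isOpenEmbedding.quasiSeparatedSpace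
  have hcl : ∀ S : (𝔛.X 0).Opens, IsCompact (S : Set (𝔛.X 0)) → IsCompact (𝔛.lvU h n S : Set (𝔛.X n)) :=
    fun S hS => (𝔛.levelHomeo h n).symm.isCompact_preimage.2 hS
  obtain ⟨ℬ, hℬ, hℬU, hℬtop⟩ := exists_extension (X := 𝔛.X n) (hcl U hUc) (hcl _ hCc) (hcl W hWc)
    (fun z hz => hclW _ (subset_closure hz)) (fun z hz => hz.1)
    (fun z hz hzC => hzC.2 (subset_closure hz))
    (fun z hz => by
      obtain ⟨_, ⟨A, hA, rfl⟩, hzA, hle⟩ := (𝔛.X n).isBasis_affineOpens.exists_subset_of_mem_open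
        (show z ∈ 𝔛.lvU h n O from fun hzc => hz (hclW _ hzc)) (𝔛.lvU h n O).isOpen
      exact ⟨⟨A, hA⟩, hzA, fun w hw => ⟨hw.2, hle hw.1⟩⟩)
    (levelData hsmall) (idealFT_levelData hsmall)
  refine ⟨n, ℬ, hℬ, ?_, fun V' hV' => ?_⟩
  · rw [idealMap_ofLevel _ (fun k => isOpenImmersion_restrictOpenι U k)]
    refine (congrArg (FBlow.ofLevel _ hU n) ?_).trans
      (FBlow.IdealSh.ext (funext fun V' => (sect_eq_ofLevel_levelData hsmall V').symm))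
    exact hℬU
  · refine (Ideal.eq_top_iff_one _).2 ?_
    rw [FBlow.mem_ofLevel_iff]
    intro z hz
    obtain ⟨_, ⟨A, hA, rfl⟩, hzA, hle⟩ := (𝔛.X n).isBasis_affineOpens.exists_subset_of_mem_open hz
      (𝔛.lvU h n V').isOpen
    refine ⟨⟨A, hA⟩, hle, hzA, ?_⟩
    rw [hℬtop ⟨A, hA⟩ fun w hw => ⟨hw.2, fun hc => ?_⟩]
    · exact Submodule.mem_top
    · obtain ⟨y, hy⟩ := mem_closure_iff.1 hc _ V'.isOpen (hle hw.1)
      exact (show y ∈ (⊥ : (𝔛.X 0).Opens) from hV' ▸ hy)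

end Groth.FBlowLib
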