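import Groth.Agent.FBlowLib.Completion

/-!
# Restriction to open subsets; smaller good opens
-/

set_option autoImplicit false
set_option backward.isDefEq.respectTransparency false
set_option backward.isDefEq.respectTransparency.types false

universe u

open CategoryTheory CategoryTheory.Limits AlgebraicGeometry TopologicalSpace Opposite
open Groth.BlowUpBasics (sheafOf phi)

namespace Groth.FBlowLib

variable {𝔛 : FSch.Sys.{u}} {h : 𝔛.IsFormal}

variable (h) in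
theorem isAdicHom_restrictOpenι (U : (𝔛.X 0).Opens) : FSch.IsAdicHom (𝔛.restrictOpenι h U) := by
  have key : ∀ (X Y : Scheme.{u}) (g : X ⟶ Y) (W : Y.Opens) (V : X.Opens) (e : g ⁻¹ᵁ W = V),
      IsPullback (g.resLE W V e.ge) V.ι W.ι g := by
    intro X Y g W V e
    subst e
    rw [Scheme.Hom.resLE_eq_morphismRestrict]
    exact isPullback_morphismRestrict g W
  exact fun n => key _ _ _ _ _ (𝔛.lvU_succ h n U)

variable (h) in
theorem isFormal_restrictOpen' (U : (𝔛.X 0).Opens) : (𝔛.restrictOpen h U).IsFormal :=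
  Groth.AdicLinTop.Thickenings.isFormal_of_isAdicHom (isAdicHom_restrictOpenι h U) h

theorem bijective_levelPush_restrictOpenι {U W : (𝔛.X 0).Opens} (hW : W ≤ U)
    (hU : (𝔛.restrictOpen h U).IsFormal) (n : ℕ) :
    Function.Bijective ((FSch.Hom.levelPush (𝔛.restrictOpenι h U) hU h n).hom.app (op W)) := by
  have key : ∀ {X Y : Scheme.{u}} (j : X ⟶ Y) [IsOpenImmersion j] (V : Y.Opens) (V' : X.Opens)
      (e : V' ≤ j ⁻¹ᵁ V), j ⁻¹ᵁ V ≤ V' → V ≤ j.opensRange → Function.Bijective (j.appLE V V' e) := by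
    intro X Y j _ V V' e e' hle
    have := Scheme.Hom.isIso_app j V hle
    have h2 := Groth.AdicLinTop.FormalLevels.bijective_res e e'
    rw [Scheme.Hom.appLE]
    show Function.Bijective ((X.presheaf.map (homOfLE e).op).hom ∘ (j.app V).hom)
    exact h2.comp ((ConcreteCategory.isIso_iff_bijective _).1 this)
  refine key (𝔛.lvU h n U).ι _ _ _ ?_ ?_
  · exact (FSch.Hom.lvU_preimage (𝔛.restrictOpenι h U) hU h n W).le
  · rw [Scheme.Opens.opensRange_ι]
    exact FBlow.lvU_mono 𝔛 h n hW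

/-- The map of structure sheaves of a morphism, on sections. -/
noncomputable def shp {𝔜 : FSch.Sys.{u}} (hY : 𝔜.IsFormal) (h : 𝔛.IsFormal) (f : 𝔜 ⟶ 𝔛) (W : (𝔛.X 0).Opens) :
    Sec h W →+* Sec hY ((f : FSch.Hom 𝔜 𝔛).app 0 ⁻¹ᵁ W) :=
  ((FSch.Hom.sharp f hY h).hom.app (op W)).hom

theorem prj_shp {𝔜 : FSch.Sys.{u}} (hY : 𝔜.IsFormal) (f : 𝔜 ⟶ 𝔛) (W : (𝔛.X 0).Opens) (n : ℕ) (a : Sec h W) :
    prj hY n _ (shp hY h f W a) = (FSch.Hom.levelPush f hY h n).hom.app (op W) (prj h n W a) :=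
  congr(($(FSch.Hom.sharp_proj f hY h n)).hom.app (op W) a)

theorem bijective_shp {𝔜 : FSch.Sys.{u}} {hY : 𝔜.IsFormal} (f : 𝔜 ⟶ 𝔛) (W : (𝔛.X 0).Opens)
    (hb : ∀ n, Function.Bijective ((FSch.Hom.levelPush f hY h n).hom.app (op W))) :
    Function.Bijective (shp hY h f W) := by
  refine ⟨fun a a' haa => sec_ext fun n => (hb n).1 (by rw [← prj_shp, ← prj_shp, haa]), fun y => ?_⟩
  choose z hz using fun n => (hb n).2 (prj hY n _ y)
  have hcomm : ∀ n, (FSch.Hom.levelPush f hY h n).hom.app (op W) (trs h n W (z (n + 1))) =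
      trs hY n _ ((FSch.Hom.levelPush f hY h (n + 1)).hom.app (op W) (z (n + 1))) := fun n =>
    congr(($(FSch.Hom.levelMap_levelPush f hY h n)).hom.app (op W) (z (n + 1)))
  obtain ⟨a, ha⟩ := exists_sec z fun n => (hb n).1 (by rw [hcomm n, hz (n + 1), trs_prj, hz n])
  exact ⟨a, sec_ext fun n => (prj_shp hY f W n a).trans ((congrArg _ (ha n)).trans (hz n))⟩

/-- Sections of an open formal subsystem. -/
theorem bijective_shp_restrictOpenι {U W : (𝔛.X 0).Opens} (hW : W ≤ U)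
    (hU : (𝔛.restrictOpen h U).IsFormal) :
    Function.Bijective (shp hU h (𝔛.restrictOpenι h U) W) :=
  bijective_shp (𝔛.restrictOpenι h U) W (bijective_levelPush_restrictOpenι hW hU)

theorem lvU_eq_basicOpen {U : (𝔛.X 0).Opens} (b : Sec h U) {D : (𝔛.X 0).Opens}
    (hD : D = (𝔛.X 0).basicOpen (prj h 0 U b)) (n : ℕ) :
    𝔛.lvU h n D = (𝔛.X n).basicOpen (prj h n U b) := by rw [hD, lvU_basicOpen]

/-- A section is a unit over the open where it does not vanish. -/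
theorem isUnit_rs_of_le_basicOpen {U D : (𝔛.X 0).Opens} (hDU : D ≤ U) (b : Sec h U)
    (hD : D ≤ (𝔛.X 0).basicOpen (prj h 0 U b)) : IsUnit (rs h hDU b) := by
  have hn : ∀ n, IsUnit (prj h n D (rs h hDU b)) := fun n => by
    rw [prj_rs]
    have hle : 𝔛.lvU h n D ≤ (𝔛.X n).basicOpen (prj h n U b) :=
      (FBlow.lvU_mono 𝔛 h n hD).trans (lvU_basicOpen n b).le
    have h5 := ((RingedSpace.isUnit_res_basicOpen _ (prj h n U b)).map
      ((𝔛.X n).presheaf.map (homOfLE hle).op).hom)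
    refine (congrArg IsUnit ?_).mp h5
    exact FBlow.sch_map_comp_apply ((𝔛.X n).basicOpen_le _) hle _
  choose v hv using fun n => (hn n).exists_right_inv
  obtain ⟨a, ha⟩ := exists_sec v fun n => by
    refine (hn n).mul_left_cancel ?_
    rw [hv n, ← trs_prj n D (rs h hDU b), ← map_mul, hv (n + 1), map_one]
  exact IsUnit.of_mul_eq_one a (sec_ext fun n => by rw [map_mul, ha, hv, map_one])

variable {A : Type u} [CommRing A] {K : Ideal A} (o : Over 𝔛 K) {𝔞 : Ideal A} {k : ℕ}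

include o in
theorem Over.nzd_rs (hK : K.FG) (hk : K ^ k ≤ 𝔞) {U : (𝔛.X 0).Opens} (hU : IsAffineOpen U)
    {g : Sec h U} (hg : g ∈ nonZeroDivisors (Sec h U)) (hgen : 𝔞.map (o.φ h U) = Ideal.span {g})
    {V : (𝔛.X 0).Opens} (e : V ≤ U) : rs h e g ∈ nonZeroDivisors (Sec h V) :=
  mem_nonZeroDivisors_iff_right.2 fun _ ht => Over.Good.mul_eq_zero o hK hk hU hg hgen e ht

include o in
theorem Over.map_rs {U : (𝔛.X 0).Opens} {g : Sec h U} (hgen : 𝔞.map (o.φ h U) = Ideal.span {g})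
    {V : (𝔛.X 0).Opens} (e : V ≤ U) : 𝔞.map (o.φ h V) = Ideal.span {rs h e g} := by
  rw [← o.rs_φ h e, ← Ideal.map_map, hgen, Ideal.map_span, Set.image_singleton]

/-- Opens on which a given element of the base generates the ideal and is a nonzerodivisor. -/
def Over.GoodAt (h : 𝔛.IsFormal) (o : Over 𝔛 K) (𝔞 : Ideal A) (a : A) (U : (𝔛.X 0).Opens) : Prop :=
  IsAffineOpen U ∧ o.φ h U a ∈ nonZeroDivisors (Sec h U) ∧ 𝔞.map (o.φ h U) = Ideal.span {o.φ h U a}

include o in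
theorem Over.GoodAt.mono {a : A} (hK : K.FG) (hk : K ^ k ≤ 𝔞) {U : (𝔛.X 0).Opens} (hU : o.GoodAt h 𝔞 a U)
    {V : (𝔛.X 0).Opens} (hV : IsAffineOpen V) (e : V ≤ U) : o.GoodAt h 𝔞 a V := by
  rw [GoodAt, ← o.rs_φ h e, RingHom.comp_apply]
  refine ⟨hV, o.nzd_rs hK hk hU.1 hU.2.1 hU.2.2 e, ?_⟩
  rw [o.rs_φ h e]
  exact o.map_rs hU.2.2 e

include o in
theorem Over.GoodAt.preimage_of_bijective {𝔜 : FSch.Sys.{u}} {hY : 𝔜.IsFormal} (f : 𝔜 ⟶ 𝔛)
    (hf : FSch.IsAdicHom f) {a : A} {W : (𝔛.X 0).Opens} (hgood : o.GoodAt h 𝔞 a W)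
    (haff : IsAffineOpen ((f : FSch.Hom 𝔜 𝔛).app 0 ⁻¹ᵁ W))
    (hs : Function.Bijective (shp hY h f W)) :
    (o.comp h f hf).GoodAt hY 𝔞 a ((f : FSch.Hom 𝔜 𝔛).app 0 ⁻¹ᵁ W) := by
  set s := shp hY h f W with hsdef
  have hφ : s.comp (o.φ h W) = (o.comp h f hf).φ hY ((f : FSch.Hom 𝔜 𝔛).app 0 ⁻¹ᵁ W) := by
    rw [← o.sharp_φ hY f hf W _ le_rfl]
    exact RingHom.ext fun x => (rs_self le_rfl (s (o.φ h W x))).symm
  refine ⟨haff, ?_, ?_⟩
  · rw [← hφ, RingHom.comp_apply]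
    exact mem_nonZeroDivisors_iff_right.2 fun x hx => by
      obtain ⟨y, rfl⟩ := hs.2 x
      have h2 : y * o.φ h W a = 0 := hs.1 ((map_mul s _ _).trans (hx.trans (map_zero s).symm))
      exact (congrArg s (mem_nonZeroDivisors_iff_right.1 hgood.2.1 y h2)).trans (map_zero s)
  · rw [← hφ, RingHom.comp_apply, ← Ideal.map_map, hgood.2.2, Ideal.map_span, Set.image_singleton]

include o in
theorem Over.GoodAt.preimage {a : A} {U W : (𝔛.X 0).Opens} (hW : W ≤ U) (hgood : o.GoodAt h 𝔞 a W)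
    (hU : (𝔛.restrictOpen h U).IsFormal) :
    (o.comp h (𝔛.restrictOpenι h U) (isAdicHom_restrictOpenι h U)).GoodAt hU 𝔞 a
      ((𝔛.restrictOpenι h U : FSch.Hom _ _).app 0 ⁻¹ᵁ W) := by
  refine Over.GoodAt.preimage_of_bijective o (𝔛.restrictOpenι h U) (isAdicHom_restrictOpenι h U) hgood
    (IsAffineOpen.preimage_of_isOpenImmersion hgood.1 (𝔛.lvU h 0 U).ι ?_) (bijective_shp_restrictOpenι hW hU)
  rw [Scheme.Opens.opensRange_ι]
  exact hW.trans (Groth.AdicLinTop.FormalLevels.toX_preimage_lvU h 0 U).ge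

end Groth.FBlowLib
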