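import Groth.Agent.FBlowLib.FiniteBlow
import Groth.Agent.FBlowLib.Restrict
import Groth.Agent.TopFinType.Trunc

/-!
# The sections of an admissible formal scheme over an affine open form an admissible algebra
-/

set_option autoImplicit false
set_option backward.isDefEq.respectTransparency false
set_option backward.isDefEq.respectTransparency.types false

universe u

open CategoryTheory CategoryTheory.Limits AlgebraicGeometry TopologicalSpace Opposite
open Groth.BlowUpBasics (sheafOf phi)

namespace Groth.FBlowLib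

variable {R : Type u} [CommRing R] {I : Ideal R} {𝔛 : FSch.Sys.{u}}

/-- The structure map of a formal system adic over a formal spectrum. -/
noncomputable def baseOver (p : 𝔛 ⟶ FSch.spf R I) (hp : FSch.IsAdicHom p) : Over 𝔛 I :=
  (Over.spf R I).comp (Groth.AdicLinTop.Thickenings.isFormal_spf I) p hp

theorem phi_baseOver (p : 𝔛 ⟶ FSch.spf R I) (hp : FSch.IsAdicHom p) (n : ℕ) (V : (𝔛.X n).Opens) :
    phi ((baseOver p hp).π n) V =
      (phi ((p : FSch.Hom 𝔛 (FSch.spf R I)).app n) V).comp (Ideal.Quotient.mk (I ^ (n + 1))) := by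
  rw [Groth.BlowUpBasics.phi_restrict _ (le_top : V ≤ ⊤), Groth.BlowUpBasics.phi_restrict _ (le_top : V ≤ ⊤),
    RingHom.comp_assoc]
  exact congrArg (RingHom.comp _) (phi_comp_Spec _ _)

/-- Over an affine open the levels of a formal scheme locally of finite presentation are finitely presented. -/
theorem finitePresentation_phi (p : 𝔛 ⟶ FSch.spf R I)
    (hfp : ∀ n, LocallyOfFinitePresentation ((p : FSch.Hom 𝔛 (FSch.spf R I)).app n)) (n : ℕ)
    {V : (𝔛.X n).Opens} (hV : IsAffineOpen V) :
    (phi ((p : FSch.Hom 𝔛 (FSch.spf R I)).app n) V).FinitePresentation :=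
  have : IsAffine ((FSch.spf R I).X n) := inferInstanceAs (IsAffine (Spec (CommRingCat.of (R ⧸ I ^ (n + 1)))))
  (HasRingHomProperty.appLE (P := @LocallyOfFinitePresentation) ((p : FSch.Hom 𝔛 (FSch.spf R I)).app n) (hfp n)
    ⟨⊤, isAffineOpen_top _⟩ ⟨V, hV⟩ le_top).comp
    (RingHom.FinitePresentation.of_bijective
      (ConcreteCategory.bijective_of_isIso (Scheme.ΓSpecIso (CommRingCat.of (R ⧸ I ^ (n + 1)))).inv))

theorem noPowTorsion_sec {h : 𝔛.IsFormal} (hI : I.FG) (o : Over 𝔛 I)
    (htf : ∀ (U : (𝔛.X 0).Opens) (s : (𝔛.Osh h).obj.obj (Opposite.op U)),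
      (∀ a ∈ (FBlow.IdealSh.ker (𝔛.OshProj h 0)).sect U, a * s = 0) → s = 0)
    {U : (𝔛.X 0).Opens} (hU : IsAffineOpen U) :
    letI := (o.φ h U).toAlgebra
    AdicRing.NoPowTorsion I (Sec h U) := by
  letI := (o.φ h U).toAlgebra
  intro x n
  induction n generalizing x with
  | zero => intro hx; simpa using hx 1 (by simp)
  | succ n ih =>
    intro hx
    refine htf U x fun a ha => ?_
    have ha' : a ∈ RingHom.ker (prj h 0 U) := ha
    rw [o.ker_prj hI hU, zero_add, pow_one] at ha'
    clear ha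
    induction ha' using Submodule.span_induction with
    | mem a ha' =>
      obtain ⟨b, hb, rfl⟩ := ha'
      refine ih _ fun c hc => ?_
      have h1 := hx (c * b) (pow_succ I n ▸ Ideal.mul_mem_mul hc hb)
      rwa [mul_smul, Algebra.smul_def b x] at h1
    | zero => exact zero_mul x
    | add a b _ _ ha hb => exact (add_mul a b x).trans (by rw [ha, hb, add_zero])
    | smul c a _ ha => exact (mul_assoc c a x).trans (by rw [ha, mul_zero])

theorem topFinitePresentation_sec (hR : AdicRing.IsBase R I) {h : 𝔛.IsFormal} (p : 𝔛 ⟶ FSch.spf R I) (hp : FSch.IsAdicHom p)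
    (hfp : ∀ n, LocallyOfFinitePresentation ((p : FSch.Hom 𝔛 (FSch.spf R I)).app n))
    {U : (𝔛.X 0).Opens} (hU : IsAffineOpen U) :
    let := ((baseOver p hp).φ h U).toAlgebra
    AdicRing.TopFinitePresentation R I (Sec h U) := by
  have hI := Groth.TopFinType.fg_of_isBase hR
  set o := baseOver p hp with ho
  letI := (o.φ h U).toAlgebra
  haveI : IsAdicComplete (I.map (algebraMap R (Sec h U))) (Sec h U) := (o.adic hI hU).1
  refine Groth.TopFinType.topFinitePresentation_of_trunc hR fun n => ?_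
  have hfpn := finitePresentation_phi p hfp n (Groth.AdicLinTop.FormalLevels.isAffineOpen_lvU h hU n)
  let e : (Sec h U ⧸ (I ^ (n + 1)).map (algebraMap R (Sec h U))) ≃+* LSec h n U :=
    (Ideal.quotEquivOfEq (o.ker_prj hI hU n).symm).trans (RingHom.quotientKerEquivOfSurjective (prj_surjective hU n))
  have he : phi ((p : FSch.Hom 𝔛 (FSch.spf R I)).app n) (𝔛.lvU h n U) = e.toRingHom.comp
      (Ideal.quotientMap ((I ^ (n + 1)).map (algebraMap R (Sec h U))) (algebraMap R (Sec h U))
        Ideal.le_comap_map) := by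
    refine Ideal.Quotient.ringHom_ext ?_
    rw [← phi_baseOver p hp, ← o.prj_φ]
    exact RingHom.ext fun r => rfl
  rw [he] at hfpn
  have h2 := (RingHom.FinitePresentation.of_bijective (f := e.symm.toRingHom) e.symm.bijective).comp hfpn
  rwa [← RingHom.comp_assoc, show e.symm.toRingHom.comp e.toRingHom = RingHom.id _ from
    RingHom.ext e.symm_apply_apply, RingHom.id_comp] at h2

theorem topFiniteType_sec (hR : AdicRing.IsBase R I) {h : 𝔛.IsFormal} (p : 𝔛 ⟶ FSch.spf R I) (hp : FSch.IsAdicHom p)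
    (hfp : ∀ n, LocallyOfFinitePresentation ((p : FSch.Hom 𝔛 (FSch.spf R I)).app n))
    {U : (𝔛.X 0).Opens} (hU : IsAffineOpen U) :
    let := ((baseOver p hp).φ h U).toAlgebra
    AdicRing.TopFiniteType R I (Sec h U) := by
  intro _
  obtain ⟨n, φ, hφ, -⟩ := topFinitePresentation_sec hR p hp hfp hU
  exact ⟨n, φ, hφ⟩

theorem admissible_sec (hR : AdicRing.IsBase R I) {h : 𝔛.IsFormal} (p : 𝔛 ⟶ FSch.spf R I) (hp : FSch.IsAdicHom p)
    (hfp : ∀ n, LocallyOfFinitePresentation ((p : FSch.Hom 𝔛 (FSch.spf R I)).app n))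
    (htf : ∀ (U : (𝔛.X 0).Opens) (s : (𝔛.Osh h).obj.obj (Opposite.op U)),
      (∀ a ∈ (FBlow.IdealSh.ker (𝔛.OshProj h 0)).sect U, a * s = 0) → s = 0)
    {U : (𝔛.X 0).Opens} (hU : IsAffineOpen U) :
    letI := ((baseOver p hp).φ h U).toAlgebra
    AdicRing.Admissible R I (Sec h U) := by
  exact ⟨topFinitePresentation_sec hR p hp hfp hU,
    noPowTorsion_sec (Groth.TopFinType.fg_of_isBase hR) (baseOver p hp) htf hU⟩

end Groth.FBlowLib
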