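import Groth.Agent.FBlowLib.Mul
import Groth.Agent.FBlowLib.BlowAdm
import Groth.Agent.FBlowLib.SecAdm
import Groth.Agent.AdicLinTop.SysPullback
import Groth.Agent.AdicLinTop.CompletionQuot
import Groth.Agent.TopFinType.Flatness
import Groth.Agent.TopFinType.Consequences

/-!
# Flat adic morphisms of admissible formal schemes
-/

set_option autoImplicit false
set_option backward.isDefEq.respectTransparency false
set_option backward.isDefEq.respectTransparency.types false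
set_option linter.style.haveILetI false

universe u

open CategoryTheory CategoryTheory.Limits AlgebraicGeometry TopologicalSpace Opposite
open Groth.BlowUpBasics (phi)

namespace Groth.FBlowLib

variable {R : Type u} [CommRing R] {I : Ideal R} {𝔛 𝔜 : FSch.Sys.{u}} {h : 𝔛.IsFormal} {hY : 𝔜.IsFormal}

/-- The lift of an affine open of a level. -/
theorem exists_lvU_eq (h : 𝔛.IsFormal) (n : ℕ) {V : (𝔛.X n).Opens} (hV : IsAffineOpen V) :
    ∃ U : (𝔛.X 0).Opens, IsAffineOpen U ∧ 𝔛.lvU h n U = V := by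
  have := 𝔛.toX_isClosedImmersion h n
  refine ⟨𝔛.toX n ⁻¹ᵁ V, hV.preimage _, ?_⟩
  ext z
  show (𝔛.toX n).base ((𝔛.gInv h n).hom z) ∈ V ↔ z ∈ V
  rw [show (𝔛.toX n).base ((𝔛.gInv h n).hom z) = z from congr($(𝔛.gInv_toX_base h n) z)]

/-- A morphism over the base with finitely presented composite is locally of finite presentation. -/
theorem locallyOfFinitePresentation_app_of_comp {X Y : Scheme.{u}} {A : Type u} [CommRing A] (g : Y ⟶ X)
    (q : X ⟶ Spec (CommRingCat.of A)) [LocallyOfFiniteType q]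
    (hgq : LocallyOfFinitePresentation (g ≫ q)) : LocallyOfFinitePresentation g := by
  rw [HasRingHomProperty.iff_appLE (P := @LocallyOfFinitePresentation)]
  intro U V e
  refine RingHom.FinitePresentation.of_comp_finiteType (phi q U.1) ?_ ?_
  · rw [← phi_comp_appLE g q U.1 V.1 e]
    exact (HasRingHomProperty.appLE (P := @LocallyOfFinitePresentation) (g ≫ q) hgq ⟨⊤, isAffineOpen_top _⟩ V
      le_top).comp (RingHom.FinitePresentation.of_bijective
        (ConcreteCategory.bijective_of_isIso (Scheme.ΓSpecIso (CommRingCat.of A)).inv))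
  · exact (HasRingHomProperty.appLE (P := @LocallyOfFiniteType) q ‹_› ⟨⊤, isAffineOpen_top _⟩ U le_top).comp
      (RingHom.FiniteType.of_surjective _
        (ConcreteCategory.bijective_of_isIso (Scheme.ΓSpecIso (CommRingCat.of A)).inv).2)

theorem locallyOfFinitePresentation_levels (p : 𝔛 ⟶ FSch.spf R I) (f : 𝔜 ⟶ 𝔛)
    (hfp : ∀ n, LocallyOfFinitePresentation ((p : FSch.Hom 𝔛 (FSch.spf R I)).app n))
    (hYfp : ∀ n, LocallyOfFinitePresentation ((f ≫ p : FSch.Hom 𝔜 (FSch.spf R I)).app n)) (n : ℕ) :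
    LocallyOfFinitePresentation ((f : FSch.Hom 𝔜 𝔛).app n) :=
  have := hfp n
  have : LocallyOfFiniteType ((p : FSch.Hom 𝔛 (FSch.spf R I)).app n) := inferInstance
  locallyOfFinitePresentation_app_of_comp (A := R ⧸ I ^ (n + 1)) _ ((p : FSch.Hom 𝔛 (FSch.spf R I)).app n)
    (hYfp n)

theorem Over.prj_comp_sharp (f : 𝔜 ⟶ 𝔛) (n : ℕ) {U : (𝔛.X 0).Opens} {U' : (𝔜.X 0).Opens}
    (e : U' ≤ (f : FSch.Hom 𝔜 𝔛).app 0 ⁻¹ᵁ U) :
    (prj hY n U').comp ((rs hY e).comp (shp hY h f U)) =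
      (((f : FSch.Hom 𝔜 𝔛).app n).appLE (𝔛.lvU h n U) (𝔜.lvU hY n U')
        ((FBlow.lvU_mono 𝔜 hY n e).trans (FSch.Hom.lvU_preimage f hY h n U).ge)).hom.comp (prj h n U) := by
  ext a
  show prj hY n U' (rs hY e (shp hY h f U a)) = _
  rw [prj_rs, prj_shp, FSch.Hom.levelPush_app]
  exact congr($(Scheme.Hom.appLE_map ((f : FSch.Hom 𝔜 𝔛).app n) (FSch.Hom.lvU_preimage f hY h n U).ge
    (homOfLE (FBlow.lvU_mono 𝔜 hY n e)).op) (prj h n U a))

/-- Flat sections give flat levels. -/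
theorem flat_levels (hI : I.FG) (o : Over 𝔛 I) (f : 𝔜 ⟶ 𝔛) (hf : FSch.IsAdicHom f)
    (hflat : ∀ (U : (𝔛.X 0).affineOpens) (U' : (𝔜.X 0).affineOpens)
      (e : U'.1 ≤ (f : FSch.Hom 𝔜 𝔛).app 0 ⁻¹ᵁ U.1), ((rs hY e).comp (shp hY h f U.1)).Flat) (n : ℕ) :
    Flat ((f : FSch.Hom 𝔜 𝔛).app n) := by
  rw [HasRingHomProperty.iff_appLE (P := @Flat)]
  rintro ⟨U, hU⟩ ⟨V, hV⟩ e
  obtain ⟨U₀, hU₀, rfl⟩ := exists_lvU_eq h n hU
  obtain ⟨V₀, hV₀, rfl⟩ := exists_lvU_eq hY n hV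
  have e₀ : V₀ ≤ (f : FSch.Hom 𝔜 𝔛).app 0 ⁻¹ᵁ U₀ := fun z hz => by
    have h1 : (𝔜.gInv hY n).hom ((𝔜.toX n).base z) = z := congr($(𝔜.toX_base_gInv hY n) z)
    have h2 : (𝔜.toX n).base z ∈ 𝔜.lvU hY n V₀ := by show _ ∈ V₀; rw [h1]; exact hz
    have h3 := e h2
    rw [FSch.Hom.lvU_preimage f hY h n U₀] at h3
    exact h1 ▸ h3
  have hα := hflat ⟨U₀, hU₀⟩ ⟨V₀, hV₀⟩ e₀
  let α := (rs hY e₀).comp (shp hY h f U₀)
  letI := α.toAlgebra
  haveI : Module.Flat (Sec h U₀) (Sec hY V₀) := hα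
  set J := RingHom.ker (prj h n U₀)
  let eq : Sec h U₀ ⧸ J ≃+* LSec h n U₀ := RingHom.quotientKerEquivOfSurjective (prj_surjective hU₀ n)
  have hker : RingHom.ker (prj hY n V₀) ≤ J.map (algebraMap (Sec h U₀) (Sec hY V₀)) := by
    rw [show J = (I ^ (n + 1)).map (o.φ h U₀) from o.ker_prj hI hU₀ n, (o.comp h f hf).ker_prj hI hV₀,
      RingHom.algebraMap_toAlgebra, Ideal.map_map, ← o.sharp_φ hY f hf U₀ V₀ e₀]
    rfl
  have hcomp := Over.prj_comp_sharp (h := h) (hY := hY) f n e₀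
  have h1 := Groth.AdicLinTop.CompletionQuot.flat_of_flat J
    ((((f : FSch.Hom 𝔜 𝔛).app n).appLE (𝔛.lvU h n U₀) (𝔜.lvU hY n V₀) e).hom.comp eq.toRingHom)
    (prj hY n V₀) (prj_surjective hV₀ n) hker (fun r => congr($hcomp r))
  have h2 := RingHom.Flat.comp (RingHom.Flat.of_bijective (f := eq.symm.toRingHom) eq.symm.bijective) h1
  rwa [RingHom.comp_assoc, show eq.toRingHom.comp eq.symm.toRingHom = RingHom.id _ from
    RingHom.ext eq.apply_symm_apply, RingHom.comp_id] at h2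

/-- Flat levels give flat sections. -/
theorem flat_sec (hR : AdicRing.IsBase R I) (o : Over 𝔛 I) (f : 𝔜 ⟶ 𝔛) (hf : FSch.IsAdicHom f)
    (hflat : ∀ n, Flat ((f : FSch.Hom 𝔜 𝔛).app n)) {U : (𝔛.X 0).Opens} {U' : (𝔜.X 0).Opens}
    (hU : IsAffineOpen U) (hU' : IsAffineOpen U') (e : U' ≤ (f : FSch.Hom 𝔜 𝔛).app 0 ⁻¹ᵁ U)
    (hA : letI := (o.φ h U).toAlgebra; AdicRing.TopFiniteType R I (Sec h U))
    (hB : letI := ((o.comp h f hf).φ hY U').toAlgebra; AdicRing.TopFiniteType R I (Sec hY U')) :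
    ((rs hY e).comp (shp hY h f U)).Flat := by
  have hI := Groth.TopFinType.fg_of_isBase hR
  letI := (o.φ h U).toAlgebra
  letI := ((o.comp h f hf).φ hY U').toAlgebra
  letI := ((rs hY e).comp (shp hY h f U)).toAlgebra
  haveI : IsScalarTower R (Sec h U) (Sec hY U') :=
    IsScalarTower.of_algebraMap_eq fun r => congr($((o.sharp_φ hY f hf U U' e).symm) r)
  show Module.Flat (Sec h U) (Sec hY U')
  refine Groth.TopFinType.flat_of_trunc hR hA hB fun n => ?_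
  let J := (I ^ (n + 1)).map (o.φ h U)
  let eq : Sec h U ⧸ J ≃+* LSec h n U := (Ideal.quotEquivOfEq (o.ker_prj hI hU n).symm).trans
    (RingHom.quotientKerEquivOfSurjective (prj_surjective hU n))
  have hcomp := Over.prj_comp_sharp (h := h) (hY := hY) f n e
  have hl : RingHom.Flat ((((f : FSch.Hom 𝔜 𝔛).app n).appLE (𝔛.lvU h n U) (𝔜.lvU hY n U')
      ((FBlow.lvU_mono 𝔜 hY n e).trans (FSch.Hom.lvU_preimage f hY h n U).ge)).hom.comp eq.toRingHom) :=
    RingHom.Flat.comp (RingHom.Flat.of_bijective (f := eq.toRingHom) eq.bijective)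
      (HasRingHomProperty.appLE (P := @Flat) _ (hflat n) ⟨_, Groth.AdicLinTop.FormalLevels.isAffineOpen_lvU h hU n⟩
        ⟨_, Groth.AdicLinTop.FormalLevels.isAffineOpen_lvU hY hU' n⟩ _)
  refine Groth.AdicLinTop.CompletionQuot.flat_tensor_of_flat J
    ((((f : FSch.Hom 𝔜 𝔛).app n).appLE (𝔛.lvU h n U) (𝔜.lvU hY n U')
      ((FBlow.lvU_mono 𝔜 hY n e).trans (FSch.Hom.lvU_preimage f hY h n U).ge)).hom.comp eq.toRingHom)
    (prj hY n U') (prj_surjective hU' n) ?_ (fun r => congr($hcomp r)) hl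
  rw [(o.comp h f hf).ker_prj hI hU', RingHom.algebraMap_toAlgebra, Ideal.map_map, ← o.sharp_φ hY f hf U U' e]
  rfl

/-- Flatness preserves the absence of torsion. -/
theorem noPowTorsion_of_flat {A B : Type u} [CommRing A] [CommRing B] [Algebra R A] [Algebra R B] [Algebra A B]
    [IsScalarTower R A B] [Module.Flat A B] (hI : I.FG) (hT : AdicRing.NoPowTorsion I A) :
    AdicRing.NoPowTorsion I B := by
  intro x n hx
  obtain ⟨s, b, hb⟩ := Submodule.fg_iff_exists_fin_generating_family.1 (Submodule.FG.pow hI n)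
  obtain ⟨N, hN⟩ := Groth.TopFinType.exists_pow_mul_of_flat (D := B) (fun l => algebraMap R A (b l)) (1 : A)
    (fun q hq => ⟨0, by
      rw [pow_zero, one_mul]
      refine hT q n fun a ha => ?_
      rw [← hb] at ha
      induction ha using Submodule.span_induction with
      | mem a ha =>
        obtain ⟨l, rfl⟩ := ha
        rw [Algebra.smul_def]
        exact hq l
      | zero => exact zero_smul _ _
      | add p q _ _ hp hq => rw [add_smul, hp, hq, add_zero]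
      | smul r p _ hp => rw [smul_assoc, hp, smul_zero]⟩)
    x fun l => by rw [algebraMap_smul]; exact hx _ (hb ▸ Submodule.subset_span ⟨l, rfl⟩)
  simpa using hN

/-- A formal scheme flat over one without torsion has no torsion. -/
theorem eq_zero_of_flat_levels (hR : AdicRing.IsBase R I) (p : 𝔛 ⟶ FSch.spf R I) (hp : FSch.IsAdicHom p)
    (hfp : ∀ n, LocallyOfFinitePresentation ((p : FSch.Hom 𝔛 (FSch.spf R I)).app n))
    (htf : ∀ (U : (𝔛.X 0).Opens) (s : (𝔛.Osh h).obj.obj (Opposite.op U)),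
      (∀ a ∈ (FBlow.IdealSh.ker (𝔛.OshProj h 0)).sect U, a * s = 0) → s = 0)
    (f : 𝔜 ⟶ 𝔛) (hf : FSch.IsAdicHom f)
    (hYfp : ∀ n, LocallyOfFinitePresentation ((f ≫ p : FSch.Hom 𝔜 (FSch.spf R I)).app n))
    (hflat : ∀ n, Flat ((f : FSch.Hom 𝔜 𝔛).app n)) (V : (𝔜.X 0).Opens) (s : Sec hY V)
    (hs : ∀ a ∈ (FBlow.IdealSh.ker (𝔜.OshProj hY 0)).sect V, a * s = 0) : s = 0 := by
  have hI := Groth.TopFinType.fg_of_isBase hR
  have hq : FSch.IsAdicHom (f ≫ p) := isAdicHom_comp hf hp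
  refine sec_ext_local fun y hy => ?_
  obtain ⟨_, ⟨U, hU, rfl⟩, hyU, -⟩ := (𝔛.X 0).isBasis_affineOpens.exists_subset_of_mem_open
    (show ((f : FSch.Hom 𝔜 𝔛).app 0).base y ∈ (⊤ : (𝔛.X 0).Opens) from trivial) (⊤ : (𝔛.X 0).Opens).isOpen
  obtain ⟨_, ⟨U', hU', rfl⟩, hyU', hle⟩ := (𝔜.X 0).isBasis_affineOpens.exists_subset_of_mem_open
    (show y ∈ V ⊓ (f : FSch.Hom 𝔜 𝔛).app 0 ⁻¹ᵁ U from ⟨hy, hyU⟩)
    (V ⊓ (f : FSch.Hom 𝔜 𝔛).app 0 ⁻¹ᵁ U).isOpen
  have hV : U' ≤ V := fun z hz => (hle hz).1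
  have e : U' ≤ (f : FSch.Hom 𝔜 𝔛).app 0 ⁻¹ᵁ U := fun z hz => (hle hz).2
  refine ⟨U', hV, hyU', ?_⟩
  set o := baseOver p hp
  have hφ : ∀ W, (baseOver (f ≫ p) hq).φ hY W = (o.comp h f hf).φ hY W :=
    fun W => Over.φ_congr _ _ (fun n => Category.assoc _ _ _) W
  letI := (o.φ h U).toAlgebra
  letI := ((o.comp h f hf).φ hY U').toAlgebra
  letI := ((rs hY e).comp (shp hY h f U)).toAlgebra
  haveI : IsScalarTower R (Sec h U) (Sec hY U') :=
    IsScalarTower.of_algebraMap_eq fun r => congr($((o.sharp_φ hY f hf U U' e).symm) r)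
  have hA := admissible_sec hR p hp hfp htf hU
  have hB : AdicRing.TopFiniteType R I (Sec hY U') := by
    exact topFiniteType_sec hR (f ≫ p) hq hYfp hU' (h := hY)
  haveI : Module.Flat (Sec h U) (Sec hY U') :=
    flat_sec hR o f hf hflat hU hU' e (Groth.TopFinType.topFiniteType_of_topFinitePresentation hA.1) hB
  rw [map_zero]
  refine noPowTorsion_of_flat (A := Sec h U) hI hA.2 _ 1 fun a ha => ?_
  rw [pow_one] at ha
  show (o.comp h f hf).φ hY U' a * rs hY hV s = 0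
  rw [← hφ, ← (baseOver (f ≫ p) hq).rs_φ hY hV, RingHom.comp_apply, ← map_mul,
    hs _ (φ_mem_ker_proj (f ≫ p) hq V ha), map_zero]

end Groth.FBlowLib
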