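import Groth.Agent.FBlowLib.Chart

/-!
# Functoriality of ideal sheaves; open formal subsystems and admissible formal blowing-ups
-/

set_option autoImplicit false
set_option backward.isDefEq.respectTransparency false
set_option backward.isDefEq.respectTransparency.types false

universe u

open CategoryTheory CategoryTheory.Limits AlgebraicGeometry TopologicalSpace Opposite

namespace Groth.FBlowLib

variable {𝔛 𝔜 ℨ : FSch.Sys.{u}} {h : 𝔛.IsFormal} {hY : 𝔜.IsFormal} {hZ : ℨ.IsFormal}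

theorem rs_shp (f : 𝔜 ⟶ 𝔛) {W W' : (𝔛.X 0).Opens} (e : W' ≤ W) (a : Sec h W) :
    shp hY h f W' (rs h e a) = rs hY (Scheme.Hom.preimage_mono _ e) (shp hY h f W a) :=
  NatTrans.naturality_apply (FSch.Hom.sharp f hY h).hom (homOfLE e).op a

theorem shp_comp (g : ℨ ⟶ 𝔜) (f : 𝔜 ⟶ 𝔛) (W : (𝔛.X 0).Opens) (a : Sec h W) :
    shp hZ h (g ≫ f) W a = shp hZ hY g ((f : FSch.Hom 𝔜 𝔛).app 0 ⁻¹ᵁ W) (shp hY h f W a) := by
  refine sec_ext (U := (g : FSch.Hom ℨ 𝔜).app 0 ⁻¹ᵁ ((f : FSch.Hom 𝔜 𝔛).app 0 ⁻¹ᵁ W)) fun n => ?_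
  refine (prj_shp hZ (g ≫ f) W n a).trans ((?_ : _ = _).trans (prj_shp hZ g _ n (shp hY h f W a)).symm)
  rw [prj_shp hY f W n a]
  exact (congr($(Scheme.Hom.appLE_comp_appLE ((g : FSch.Hom ℨ 𝔜).app n) ((f : FSch.Hom 𝔜 𝔛).app n)
    (𝔛.lvU h n W) (𝔜.lvU hY n ((f : FSch.Hom 𝔜 𝔛).app 0 ⁻¹ᵁ W))
    (ℨ.lvU hZ n ((g : FSch.Hom ℨ 𝔜).app 0 ⁻¹ᵁ ((f : FSch.Hom 𝔜 𝔛).app 0 ⁻¹ᵁ W)))
    (FSch.Hom.lvU_preimage f hY h n W).ge (FSch.Hom.lvU_preimage g hZ hY n _).ge) (prj h n W a))).symm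

theorem mem_idealMap {f : 𝔜 ⟶ 𝔛} {J : FBlow.IdealSh (𝔛.Osh h)} {W : (𝔛.X 0).Opens} {a : Sec h W}
    (ha : a ∈ J.sect W) {V : (𝔜.X 0).Opens} (j : V ≤ (f : FSch.Hom 𝔜 𝔛).app 0 ⁻¹ᵁ W) :
    rs hY j (shp hY h f W a) ∈ (FBlow.idealMap f hY h J).sect V :=
  FBlow.IdealSh.image_mem_map _ _ J ha j

theorem idealMap_le {f : 𝔜 ⟶ 𝔛} {J : FBlow.IdealSh (𝔛.Osh h)} {K : FBlow.IdealSh (𝔜.Osh hY)}
    (hK : ∀ (W : (𝔛.X 0).Opens) (a : Sec h W), a ∈ J.sect W → shp hY h f W a ∈ K.sect _) :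
    FBlow.idealMap f hY h J ≤ K :=
  FBlow.IdealSh.map_le fun W a ha _ j => K.map_mem j (hK W a ha)

theorem idealSh_eq_of_le {T : TopCat.{u}} {O : Sheaf (Opens.grothendieckTopology T) CommRingCat.{u}}
    {J K : FBlow.IdealSh O} (h1 : J ≤ K) (h2 : K ≤ J) : J = K :=
  FBlow.IdealSh.ext (funext fun U => le_antisymm (h1 U) (h2 U))

/-- Inverse image of ideal sheaves is functorial. -/
theorem idealMap_comp (g : ℨ ⟶ 𝔜) (f : 𝔜 ⟶ 𝔛) (J : FBlow.IdealSh (𝔛.Osh h)) :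
    FBlow.idealMap (g ≫ f) hZ h J = FBlow.idealMap g hZ hY (FBlow.idealMap f hY h J) := by
  refine idealSh_eq_of_le (idealMap_le fun W a ha => ?_) (idealMap_le fun W b hb => ?_)
  · rw [shp_comp]
    have h1 := mem_idealMap (hY := hY) (f := f) ha (le_refl ((f : FSch.Hom 𝔜 𝔛).app 0 ⁻¹ᵁ W))
    rw [rs_self] at h1
    have h2 := mem_idealMap (hY := hZ) (f := g) h1 (le_refl _)
    rw [rs_self] at h2
    exact h2
  · refine (FBlow.idealMap (g ≫ f) hZ h J).mem_of_local fun z hz => ?_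
    obtain ⟨V, i, hzV, hV⟩ := (FBlow.IdealSh.mem_gen_iff _ _ _).1 hb (((g : FSch.Hom ℨ 𝔜).app 0).base z) hz
    refine ⟨(g : FSch.Hom ℨ 𝔜).app 0 ⁻¹ᵁ V, Scheme.Hom.preimage_mono _ i, hzV, ?_⟩
    refine (rs_shp g i b).symm ▸ ?_
    have hV' := Ideal.mem_map_of_mem (shp hZ hY g V) hV
    rw [Ideal.map_span] at hV'
    refine Ideal.span_le.2 ?_ hV'
    rintro _ ⟨_, ⟨V₁, j₁, _, ⟨W₀, j₀, a, ha, rfl⟩, rfl⟩, rfl⟩
    show shp hZ hY g V (rs hY j₁ (rs hY j₀ (shp hY h f W₀ a))) ∈ _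
    rw [rs_rs, rs_shp, ← shp_comp]
    exact mem_idealMap ha _

/-- A morphism of formal systems which is levelwise an open immersion has bijective maps on sections. -/
theorem bijective_shp_of_isOpenImmersion (f : 𝔜 ⟶ 𝔛) (hf : ∀ n, IsOpenImmersion ((f : FSch.Hom 𝔜 𝔛).app n))
    {W : (𝔛.X 0).Opens} (hW : (W : Set (𝔛.X 0)) ⊆ Set.range ((f : FSch.Hom 𝔜 𝔛).app 0).base) :
    Function.Bijective (shp hY h f W) := by
  refine bijective_shp f W fun n => ?_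
  have := hf n
  have hle : 𝔛.lvU h n W ≤ ((f : FSch.Hom 𝔜 𝔛).app n).opensRange := by
    intro z hz
    obtain ⟨y, hy⟩ := hW hz
    obtain ⟨x, rfl⟩ := 𝔛.toX_surjective h n z
    rw [show (𝔛.gInv h n).hom ((𝔛.toX n).base x) = x from congr($(𝔛.toX_base_gInv h n) x)] at hy
    refine ⟨(𝔜.toX n).base y, ?_⟩
    rw [← hy]
    exact congr(($(FSch.Hom.toX_comm f n)).base y)
  have := Scheme.Hom.isIso_app ((f : FSch.Hom 𝔜 𝔛).app n) (𝔛.lvU h n W) hle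
  have h2 := Groth.AdicLinTop.FormalLevels.bijective_res (FSch.Hom.lvU_preimage f hY h n W).ge
    (FSch.Hom.lvU_preimage f hY h n W).le
  rw [FSch.Hom.levelPush_app, Scheme.Hom.appLE]
  exact h2.comp ((ConcreteCategory.isIso_iff_bijective _).1 this)

/-- Membership in the inverse image along an open immersion. -/
theorem mem_idealMap_iff (f : 𝔜 ⟶ 𝔛) (hf : ∀ n, IsOpenImmersion ((f : FSch.Hom 𝔜 𝔛).app n))
    (J : FBlow.IdealSh (𝔛.Osh h)) {W : (𝔛.X 0).Opens}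
    (hW : (W : Set (𝔛.X 0)) ⊆ Set.range ((f : FSch.Hom 𝔜 𝔛).app 0).base) (s : Sec h W) :
    shp hY h f W s ∈ (FBlow.idealMap f hY h J).sect _ ↔ s ∈ J.sect W := by
  refine ⟨fun hs => J.mem_of_local fun x hx => ?_, fun hs => ?_⟩
  · obtain ⟨y, rfl⟩ := hW hx
    obtain ⟨V, i, hyV, hV⟩ := (FBlow.IdealSh.mem_gen_iff _ _ _).1 hs y hx
    have := hf 0
    set j := (f : FSch.Hom 𝔜 𝔛).app 0
    have hVW : j ''ᵁ V ≤ W := (Scheme.Hom.image_mono j i).trans (by rw [Scheme.Hom.image_preimage_eq_opensRange_inf]; exact inf_le_right)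
    have hrange : ((j ''ᵁ V : (𝔛.X 0).Opens) : Set (𝔛.X 0)) ⊆ Set.range j.base := Set.image_subset_range _ _
    refine ⟨j ''ᵁ V, hVW, ⟨y, hyV, rfl⟩, ?_⟩
    have hb := bijective_shp_of_isOpenImmersion (h := h) (hY := hY) f hf hrange
    have e : j ⁻¹ᵁ (j ''ᵁ V) ≤ V := (j.preimage_image_eq V).le
    have h3 : rs hY e ((𝔜.Osh hY).obj.map (homOfLE i).op (shp hY h f W s)) ∈
        Ideal.map (shp hY h f (j ''ᵁ V)) (J.sect _) := by
      have hV' := Ideal.mem_map_of_mem (rs hY e) hV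
      rw [Ideal.map_span] at hV'
      refine Ideal.span_le.2 ?_ hV'
      rintro _ ⟨_, ⟨V₁, j₁, _, ⟨W₀, j₀, a, ha, rfl⟩, rfl⟩, rfl⟩
      show rs hY e (rs hY j₁ (rs hY j₀ (shp hY h f W₀ a))) ∈ _
      have hle : j ''ᵁ V ≤ W₀ := (Scheme.Hom.image_mono j (j₁.trans j₀)).trans
        (by rw [Scheme.Hom.image_preimage_eq_opensRange_inf]; exact inf_le_right)
      rw [rs_rs, rs_rs, ← rs_shp f hle]
      exact Ideal.mem_map_of_mem _ (J.map_mem hle ha)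
    rw [show rs hY e ((𝔜.Osh hY).obj.map (homOfLE i).op (shp hY h f W s)) = shp hY h f (j ''ᵁ V) (rs h hVW s) from
      (rs_rs i e _).trans (rs_shp f hVW s).symm, Ideal.mem_map_iff_of_surjective _ hb.2] at h3
    obtain ⟨c, hc, hcs⟩ := h3
    exact hb.1 hcs ▸ hc
  · have h1 := mem_idealMap (hY := hY) (f := f) hs (le_refl _)
    rwa [rs_self] at h1

/-- Invertible ideals restrict to open formal subsystems. -/
theorem isInvertible_idealMap_openImmersion (f : 𝔜 ⟶ 𝔛) (hf : ∀ n, IsOpenImmersion ((f : FSch.Hom 𝔜 𝔛).app n))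
    {J : FBlow.IdealSh (𝔛.Osh h)} (hJ : J.IsInvertible) : (FBlow.idealMap f hY h J).IsInvertible := by
  intro y
  have := hf 0
  set j := (f : FSch.Hom 𝔜 𝔛).app 0
  obtain ⟨U, hyU, g, hg, hgen⟩ := hJ (j.base y)
  refine ⟨j ⁻¹ᵁ U, hyU, shp hY h f U g, ?_, fun V i => ?_⟩
  · have h1 := mem_idealMap (hY := hY) (f := f) hg (le_refl _)
    rwa [rs_self] at h1
  have hrange : ((j ''ᵁ V : (𝔛.X 0).Opens) : Set (𝔛.X 0)) ⊆ Set.range j.base := Set.image_subset_range _ _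
  have hVU : j ''ᵁ V ≤ U := (Scheme.Hom.image_mono j i).trans (by rw [Scheme.Hom.image_preimage_eq_opensRange_inf]; exact inf_le_right)
  have hb := bijective_shp_of_isOpenImmersion (h := h) (hY := hY) f hf hrange
  have e : j ⁻¹ᵁ (j ''ᵁ V) = V := j.preimage_image_eq V
  have hg' : ∀ {V'} (hV' : V' = j ⁻¹ᵁ (j ''ᵁ V)) (i' : V' ≤ j ⁻¹ᵁ U),
      (∀ t : Sec hY V', t * rs hY i' (shp hY h f U g) = 0 → t = 0) ∧
        ∀ s ∈ (FBlow.idealMap f hY h J).sect V', ∃ t, s = t * rs hY i' (shp hY h f U g) := by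
    intro V' hV' i'
    subst hV'
    rw [show rs hY i' (shp hY h f U g) = shp hY h f (j ''ᵁ V) (rs h hVU g) from (rs_shp f hVU g).symm]
    refine ⟨fun t ht => ?_, fun s hs => ?_⟩
    · obtain ⟨t, rfl⟩ := hb.2 t
      rw [← map_mul, map_eq_zero_iff _ hb.1] at ht
      rw [(hgen _ hVU).1 t ht, map_zero]
    · obtain ⟨s, rfl⟩ := hb.2 s
      obtain ⟨t, ht⟩ := (hgen _ hVU).2 s ((mem_idealMap_iff f hf J hrange s).1 hs)
      exact ⟨shp hY h f _ t, by rw [← map_mul]; exact congrArg _ ht⟩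
  exact hg' e.symm i

theorem isOpenImmersion_restrictOpenι (L : (𝔛.X 0).Opens) (n : ℕ) :
    IsOpenImmersion ((𝔛.restrictOpenι h L : FSch.Hom _ 𝔛).app n) :=
  inferInstanceAs (IsOpenImmersion (𝔛.lvU h n L).ι)

theorem range_restrictOpenι (L : (𝔛.X 0).Opens) :
    Set.range ((𝔛.restrictOpenι h L : FSch.Hom _ 𝔛).app 0).base = L := by
  show Set.range (𝔛.lvU h 0 L).ι.base = _
  rw [Scheme.Opens.range_ι]
  exact congrArg (fun U : (𝔛.X 0).Opens => (U : Set (𝔛.X 0)))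
    (show 𝔛.lvU h 0 L = L from Groth.AdicLinTop.FormalLevels.toX_preimage_lvU h 0 L)

theorem mono_of_levels (f : 𝔜 ⟶ 𝔛) (hf : ∀ n, Mono ((f : FSch.Hom 𝔜 𝔛).app n)) : Mono f :=
  ⟨fun _ _ hab => FSch.Hom.ext (funext fun n =>
    have := hf n
    (cancel_mono ((f : FSch.Hom 𝔜 𝔛).app n)).1 (congrArg (fun φ => (φ : FSch.Hom _ _).app n) hab))⟩

instance mono_restrictOpenι (L : (𝔛.X 0).Opens) : Mono (𝔛.restrictOpenι h L) :=
  mono_of_levels _ fun n => inferInstanceAs (Mono (𝔛.lvU h n L).ι)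

/-- A morphism landing in an open factors through the open formal subsystem. -/
theorem exists_restrict_lift (hY : 𝔜.IsFormal) (u : 𝔜 ⟶ 𝔛) (L : (𝔛.X 0).Opens)
    (hu : ∀ y, ((u : FSch.Hom 𝔜 𝔛).app 0).base y ∈ L) :
    ∃ u' : 𝔜 ⟶ 𝔛.restrictOpen h L, u' ≫ 𝔛.restrictOpenι h L = u := by
  have hrange : ∀ n, Set.range ((u : FSch.Hom 𝔜 𝔛).app n).base ⊆ Set.range (𝔛.lvU h n L).ι.base := by
    rintro n _ ⟨z, rfl⟩
    rw [Scheme.Opens.range_ι]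
    have h1 := congr($(FSch.Hom.base_gInv u hY h n) z)
    show (𝔛.gInv h n).hom (((u : FSch.Hom 𝔜 𝔛).app n).base z) ∈ L
    exact (congrArg (· ∈ L) h1).mpr (hu _)
  refine ⟨⟨fun n => IsOpenImmersion.lift (𝔛.lvU h n L).ι ((u : FSch.Hom 𝔜 𝔛).app n) (hrange n), fun n => ?_⟩,
    FSch.Hom.ext (funext fun n => IsOpenImmersion.lift_fac _ _ _)⟩
  rw [← cancel_mono (𝔛.lvU h (n + 1) L).ι]
  show (_ ≫ (𝔛.ι n).resLE _ _ _) ≫ _ = _
  rw [Category.assoc, Scheme.Hom.resLE_comp_ι, IsOpenImmersion.lift_fac_assoc, Category.assoc,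
    IsOpenImmersion.lift_fac]
  exact (u : FSch.Hom 𝔜 𝔛).comm n

theorem isAdicHom_restrictOpen (f : 𝔜 ⟶ 𝔛) (hf : FSch.IsAdicHom f) (U : (𝔛.X 0).Opens) :
    FSch.IsAdicHom (FSch.Hom.restrictOpen f hY h U) := fun n =>
  Scheme.Hom.isPullback_resLE (hf n) (𝔛.lvU_le h n U) (FSch.Hom.lvU_preimage f hY h (n + 1) U).ge
    (by rw [𝔜.lvU_succ hY n, FSch.Hom.lvU_preimage f hY h n U, inf_idem])

/-- The restriction of an admissible formal blowing-up to an open. -/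
theorem isAdmBlowUp_restrictOpen {b : 𝔜 ⟶ 𝔛} {J : FBlow.IdealSh (𝔛.Osh h)} (hb : FBlow.IsAdmBlowUp b hY h J)
    (V : (𝔛.X 0).Opens) :
    FBlow.IsAdmBlowUp (FSch.Hom.restrictOpen b hY h V) (isFormal_restrictOpen' hY _) (isFormal_restrictOpen' h V)
      (FBlow.idealMap (𝔛.restrictOpenι h V) (isFormal_restrictOpen' h V) h J) := by
  refine ⟨isAdicHom_restrictOpen b hb.1 V, ?_, fun ℨ hZ g hg hinv => ?_⟩
  · rw [← idealMap_comp, FSch.Hom.restrictOpen_ι, idealMap_comp (hY := hY)]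
    exact isInvertible_idealMap_openImmersion _ (isOpenImmersion_restrictOpenι _) hb.2.1
  rw [← idealMap_comp] at hinv
  obtain ⟨k, hk, hkuniq⟩ := hb.2.2 ℨ hZ (g ≫ 𝔛.restrictOpenι h V)
    (isAdicHom_comp hg (isAdicHom_restrictOpenι h V)) hinv
  obtain ⟨k', hk'⟩ := exists_restrict_lift (h := hY) hZ k ((b : FSch.Hom 𝔜 𝔛).app 0 ⁻¹ᵁ V) fun z => by
    show (((k ≫ b : ℨ ⟶ 𝔛) : FSch.Hom ℨ 𝔛).app 0).base z ∈ V
    rw [hk]
    exact (range_restrictOpenι (h := h) V).le ⟨_, rfl⟩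
  refine ⟨k', ?_, fun l hl => ?_⟩
  · show k' ≫ _ = g
    rw [← cancel_mono (𝔛.restrictOpenι h V), Category.assoc, FSch.Hom.restrictOpen_ι, ← Category.assoc, hk', hk]
  · rw [← cancel_mono (𝔜.restrictOpenι hY _), hk']
    refine hkuniq _ ?_
    show (l ≫ _) ≫ b = _
    rw [Category.assoc, ← FSch.Hom.restrictOpen_ι, ← Category.assoc]
    exact congrArg (· ≫ _) hl

/-- Admissible formal blowing-ups are unique up to a unique isomorphism. -/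
theorem exists_iso_of_isAdmBlowUp {b : 𝔜 ⟶ 𝔛} {b' : ℨ ⟶ 𝔛} {J : FBlow.IdealSh (𝔛.Osh h)}
    (hb : FBlow.IsAdmBlowUp b hY h J) (hb' : FBlow.IsAdmBlowUp b' hZ h J) :
    ∃ e : 𝔜 ≅ ℨ, e.hom ≫ b' = b := by
  obtain ⟨k, hk, -⟩ := hb'.2.2 𝔜 hY b hb.1 hb.2.1
  obtain ⟨k', hk', -⟩ := hb.2.2 ℨ hZ b' hb'.1 hb'.2.1
  obtain ⟨_, -, u1⟩ := hb.2.2 𝔜 hY b hb.1 hb.2.1
  obtain ⟨_, -, u2⟩ := hb'.2.2 ℨ hZ b' hb'.1 hb'.2.1
  exact ⟨⟨k, k', (u1 _ (by show (k ≫ k') ≫ b = b; rw [Category.assoc, hk', hk])).trans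
    (u1 _ (Category.id_comp _)).symm, (u2 _ (by show (k' ≫ k) ≫ b' = b'; rw [Category.assoc, hk, hk'])).trans
    (u2 _ (Category.id_comp _)).symm⟩, hk⟩

end Groth.FBlowLib
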