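import Groth.Agent.FBlowLib.BlowOver
import Mathlib.AlgebraicGeometry.RelativeGluing

/-!
# Gluing admissible formal blowing-ups
-/

set_option autoImplicit false
set_option backward.isDefEq.respectTransparency false
set_option backward.isDefEq.respectTransparency.types false

universe u

open CategoryTheory CategoryTheory.Limits AlgebraicGeometry TopologicalSpace Opposite

namespace Groth.FBlowLib.Glue

/-- The data: enough opens over which the blowing-up exists. -/
structure Datum (𝔛 : FSch.Sys.{u}) where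
  /-- The system is formal. -/
  h : 𝔛.IsFormal
  /-- The ideal. -/
  J : FBlow.IdealSh (𝔛.Osh h)
  ex : ∀ (x : 𝔛.X 0) (O : (𝔛.X 0).Opens), x ∈ O → ∃ U : (𝔛.X 0).Opens, x ∈ U ∧ U ≤ O ∧
    ∃ (𝔜 : FSch.Sys.{u}) (hY : 𝔜.IsFormal) (g : 𝔜 ⟶ 𝔛), IsBlowOver g hY h J U

variable {𝔛 : FSch.Sys.{u}} (D : Datum 𝔛)

/-- The opens over which the blowing-up exists. -/
def Idx : Type u :=
  {U : (𝔛.X 0).Opens // ∃ (𝔜 : FSch.Sys.{u}) (hY : 𝔜.IsFormal) (g : 𝔜 ⟶ 𝔛), IsBlowOver g hY D.h D.J U}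

instance : Preorder (Idx D) := inferInstanceAs (Preorder (Subtype _))

variable {D}

theorem exists_idx {x : 𝔛.X 0} {O : (𝔛.X 0).Opens} (hx : x ∈ O) : ∃ i : Idx D, x ∈ i.1 ∧ i.1 ≤ O :=
  let ⟨U, h1, h2, h3⟩ := D.ex x O hx
  ⟨⟨U, h3⟩, h1, h2⟩

/-- The local blowing-up. -/
noncomputable def loc (i : Idx D) : FSch.Sys.{u} := i.2.choose

theorem isFormal_loc (i : Idx D) : (loc i).IsFormal := i.2.choose_spec.choose

/-- Its map to the base. -/
noncomputable def locMap (i : Idx D) : loc i ⟶ 𝔛 := i.2.choose_spec.choose_spec.choose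

theorem isBlowOver_locMap (i : Idx D) : IsBlowOver (locMap i) (isFormal_loc i) D.h D.J i.1 :=
  i.2.choose_spec.choose_spec.choose_spec

/-- The transition maps. -/
noncomputable def tr {i j : Idx D} (e : i ≤ j) : loc i ⟶ loc j :=
  ((isBlowOver_locMap j).exists_trans (isBlowOver_locMap i) e).choose

theorem tr_comp_locMap {i j : Idx D} (e : i ≤ j) : tr e ≫ locMap j = locMap i :=
  ((isBlowOver_locMap j).exists_trans (isBlowOver_locMap i) e).choose_spec.1

theorem tr_unique {i j : Idx D} (e : i ≤ j) (k : loc i ⟶ loc j) (hk : k ≫ locMap j = locMap i) : k = tr e :=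
  ((isBlowOver_locMap j).exists_trans (isBlowOver_locMap i) e).choose_spec.2.1 k hk

theorem isOpenImmersion_tr {i j : Idx D} (e : i ≤ j) (n : ℕ) :
    IsOpenImmersion ((tr e : FSch.Hom (loc i) (loc j)).app n) :=
  ((isBlowOver_locMap j).exists_trans (isBlowOver_locMap i) e).choose_spec.2.2.1 n

theorem range_tr {i j : Idx D} (e : i ≤ j) :
    Set.range ((tr e : FSch.Hom (loc i) (loc j)).app 0).base =
      ((locMap j : FSch.Hom (loc j) 𝔛).app 0 ⁻¹ᵁ i.1 : ((loc j).X 0).Opens) :=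
  ((isBlowOver_locMap j).exists_trans (isBlowOver_locMap i) e).choose_spec.2.2.2

variable (D)

/-- The local blowing-ups as a functor. -/
noncomputable def locFunctor : Idx D ⥤ FSch.Sys.{u} where
  obj i := loc i
  map f := tr f.le
  map_id i := (tr_unique _ _ (Category.id_comp _)).symm
  map_comp f g := (tr_unique _ _ (by rw [Category.assoc, tr_comp_locMap, tr_comp_locMap])).symm

/-- The functor to a level. -/
noncomputable def lvlFunctor (n : ℕ) : Idx D ⥤ Scheme.{u} where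
  obj i := (loc i).X n
  map f := (((locFunctor D).map f) : FSch.Hom _ _).app n
  map_id i := congrArg (fun φ => (φ : FSch.Hom (loc i) (loc i)).app n) ((locFunctor D).map_id i)
  map_comp f g := congrArg (fun φ => (φ : FSch.Hom (loc _) (loc _)).app n) ((locFunctor D).map_comp f g)

/-- The cover of a level of the base. -/
noncomputable def cov (n : ℕ) : (𝔛.X n).OpenCover where
  I₀ := Idx D
  X i := 𝔛.lvU D.h n i.1
  f i := (𝔛.lvU D.h n i.1).ι
  mem₀ := by
    rw [Scheme.presieve₀_mem_precoverage_iff]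
    refine ⟨fun x ↦ ?_, inferInstance⟩
    obtain ⟨i, hi, -⟩ := exists_idx (D := D) (x := (𝔛.gInv D.h n).hom x) (O := ⊤) trivial
    exact ⟨i, ⟨⟨x, hi⟩, rfl⟩⟩

instance (n : ℕ) : Preorder (cov D n).I₀ := inferInstanceAs (Preorder (Idx D))

theorem lvU_le_iff (n : ℕ) {U V : (𝔛.X 0).Opens} : 𝔛.lvU D.h n U ≤ 𝔛.lvU D.h n V ↔ U ≤ V := by
  refine ⟨fun e x hx => ?_, FBlow.lvU_mono 𝔛 D.h n⟩
  have h1 : (𝔛.gInv D.h n).hom ((𝔛.toX n).base x) = x := congr($(𝔛.toX_base_gInv D.h n) x)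
  have h2 : (𝔛.toX n).base x ∈ 𝔛.lvU D.h n U := by show _ ∈ U; rw [h1]; exact hx
  exact h1 ▸ e h2

noncomputable instance (n : ℕ) : (cov D n).LocallyDirected :=
  .ofIsBasisOpensRange
    (fun {i j} => by
      show i.1 ≤ j.1 ↔ (𝔛.lvU D.h n i.1).ι.opensRange ≤ (𝔛.lvU D.h n j.1).ι.opensRange
      rw [Scheme.Opens.opensRange_ι, Scheme.Opens.opensRange_ι, lvU_le_iff D])
    (Opens.isBasis_iff_nbhd.2 fun {O} x hx => by
      let O₀ : (𝔛.X 0).Opens := (𝔛.toX n) ⁻¹ᵁ O
      have h1 : (𝔛.toX n).base ((𝔛.gInv D.h n).hom x) = x := congr($(𝔛.gInv_toX_base D.h n) x)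
      obtain ⟨i, hi, hiO⟩ := exists_idx (D := D) (x := (𝔛.gInv D.h n).hom x) (O := O₀)
        (by show _ ∈ O; rw [h1]; exact hx)
      refine ⟨_, ⟨i, rfl⟩, ?_, ?_⟩
      · show x ∈ (𝔛.lvU D.h n i.1).ι.opensRange
        rw [Scheme.Opens.opensRange_ι]
        exact hi
      · show (𝔛.lvU D.h n i.1).ι.opensRange ≤ O
        rw [Scheme.Opens.opensRange_ι]
        intro y hy
        have h2 : (𝔛.toX n).base ((𝔛.gInv D.h n).hom y) = y := congr($(𝔛.gInv_toX_base D.h n) y)
        exact h2 ▸ hiO hy)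

theorem range_locMap_subset (n : ℕ) (i : Idx D) :
    Set.range ((locMap i : FSch.Hom (loc i) 𝔛).app n).base ⊆ Set.range (𝔛.lvU D.h n i.1).ι.base := by
  rintro _ ⟨z, rfl⟩
  rw [Scheme.Opens.range_ι]
  exact (app_mem_lvU_iff (isFormal_loc i) D.h (locMap i) n i.1 z).2 ((isBlowOver_locMap i).mem _)

/-- A local blowing-up over the opens of a level. -/
noncomputable def natApp (n : ℕ) (i : Idx D) : (loc i).X n ⟶ (𝔛.lvU D.h n i.1 : Scheme.{u}) :=
  IsOpenImmersion.lift (𝔛.lvU D.h n i.1).ι ((locMap i : FSch.Hom (loc i) 𝔛).app n) (range_locMap_subset D n i)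

theorem natApp_ι (n : ℕ) (i : Idx D) :
    natApp D n i ≫ (𝔛.lvU D.h n i.1).ι = (locMap i : FSch.Hom (loc i) 𝔛).app n :=
  IsOpenImmersion.lift_fac _ _ _

theorem natApp_tr (n : ℕ) {i j : Idx D} (e : i ≤ j) :
    (tr e : FSch.Hom (loc i) (loc j)).app n ≫ natApp D n j =
      natApp D n i ≫ (𝔛.X n).homOfLE (FBlow.lvU_mono 𝔛 D.h n e) := by
  rw [← cancel_mono (𝔛.lvU D.h n j.1).ι, Category.assoc, Category.assoc, Scheme.homOfLE_ι, natApp_ι, natApp_ι]
  exact congrArg (fun φ => (φ : FSch.Hom (loc i) 𝔛).app n) (tr_comp_locMap e)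

theorem isPullback_natApp (n : ℕ) {i j : Idx D} (e : i ≤ j) :
    IsPullback ((tr e : FSch.Hom (loc i) (loc j)).app n) (natApp D n i) (natApp D n j)
      ((𝔛.X n).homOfLE (FBlow.lvU_mono 𝔛 D.h n e)) := by
  have := isOpenImmersion_tr e n
  refine (IsOpenImmersion.isPullback _ _ _ _ (natApp_tr D n e) ?_).flip
  ext z
  rw [Scheme.opensRange_homOfLE]
  show (𝔛.lvU D.h n j.1).ι.base ((natApp D n j).base z) ∈ 𝔛.lvU D.h n i.1 ↔ _
  rw [← Scheme.Hom.comp_apply, natApp_ι, app_mem_lvU_iff (isFormal_loc j) D.h (locMap j) n i.1 z]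
  constructor
  · intro hz
    obtain ⟨z₀, rfl⟩ := (loc j).toX_surjective (isFormal_loc j) n z
    have h1 : ((loc j).gInv (isFormal_loc j) n).hom (((loc j).toX n).base z₀) = z₀ :=
      congr($((loc j).toX_base_gInv (isFormal_loc j) n) z₀)
    obtain ⟨y, hy⟩ := (range_tr e).ge (show z₀ ∈ _ from h1 ▸ (show ((loc j).gInv (isFormal_loc j) n).hom
      (((loc j).toX n).base z₀) ∈ ((locMap j : FSch.Hom (loc j) 𝔛).app 0 ⁻¹ᵁ i.1 : ((loc j).X 0).Opens) from hz))
    subst hy
    exact ⟨((loc i).toX n).base y, congr(($(FSch.Hom.toX_comm (tr e) n)).base y)⟩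
  · rintro ⟨y, rfl⟩
    rw [app_mem_lvU_iff (isFormal_loc i) (isFormal_loc j) (tr e) n]
    exact (range_tr e).le ⟨_, rfl⟩

theorem cov_trans (n : ℕ) {i j : (cov D n).I₀} (f : i ⟶ j) :
    (cov D n).trans f = (𝔛.X n).homOfLE (FBlow.lvU_mono 𝔛 D.h n f.le) := by
  rw [← cancel_mono (𝔛.lvU D.h n j.1).ι, Scheme.homOfLE_ι]
  exact Scheme.Cover.trans_map (cov D n) f

/-- The gluing data at a level. -/
noncomputable def dat (n : ℕ) : (cov D n).RelativeGluingData where
  functor := lvlFunctor D n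
  natTrans :=
    { app := natApp D n
      naturality := fun i j f => by
        show _ = natApp D n i ≫ (cov D n).trans f
        rw [cov_trans]
        exact natApp_tr D n f.le }
  equifibered := fun i j f => by
    show IsPullback _ (natApp D n i) (natApp D n j) ((cov D n).trans f)
    rw [cov_trans]
    exact isPullback_natApp D n f.le

/-- The glued scheme at a level. -/
noncomputable def lvl (n : ℕ) : Scheme.{u} := (dat D n).glued

/-- The inclusion at a level. -/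
noncomputable def lvlι (n : ℕ) (i : Idx D) : (loc i).X n ⟶ lvl D n := colimit.ι (dat D n).functor i

theorem lvlι_tr (n : ℕ) {i j : Idx D} (e : i ≤ j) :
    (tr e : FSch.Hom (loc i) (loc j)).app n ≫ lvlι D n j = lvlι D n i :=
  colimit.w (dat D n).functor (homOfLE e : (i : (cov D n).I₀) ⟶ j)

theorem lvl_hom_ext (n : ℕ) {T : Scheme.{u}} {a b : lvl D n ⟶ T}
    (H : ∀ i, lvlι D n i ≫ a = lvlι D n i ≫ b) : a = b := colimit.hom_ext H

/-- The map to the base at a level. -/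
noncomputable def lvlBase (n : ℕ) : lvl D n ⟶ 𝔛.X n := (dat D n).toBase

theorem lvlι_base (n : ℕ) (i : Idx D) : lvlι D n i ≫ lvlBase D n = (locMap i : FSch.Hom (loc i) 𝔛).app n :=
  ((dat D n).ι_toBase i).trans (natApp_ι D n i)

/-- The transition between the levels. -/
noncomputable def incl (n : ℕ) : lvl D n ⟶ lvl D (n + 1) :=
  colimit.desc (dat D n).functor
    { pt := lvl D (n + 1)
      ι :=
        { app := fun i => (loc i).ι n ≫ lvlι D (n + 1) i
          naturality := fun i j f => by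
            show (tr f.le : FSch.Hom (loc i) (loc j)).app n ≫ (loc j).ι n ≫ lvlι D (n + 1) j = _ ≫ 𝟙 _
            rw [Category.comp_id, reassoc_of% (tr f.le : FSch.Hom (loc i) (loc j)).comm n, lvlι_tr] } }

theorem lvlι_incl (n : ℕ) (i : Idx D) : lvlι D n i ≫ incl D n = (loc i).ι n ≫ lvlι D (n + 1) i :=
  colimit.ι_desc (F := (dat D n).functor) _ i

/-- The glued system. -/
noncomputable def glued : FSch.Sys.{u} where
  X := lvl D
  ι := incl D

/-- The map to the base. -/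
noncomputable def toBase : glued D ⟶ 𝔛 :=
  ⟨lvlBase D, fun n => lvl_hom_ext D n fun i => by
    show lvlι D n i ≫ lvlBase D n ≫ 𝔛.ι n = lvlι D n i ≫ incl D n ≫ lvlBase D (n + 1)
    rw [reassoc_of% lvlι_base D n i, reassoc_of% lvlι_incl D n i, lvlι_base]
    exact (locMap i : FSch.Hom (loc i) 𝔛).comm n⟩

/-- The inclusion of a local blowing-up. -/
noncomputable def inj (i : Idx D) : loc i ⟶ glued D :=
  ⟨fun n => lvlι D n i, fun n => lvlι_incl D n i⟩

theorem inj_toBase (i : Idx D) : inj D i ≫ toBase D = locMap i :=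
  FSch.Hom.ext (funext fun n => lvlι_base D n i)

theorem tr_inj {i j : Idx D} (e : i ≤ j) : tr e ≫ inj D j = inj D i :=
  FSch.Hom.ext (funext fun n => lvlι_tr D n e)

theorem isOpenImmersion_inj (i : Idx D) (n : ℕ) :
    IsOpenImmersion ((inj D i : FSch.Hom (loc i) (glued D)).app n) :=
  MorphismProperty.of_isPullback (P := @IsOpenImmersion) ((dat D n).isPullback_natTrans_ι_toBase i)
    (inferInstanceAs (IsOpenImmersion (𝔛.lvU D.h n i.1).ι))

theorem range_inj (i : Idx D) (n : ℕ) :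
    ((toBase D : FSch.Hom (glued D) 𝔛).app n) ⁻¹ᵁ 𝔛.lvU D.h n i.1 =
      (have := isOpenImmersion_inj D i n; ((inj D i : FSch.Hom (loc i) (glued D)).app n).opensRange) := by
  have := (dat D n).toBase_preimage_eq_opensRange_ι i
  rw [show ((cov D n).f i).opensRange = 𝔛.lvU D.h n i.1 from Scheme.Opens.opensRange_ι _] at this
  exact this

theorem isAdicHom_toBase : FSch.IsAdicHom (toBase D) := fun n => by
  refine Scheme.isPullback_of_openCover _ _ _ _ (dat D (n + 1)).cover fun i => ?_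
  have := isOpenImmersion_inj D i n
  have := isOpenImmersion_inj D i (n + 1)
  have hsq : IsPullback ((loc i).ι n) ((inj D i : FSch.Hom (loc i) (glued D)).app n)
      ((inj D i : FSch.Hom (loc i) (glued D)).app (n + 1)) ((glued D).ι n) := by
    refine IsOpenImmersion.isPullback _ _ _ _ ((inj D i : FSch.Hom (loc i) (glued D)).comm n) ?_
    rw [← range_inj D i n, ← range_inj D i (n + 1), ← Scheme.Hom.comp_preimage,
      ← (toBase D : FSch.Hom (glued D) 𝔛).comm n, Scheme.Hom.comp_preimage, 𝔛.lvU_succ D.h n i.1]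
  have hadic := (isBlowOver_locMap i).adic n
  refine IsPullback.of_iso hadic hsq.flip.isoPullback (Iso.refl _) (Iso.refl _) (Iso.refl _) ?_ ?_ ?_ ?_
  · rw [Iso.refl_hom, Category.comp_id]
    exact (hsq.flip.isoPullback_hom_snd).symm
  · rw [Iso.refl_hom, Category.comp_id, ← inj_toBase D i]
    exact (hsq.flip.isoPullback_hom_fst_assoc _).symm
  · refine (Category.comp_id _).trans (Eq.trans ?_ (Category.id_comp _).symm)
    exact (congrArg (fun φ => (φ : FSch.Hom (loc i) 𝔛).app (n + 1)) (inj_toBase D i)).symm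
  · simp

theorem isFormal_glued : (glued D).IsFormal :=
  Groth.AdicLinTop.Thickenings.isFormal_of_isAdicHom (isAdicHom_toBase D) D.h

theorem range_inj_zero (i : Idx D) :
    Set.range ((inj D i : FSch.Hom (loc i) (glued D)).app 0).base =
      (((toBase D : FSch.Hom (glued D) 𝔛).app 0) ⁻¹ᵁ i.1 : ((glued D).X 0).Opens) := by
  have := isOpenImmersion_inj D i 0
  have h0 := range_inj D i 0
  rw [show 𝔛.lvU D.h 0 i.1 = i.1 from Groth.AdicLinTop.FormalLevels.toX_preimage_lvU D.h 0 i.1] at h0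
  exact congrArg (fun U : ((glued D).X 0).Opens => (U : Set ((glued D).X 0))) h0.symm

theorem isInvertible_toBase : (FBlow.idealMap (toBase D) (isFormal_glued D) D.h D.J).IsInvertible :=
  isInvertible_of_openImmersions fun x => by
    obtain ⟨i, hi, -⟩ :=
      exists_idx (D := D) (x := ((toBase D : FSch.Hom (glued D) 𝔛).app 0).base x) (O := ⊤) trivial
    refine ⟨loc i, isFormal_loc i, inj D i, isOpenImmersion_inj D i, (range_inj_zero D i).ge hi, ?_⟩
    rw [← idealMap_comp, inj_toBase]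
    exact (isBlowOver_locMap i).inv

theorem existsUnique_glued (ℨ : FSch.Sys.{u}) (hZ : ℨ.IsFormal) (t : ℨ ⟶ 𝔛) (ht : FSch.IsAdicHom t)
    (hinv : (FBlow.idealMap t hZ D.h D.J).IsInvertible) : ∃! k : ℨ ⟶ glued D, k ≫ toBase D = t := by
  let W : Idx D → (ℨ.X 0).Opens := fun i => (t : FSch.Hom ℨ 𝔛).app 0 ⁻¹ᵁ i.1
  have hW : ∀ i, (ℨ.restrictOpen hZ (W i)).IsFormal := fun i => isFormal_restrictOpen' hZ _
  let ti : ∀ i, ℨ.restrictOpen hZ (W i) ⟶ 𝔛 := fun i => ℨ.restrictOpenι hZ (W i) ≫ t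
  have hti_mem : ∀ i z, ((ti i : FSch.Hom _ 𝔛).app 0).base z ∈ i.1 := fun i z =>
    show _ ∈ W i from (range_restrictOpenι (h := hZ) (W i)).le ⟨z, rfl⟩
  have hti := fun i => (isBlowOver_locMap i).univ _ (hW i) (ti i)
    (isAdicHom_comp (isAdicHom_restrictOpenι hZ _) ht)
    (by
      rw [idealMap_comp (hY := hZ)]
      exact isInvertible_idealMap_openImmersion _ (isOpenImmersion_restrictOpenι _) hinv) (hti_mem i)
  choose k hk hkuniq using hti
  simp only at hk
  let ρ : ∀ {i j : Idx D}, i ≤ j → (ℨ.restrictOpen hZ (W i) ⟶ ℨ.restrictOpen hZ (W j)) := fun {i j} e =>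
    ⟨fun n => (ℨ.X n).homOfLE (FBlow.lvU_mono ℨ hZ n (Scheme.Hom.preimage_mono _ e)), fun n => by
      rw [← cancel_mono (ℨ.lvU hZ (n + 1) (W j)).ι]
      show (_ ≫ (ℨ.ι n).resLE _ _ _) ≫ _ = (((ℨ.ι n).resLE _ _ _) ≫ _) ≫ _
      simp⟩
  have hρ : ∀ {i j : Idx D} (e : i ≤ j),
      ρ e ≫ ℨ.restrictOpenι hZ (W j) = ℨ.restrictOpenι hZ (W i) := fun {i j} e =>
    FSch.Hom.ext (funext fun n => Scheme.homOfLE_ι (ℨ.X n) (FBlow.lvU_mono ℨ hZ n (Scheme.Hom.preimage_mono _ e)))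
  have hρk : ∀ {i j : Idx D} (e : i ≤ j), ρ e ≫ k j ≫ inj D j = k i ≫ inj D i := fun {i j} e => by
    have h1 : k i ≫ tr e = ρ e ≫ k j := by
      obtain ⟨_, -, u⟩ := (isBlowOver_locMap j).univ _ (hW i) (ti i)
        (isAdicHom_comp (isAdicHom_restrictOpenι hZ _) ht)
        (by
          rw [idealMap_comp (hY := hZ)]
          exact isInvertible_idealMap_openImmersion _ (isOpenImmersion_restrictOpenι _) hinv)
        (fun z => e (hti_mem i z))
      refine (u _ ?_).trans (u _ ?_).symm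
      · show (k i ≫ tr e) ≫ locMap j = ti i
        rw [Category.assoc, tr_comp_locMap, hk]
      · show (ρ e ≫ k j) ≫ locMap j = ti i
        rw [Category.assoc, hk]
        exact (Category.assoc _ _ _).symm.trans (congrArg (· ≫ t) (hρ e))
    rw [← reassoc_of% h1, tr_inj]
  have hcov : ∀ n (z : ℨ.X n), ∃ i : Idx D, z ∈ ℨ.lvU hZ n (W i) := fun n z => by
    obtain ⟨i, hi, -⟩ := exists_idx (D := D)
      (x := ((t : FSch.Hom ℨ 𝔛).app 0).base ((ℨ.gInv hZ n).hom z)) (O := ⊤) trivial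
    exact ⟨i, hi⟩
  have hglue : ∀ n, ∃ m : ℨ.X n ⟶ (glued D).X n, ∀ i, (ℨ.lvU hZ n (W i)).ι ≫ m =
      ((k i ≫ inj D i : FSch.Hom _ (glued D))).app n := fun n => by
    refine exists_glue_of_basis (fun i => ℨ.lvU hZ n (W i)) (hcov n) _ fun i j z hz => ?_
    obtain ⟨l, hl, hlle⟩ := exists_idx (D := D)
      (x := ((t : FSch.Hom ℨ 𝔛).app 0).base ((ℨ.gInv hZ n).hom z)) (O := i.1 ⊓ j.1) hz
    exact ⟨l, hl, FBlow.lvU_mono ℨ hZ n (Scheme.Hom.preimage_mono _ (hlle.trans inf_le_left)),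
      FBlow.lvU_mono ℨ hZ n (Scheme.Hom.preimage_mono _ (hlle.trans inf_le_right)),
      congrArg (fun φ => (φ : FSch.Hom _ (glued D)).app n) (hρk (i := l) (j := i) (hlle.trans inf_le_left)),
      congrArg (fun φ => (φ : FSch.Hom _ (glued D)).app n) (hρk (i := l) (j := j) (hlle.trans inf_le_right))⟩
  choose m hm using hglue
  have hext : ∀ (n : ℕ) {T : Scheme.{u}} (a b : ℨ.X n ⟶ T),
      (∀ i, (ℨ.lvU hZ n (W i)).ι ≫ a = (ℨ.lvU hZ n (W i)).ι ≫ b) → a = b := fun n T a b H =>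
    Scheme.Cover.hom_ext (𝒰 := (ℨ.X n).openCoverOfIsOpenCover (fun i => ℨ.lvU hZ n (W i))
      (IsOpenCover.mk (eq_top_iff.2 fun z _ => Opens.mem_iSup.2 (hcov n z)))) a b H
  let K : ℨ ⟶ glued D := ⟨m, fun n => hext n _ _ fun i => by
    rw [reassoc_of% hm n i, ← Scheme.Hom.resLE_comp_ι_assoc (ℨ.ι n) (ℨ.lvU_le hZ n (W i)), hm]
    exact (k i ≫ inj D i : FSch.Hom _ (glued D)).comm n⟩
  refine ⟨K, FSch.Hom.ext (funext fun n => hext n _ _ fun i => ?_), fun K' hK' => ?_⟩
  · show _ ≫ m n ≫ _ = _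
    rw [reassoc_of% hm n i]
    exact congrArg (fun φ => (φ : FSch.Hom _ 𝔛).app n)
      ((Category.assoc _ _ _).trans ((congrArg (k i ≫ ·) (inj_toBase D i)).trans (hk i)))
  · refine FSch.Hom.ext (funext fun n => hext n _ _ fun i => ?_)
    obtain ⟨v, hv⟩ := exists_lift_openImmersion (hW i) (ℨ.restrictOpenι hZ (W i) ≫ K') (inj D i)
      (isOpenImmersion_inj D i) (by
        rintro _ ⟨z, rfl⟩
        rw [range_inj_zero]
        show (((_ ≫ K') ≫ toBase D : ℨ.restrictOpen hZ (W i) ⟶ 𝔛) : FSch.Hom _ 𝔛).app 0 z ∈ i.1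
        rw [Category.assoc, hK']
        exact hti_mem i z)
    have hvk : v = k i := hkuniq i v (by
      show v ≫ locMap i = ti i
      rw [← inj_toBase D i, reassoc_of% hv, hK'])
    rw [hm n i, ← hvk]
    exact (congrArg (fun φ => (φ : FSch.Hom _ (glued D)).app n) hv).symm

theorem isAdmBlowUp_glued : FBlow.IsAdmBlowUp (toBase D) (isFormal_glued D) D.h D.J :=
  ⟨isAdicHom_toBase D, isInvertible_toBase D, existsUnique_glued D⟩

end Groth.FBlowLib.Glue
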