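import Groth.Agent.FBlowLib.KAdic

/-!
# The ideal generated by an ideal of the base ring; invertibility
-/

set_option autoImplicit false
set_option backward.isDefEq.respectTransparency false
set_option backward.isDefEq.respectTransparency.types false

universe u

open CategoryTheory CategoryTheory.Limits AlgebraicGeometry TopologicalSpace Opposite
open Groth.BlowUpBasics (sheafOf phi)

namespace Groth.FBlowLib

/-- Membership in the ideal sheaf of quasi-coherent ideal data over an affine open. -/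
theorem mem_ideal_of_memData {X : Scheme.{u}} (𝓘 : X.IdealSheafData) (U : X.affineOpens) (s : Γ(X, U.1))
    (hs : FBlow.MemData 𝓘 U.1 s) : s ∈ 𝓘.ideal U := by
  rw [← Scheme.IdealSheafData.ker_subschemeι_app, RingHom.mem_ker]
  choose V i hxV hV using hs
  refine TopCat.Sheaf.eq_of_locally_eq' 𝓘.subscheme.sheaf (fun x : U.1 => 𝓘.subschemeι ⁻¹ᵁ (V x.1 x.2).1)
    (𝓘.subschemeι ⁻¹ᵁ U.1) (fun x => homOfLE (Scheme.Hom.preimage_mono _ (i x.1 x.2)))
    (fun z hz => Opens.mem_iSup.mpr ⟨⟨_, hz⟩, hxV _ hz⟩) _ 0 fun x => ?_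
  rw [map_zero]
  have := hV x.1 x.2
  rw [← Scheme.IdealSheafData.ker_subschemeι_app, RingHom.mem_ker] at this
  refine Eq.trans ?_ this
  exact (NatTrans.naturality_apply 𝓘.subschemeι.c (homOfLE (i x.1 x.2)).op s).symm

variable {A : Type u} [CommRing A] {K : Ideal A} {𝔛 : FSch.Sys.{u}} {h : 𝔛.IsFormal}

variable (h) in
/-- The ideal sheaf generated by an ideal of the base ring. -/
noncomputable def Over.idealOf (o : Over 𝔛 K) (𝔞 : Ideal A) : FBlow.IdealSh (𝔛.Osh h) :=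
  FBlow.IdealSh.gen fun W => o.φ h W '' 𝔞

variable (o : Over 𝔛 K) {𝔞 : Ideal A}

theorem Over.span_seed (V : (𝔛.X 0).Opens) :
    Ideal.span (FBlow.IdealSh.seed (O := 𝔛.Osh h) (fun W => o.φ h W '' (𝔞 : Set A)) V) = 𝔞.map (o.φ h V) := by
  refine congrArg Ideal.span (Set.ext fun t => ⟨?_, ?_⟩)
  · rintro ⟨W, j, _, ⟨a, ha, rfl⟩, rfl⟩
    exact ⟨a, ha, congr($(o.rs_φ h j) a).symm⟩
  · rintro ⟨a, ha, rfl⟩
    exact ⟨V, le_rfl, _, ⟨a, ha, rfl⟩, (rs_self le_rfl _).symm⟩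

theorem Over.mem_idealOf {U : (𝔛.X 0).Opens} {s : Sec h U} :
    s ∈ (o.idealOf h 𝔞).sect U ↔
      ∀ x ∈ U, ∃ (V : (𝔛.X 0).Opens) (i : V ≤ U), x ∈ V ∧ rs h i s ∈ 𝔞.map (o.φ h V) :=
  forall₂_congr fun _ _ => exists₂_congr fun V _ => and_congr_right fun _ => by rw [o.span_seed V]; rfl

theorem Over.map_le_idealOf (U : (𝔛.X 0).Opens) : 𝔞.map (o.φ h U) ≤ (o.idealOf h 𝔞).sect U :=
  fun _ hs => o.mem_idealOf.2 fun _ hx => ⟨U, le_rfl, hx, by rwa [rs_self]⟩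

theorem Over.rs_mem_map {U V : (𝔛.X 0).Opens} (e : V ≤ U) {s : Sec h U} (hs : s ∈ 𝔞.map (o.φ h U)) :
    rs h e s ∈ 𝔞.map (o.φ h V) := by
  rw [← o.rs_φ h e, ← Ideal.map_map]
  exact Ideal.mem_map_of_mem _ hs

/-- The ideal generated by an ideal on the spectrum along the structure maps. -/
theorem Over.schIdealMap_eq (𝔞 : Ideal A) :
    FBlow.schIdealMap 𝔛 h o.π o.comm (FBlow.IdealSh.ofData (sheafOf 𝔞)) = o.idealOf h 𝔞 := by
  refine FBlow.IdealSh.ext (funext fun V => le_antisymm ?_ ?_)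
  · refine FBlow.IdealSh.map_le (K := o.idealOf h 𝔞) (fun W a ha V j => ?_) V
    refine (o.idealOf h 𝔞).mem_of_local fun x hx => ?_
    obtain ⟨W', i, hxW', hW'⟩ := ha ((o.π 0).base x) (j hx)
    refine ⟨V ⊓ (o.π 0) ⁻¹ᵁ W'.1, inf_le_left, ⟨hx, hxW'⟩, o.map_le_idealOf _ ?_⟩
    have hid : (sheafOf 𝔞).ideal W' = (𝔞.map (Scheme.ΓSpecIso (CommRingCat.of A)).inv.hom).map
        ((Spec (CommRingCat.of A)).presheaf.map (homOfLE (le_top : W'.1 ≤ ⊤)).op).hom := by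
      rw [← Groth.BlowUpBasics.sheafOf_ideal_top]
      exact ((sheafOf 𝔞).map_ideal (U := W') (V := ⟨⊤, isAffineOpen_top _⟩) (fun _ _ => trivial)).symm
    rw [hid, Ideal.map_map] at hW'
    have hm := Ideal.mem_map_of_mem (((𝔛.Osh h).obj.map (homOfLE (inf_le_right :
      V ⊓ (o.π 0) ⁻¹ᵁ W'.1 ≤ (o.π 0) ⁻¹ᵁ W'.1)).op).hom.comp
        ((FSch.schSharp 𝔛 h o.π o.comm).hom.app (op W'.1)).hom) hW'
    rw [Ideal.map_map] at hm
    have hcomp : (((𝔛.Osh h).obj.map (homOfLE (inf_le_right :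
      V ⊓ (o.π 0) ⁻¹ᵁ W'.1 ≤ (o.π 0) ⁻¹ᵁ W'.1)).op).hom.comp
        ((FSch.schSharp 𝔛 h o.π o.comm).hom.app (op W'.1)).hom).comp
          (((Spec (CommRingCat.of A)).presheaf.map (homOfLE (le_top : W'.1 ≤ ⊤)).op).hom.comp
            (Scheme.ΓSpecIso (CommRingCat.of A)).inv.hom) = o.φ h _ := by
      ext b
      exact (congrArg _ (NatTrans.naturality_apply (FSch.schSharp 𝔛 h o.π o.comm).hom
        (homOfLE (le_top : W'.1 ≤ ⊤)).op ((Scheme.ΓSpecIso (CommRingCat.of A)).inv.hom b))).trans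
          (rs_rs _ _ _)
    rw [hcomp] at hm
    refine (congrArg (· ∈ 𝔞.map (o.φ h _)) ?_).mp hm
    refine (congrArg _ (NatTrans.naturality_apply (FSch.schSharp 𝔛 h o.π o.comm).hom
      (homOfLE i).op a)).trans ((rs_rs _ _ _).trans ?_)
    exact (rs_rs _ _ _).symm
  · refine FBlow.IdealSh.gen_le (J := FBlow.schIdealMap 𝔛 h o.π o.comm (FBlow.IdealSh.ofData (sheafOf 𝔞))) ?_ V
    rintro W _ ⟨a, ha, rfl⟩
    refine FBlow.IdealSh.image_mem_map (W := ⊤) (o.π 0).base (FSch.schSharp 𝔛 h o.π o.comm) _ ?_ (le_top : W ≤ ⊤)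
    intro x _
    refine ⟨⟨⊤, isAffineOpen_top _⟩, le_rfl, trivial, ?_⟩
    rw [Groth.BlowUpBasics.sheafOf_ideal_top]
    erw [FBlow.IdealSh.map_id_apply (O := (Spec (CommRingCat.of A)).sheaf) le_rfl]
    exact Ideal.mem_map_of_mem _ ha

section functoriality

variable {𝔜 : FSch.Sys.{u}} {hY : 𝔜.IsFormal} (f : 𝔜 ⟶ 𝔛) (hf : FSch.IsAdicHom f)

variable (hY) in
theorem Over.sharp_φ (W : (𝔛.X 0).Opens) (V : (𝔜.X 0).Opens) (j : V ≤ (f : FSch.Hom 𝔜 𝔛).app 0 ⁻¹ᵁ W) :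
    (rs hY j).comp (((FSch.Hom.sharp f hY h).hom.app (op W)).hom.comp (o.φ h W)) =
      (o.comp h f hf).φ hY V := by
  ext a
  refine sec_ext fun n => ?_
  rw [← RingHom.comp_apply (prj hY n V) ((o.comp h f hf).φ hY V), (o.comp h f hf).prj_φ hY n V,
    RingHom.comp_apply, prj_rs]
  have e := congr(($(FSch.Hom.sharp_proj f hY h n)).hom.app (op W) (o.φ h W a))
  refine (congrArg (lrs hY n j) (e.trans (congrArg
    (((f : FSch.Hom 𝔜 𝔛).app n).appLE (𝔛.lvU h n W) (𝔜.lvU hY n ((f : FSch.Hom 𝔜 𝔛).app 0 ⁻¹ᵁ W))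
      (FSch.Hom.lvU_preimage f hY h n W).ge).hom (congr($(o.prj_φ h n W) a))))).trans ?_
  show (((𝔜.X n).presheaf.map _).hom.comp
        ((((f : FSch.Hom 𝔜 𝔛).app n).appLE _ _ _).hom.comp (phi (o.π n) (𝔛.lvU h n W)))) a = _
  refine congrArg (fun r : A →+* _ => r a) ?_
  simp only [phi, Over.comp]
  rw [← CommRingCat.hom_comp, ← CommRingCat.hom_comp, Category.assoc, Category.assoc,
    Scheme.Hom.appLE_map, Scheme.Hom.appLE_comp_appLE]

theorem Over.idealMap_idealOf (𝔞 : Ideal A) :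
    FBlow.idealMap f hY h (o.idealOf h 𝔞) = (o.comp h f hf).idealOf hY 𝔞 := by
  refine FBlow.IdealSh.ext (funext fun V => le_antisymm ?_ ?_)
  · refine FBlow.IdealSh.map_le (K := (o.comp h f hf).idealOf hY 𝔞) (fun W a ha V j => ?_) V
    refine ((o.comp h f hf).idealOf hY 𝔞).mem_of_local fun x hx => ?_
    obtain ⟨W', i, hxW', hW'⟩ := o.mem_idealOf.1 ha (((f : FSch.Hom 𝔜 𝔛).app 0).base x) (j hx)
    refine ⟨V ⊓ (f : FSch.Hom 𝔜 𝔛).app 0 ⁻¹ᵁ W', inf_le_left, ⟨hx, hxW'⟩, (o.comp h f hf).map_le_idealOf _ ?_⟩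
    have hm := Ideal.mem_map_of_mem ((rs hY (inf_le_right :
      V ⊓ (f : FSch.Hom 𝔜 𝔛).app 0 ⁻¹ᵁ W' ≤ _)).comp ((FSch.Hom.sharp f hY h).hom.app (op W')).hom) hW'
    rw [Ideal.map_map, RingHom.comp_assoc, o.sharp_φ hY f hf] at hm
    refine (congrArg (· ∈ 𝔞.map ((o.comp h f hf).φ hY _)) ?_).mp hm
    refine (congrArg _ (NatTrans.naturality_apply (FSch.Hom.sharp f hY h).hom (homOfLE i).op a)).trans
      ((rs_rs _ _ _).trans ?_)
    exact (rs_rs _ _ _).symm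
  · refine FBlow.IdealSh.gen_le (J := FBlow.idealMap f hY h (o.idealOf h 𝔞)) ?_ V
    rintro W _ ⟨a, ha, rfl⟩
    rw [← o.sharp_φ hY f hf ⊤ W le_top]
    exact FBlow.IdealSh.image_mem_map (W := ⊤) _ _ (o.idealOf h 𝔞) (o.map_le_idealOf _ (Ideal.mem_map_of_mem _ ha))
      (le_top : W ≤ ⊤)

end functoriality

/-- An affine open on which the ideal is generated by a nonzerodivisor. -/
def Over.Good (h : 𝔛.IsFormal) (o : Over 𝔛 K) (𝔞 : Ideal A) (U : (𝔛.X 0).Opens) : Prop :=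
  IsAffineOpen U ∧ ∃ g ∈ nonZeroDivisors (Sec h U), 𝔞.map (o.φ h U) = Ideal.span {g}

theorem mul_eq_zero_of_le {n m : ℕ} (hnm : n ≤ m) {U : (𝔛.X 0).Opens} {x : Sec h U} (hx : prj h m U x = 0) :
    prj h n U x = 0 := by
  induction hnm with
  | refl => exact hx
  | @step m _ ih => exact ih (by rw [← trs_prj, hx, map_zero])

variable {k : ℕ}

include o in
/-- An element in the ideal near every point of an affine open lies in the ideal. -/
theorem Over.mem_map_of_mem_idealOf (hK : K.FG) (hk : K ^ k ≤ 𝔞) {U : (𝔛.X 0).Opens} (hU : IsAffineOpen U)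
    {s : Sec h U} (hs : s ∈ (o.idealOf h 𝔞).sect U) : s ∈ 𝔞.map (o.φ h U) := by
  refine mem_of_comap_map (prj_surjective hU k) _ ?_ ?_
  · rw [o.ker_prj hK hU k]
    exact Ideal.map_mono ((Ideal.pow_le_pow_right (Nat.le_succ k)).trans hk)
  rw [Ideal.map_map, o.prj_φ h k U,
    ← Groth.BlowUpBasics.ideal_comap_sheafOf (o.π k) 𝔞 ⟨_, Groth.AdicLinTop.FormalLevels.isAffineOpen_lvU h hU k⟩]
  refine mem_ideal_of_memData _ _ _ fun y hy => ?_
  obtain ⟨V, i, hyV, hV⟩ := o.mem_idealOf.1 hs ((𝔛.gInv h k).hom y) hy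
  obtain ⟨_, ⟨W, hW, rfl⟩, hyW, hWV⟩ := (𝔛.X k).isBasis_affineOpens.exists_subset_of_mem_open
    (show y ∈ 𝔛.lvU h k V from hyV) (𝔛.lvU h k V).isOpen
  have hWV : W ≤ 𝔛.lvU h k V := hWV
  refine ⟨⟨W, hW⟩, hWV.trans (FBlow.lvU_mono 𝔛 h k i), hyW, ?_⟩
  rw [Groth.BlowUpBasics.ideal_comap_sheafOf]
  show _ ∈ 𝔞.map (phi (o.π k) W)
  rw [Groth.BlowUpBasics.phi_restrict (o.π k) hWV, ← o.prj_φ h k V, ← RingHom.comp_assoc, ← Ideal.map_map]
  refine (congrArg (· ∈ _) ?_).mp (Ideal.mem_map_of_mem _ hV)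
  rw [RingHom.comp_apply, prj_rs]
  exact FBlow.sch_map_comp_apply (FBlow.lvU_mono 𝔛 h k i) hWV _

include o in
/-- Near every point there are good affine opens if the ideal is invertible. -/
theorem Over.exists_good (hK : K.FG) (hk : K ^ k ≤ 𝔞) (hinv : (o.idealOf h 𝔞).IsInvertible)
    {x : 𝔛.X 0} {O : (𝔛.X 0).Opens} (hx : x ∈ O) : ∃ U, x ∈ U ∧ U ≤ O ∧ o.Good h 𝔞 U := by
  obtain ⟨U₀, hxU₀, g, hg, hgen⟩ := hinv x
  obtain ⟨_, ⟨U, hU, rfl⟩, hxU, hUle⟩ := (𝔛.X 0).isBasis_affineOpens.exists_subset_of_mem_open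
    (show x ∈ O ⊓ U₀ from ⟨hx, hxU₀⟩) (O ⊓ U₀).isOpen
  have hUO : U ≤ O := fun y hy => (hUle hy).1
  have hU0 : U ≤ U₀ := fun y hy => (hUle hy).2
  refine ⟨U, hxU, hUO, hU, rs h hU0 g, mem_nonZeroDivisors_iff_right.2 fun t ht => (hgen U hU0).1 t ht,
    le_antisymm (fun s hs => ?_) ?_⟩
  · obtain ⟨t, rfl⟩ := (hgen U hU0).2 s (o.map_le_idealOf _ hs)
    exact Ideal.mul_mem_left _ t (Ideal.mem_span_singleton_self _)
  · rw [Ideal.span_le, Set.singleton_subset_iff]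
    exact o.mem_map_of_mem_idealOf hK hk hU ((o.idealOf h 𝔞).map_mem hU0 hg)

theorem lvU_basicOpen {U : (𝔛.X 0).Opens} (n : ℕ) (b : Sec h U) :
    𝔛.lvU h n ((𝔛.X 0).basicOpen (prj h 0 U b)) = (𝔛.X n).basicOpen (prj h n U b) := by
  have key : ∀ m, 𝔛.toX m ⁻¹ᵁ (𝔛.X m).basicOpen (prj h m U b) = (𝔛.X 0).basicOpen (prj h 0 U b) := by
    intro m
    induction m with
    | zero => exact Scheme.Hom.id_preimage _
    | succ m ih =>
      show (𝔛.toX m ≫ 𝔛.ι m) ⁻¹ᵁ _ = _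
      rw [Scheme.Hom.comp_preimage, ← ih]
      refine congrArg _ ?_
      rw [Scheme.preimage_basicOpen, ← trs_prj m U b, trs]
      have e : prj h m U b = trs h m U (prj h (m + 1) U b) := (trs_prj m U b).symm
      show _ = (𝔛.X m).basicOpen (((𝔛.X m).presheaf.map (homOfLE (𝔛.lvU_le h m U)).op)
        ((𝔛.ι m).app _ (prj h (m + 1) U b)))
      rw [Scheme.basicOpen_res]
      refine (inf_eq_right.2 ?_).symm
      exact ((𝔛.X m).basicOpen_le _).trans (𝔛.lvU_succ h m U).le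
  refine Opens.ext (Set.ext fun y => ?_)
  obtain ⟨x, rfl⟩ := 𝔛.toX_surjective h n y
  show (𝔛.gInv h n).hom ((𝔛.toX n).base x) ∈ (𝔛.X 0).basicOpen (prj h 0 U b) ↔ _
  rw [show (𝔛.gInv h n).hom ((𝔛.toX n).base x) = x from congr($(𝔛.toX_base_gInv h n) x), ← key n]
  rfl

include o in
theorem Over.Good.mul_eq_zero (hK : K.FG) (hk : K ^ k ≤ 𝔞) {U : (𝔛.X 0).Opens} (hU : IsAffineOpen U)
    {g : Sec h U} (hg : g ∈ nonZeroDivisors (Sec h U)) (hgen : 𝔞.map (o.φ h U) = Ideal.span {g})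
    {V : (𝔛.X 0).Opens} (e : V ≤ U) {t : Sec h V} (ht : t * rs h e g = 0) : t = 0 := by
  refine sec_ext_local fun x hx => ?_
  obtain ⟨r, hrV, hxr⟩ := hU.exists_basicOpen_le ⟨x, hx⟩ (e hx)
  obtain ⟨b, hb⟩ := prj_surjective hU 0 (((𝔛.X 0).presheaf.map
    (homOfLE (show 𝔛.lvU h 0 U ≤ U from (Groth.AdicLinTop.FormalLevels.toX_preimage_lvU h 0 U).le)).op) r)
  have hD : (𝔛.X 0).basicOpen (prj h 0 U b) = (𝔛.X 0).basicOpen r := by
    rw [hb, Scheme.basicOpen_res]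
    exact inf_eq_right.2 (((𝔛.X 0).basicOpen_le r).trans
      (Groth.AdicLinTop.FormalLevels.toX_preimage_lvU h 0 U).ge)
  refine ⟨(𝔛.X 0).basicOpen r, hrV, hxr, ?_⟩
  rw [map_zero]
  refine sec_ext fun i => ?_
  rw [map_zero]
  set n := i + k
  let D := (𝔛.X 0).basicOpen r
  have hle : D ≤ U := hrV.trans e
  have hlv : ∀ j, 𝔛.lvU h j D = (𝔛.X j).basicOpen (prj h j U b) := fun j => by
    rw [← lvU_basicOpen j b, hD]
  letI := (lrs h n hle).toAlgebra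
  have : IsLocalization.Away (prj h n U b) (LSec h n D) :=
    (Groth.AdicLinTop.FormalLevels.isAffineOpen_lvU h hU n).isLocalization_of_eq_basicOpen _
      (homOfLE (FBlow.lvU_mono 𝔛 h n hle)) (hlv n)
  obtain ⟨m, β, hβ⟩ := IsLocalization.Away.surj (prj h n U b) (prj h n D (rs h hrV t))
  obtain ⟨β', rfl⟩ := prj_surjective hU n β
  have h0 : lrs h n hle (prj h n U (β' * g)) = 0 := by
    have h1 : prj h n D (rs h hrV (t * rs h e g)) = 0 := by rw [ht, map_zero, map_zero]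
    rw [map_mul, map_mul, rs_rs, prj_rs n hle g] at h1
    rw [map_mul, map_mul]
    change lrs h n hle (prj h n U β') * _ = 0
    rw [← show prj h n D (rs h hrV t) * lrs h n hle (prj h n U b) ^ m = lrs h n hle (prj h n U β') from hβ]
    rw [mul_right_comm, h1, zero_mul]
  obtain ⟨l, hl⟩ := IsLocalization.Away.exists_of_eq (S := LSec h n D) (prj h n U b)
    (h0.trans (map_zero (lrs h n hle)).symm)
  rw [mul_zero, ← map_pow, ← map_mul, ← RingHom.mem_ker, o.ker_prj hK hU,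
    show n + 1 = (i + 1) + k by omega, pow_add, Ideal.map_mul] at hl
  have h2 : b ^ l * (β' * g) ∈ (K ^ (i + 1)).map (o.φ h U) * Ideal.span {g} :=
    Ideal.mul_mono_right (hgen ▸ Ideal.map_mono hk) hl
  obtain ⟨c, hc, hcg⟩ := Ideal.mem_mul_span_singleton.1 h2
  have hbc : b ^ l * β' = c := by
    refine (mul_cancel_right_mem_nonZeroDivisors hg).1 ?_
    rw [hcg, mul_assoc]
  have h3 : prj h n D (rs h hle b ^ (m + l) * rs h hrV t - rs h hle (b ^ l * β')) = 0 := by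
    rw [map_sub, map_mul, map_pow, prj_rs, prj_rs n hle, map_mul, map_mul, map_pow, map_pow, sub_eq_zero]
    rw [← show prj h n D (rs h hrV t) * lrs h n hle (prj h n U b) ^ m = lrs h n hle (prj h n U β') from hβ]
    rw [pow_add]; ring
  have h4 := mul_eq_zero_of_le (show i ≤ n by omega) h3
  rw [map_sub, sub_eq_zero, map_mul, map_pow, prj_rs, prj_rs i hle, hbc,
    show prj h i U c = 0 by rwa [← RingHom.mem_ker, o.ker_prj hK hU], map_zero] at h4
  have hu : IsUnit (lrs h i hle (prj h i U b)) := by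
    have h5 := ((RingedSpace.isUnit_res_basicOpen _ (prj h i U b)).map
      ((𝔛.X i).presheaf.map (homOfLE (hlv i).le).op).hom)
    refine (congrArg IsUnit ?_).mp h5
    exact FBlow.sch_map_comp_apply ((𝔛.X i).basicOpen_le _) (hlv i).le _
  exact (hu.pow (m + l)).mul_right_eq_zero.1 h4

include o in
/-- The ideal is invertible if good affine opens cover. -/
theorem Over.isInvertible_of_good (hK : K.FG) (hk : K ^ k ≤ 𝔞)
    (hgood : ∀ x : 𝔛.X 0, ∃ U, x ∈ U ∧ o.Good h 𝔞 U) : (o.idealOf h 𝔞).IsInvertible := by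
  intro x
  obtain ⟨U, hxU, hU, g, hg, hgen⟩ := hgood x
  refine ⟨U, hxU, g, o.map_le_idealOf _ (hgen ▸ Ideal.mem_span_singleton_self g), fun V i =>
    ⟨fun t ht => Over.Good.mul_eq_zero o hK hk hU hg hgen i ht, fun s hs => ?_⟩⟩
  have hloc : ∀ y : V, ∃ (W : (𝔛.X 0).Opens) (j : W ≤ V) (t : Sec h W), y.1 ∈ W ∧
      rs h j s = t * rs h (j.trans i) g := by
    intro y
    obtain ⟨W, j, hyW, hW⟩ := o.mem_idealOf.1 hs y.1 y.2
    rw [← o.rs_φ h (j.trans i), ← Ideal.map_map, hgen, Ideal.map_span, Set.image_singleton,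
      Ideal.mem_span_singleton'] at hW
    obtain ⟨t, ht⟩ := hW
    exact ⟨W, j, t, hyW, ht.symm⟩
  choose W j t hyW ht using hloc
  obtain ⟨a, ha⟩ := exists_sec_glue W j (fun y hy => ⟨⟨y, hy⟩, hyW _⟩) t fun p q => by
    refine sub_eq_zero.1 (Over.Good.mul_eq_zero o hK hk hU hg hgen
      ((inf_le_left : W p ⊓ W q ≤ W p).trans ((j p).trans i)) ?_)
    rw [sub_mul, ← rs_rs ((j p).trans i) inf_le_left g, ← map_mul, ← ht, rs_rs,
      rs_rs ((j p).trans i) (inf_le_left : W p ⊓ W q ≤ W p) g, ← rs_rs ((j q).trans i) inf_le_right g,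
      ← map_mul, ← ht, rs_rs, sub_self]
  refine ⟨a, sec_ext_local fun y hy => ⟨W ⟨y, hy⟩, j _, hyW _, ?_⟩⟩
  show rs h _ s = rs h _ (a * rs h i g)
  rw [map_mul, ha, rs_rs, ht]

end Groth.FBlowLib
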