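import Groth.Agent.FBlowLib.Sec
import Groth.Agent.AdicLinTop.SysExamples
import Groth.Agent.AdicLinTop.SysPullback
import Groth.Agent.BlowUpBasics.SheafOf

/-!
# Formal systems adic over the formal spectrum of a ring
-/

set_option autoImplicit false
set_option backward.isDefEq.respectTransparency false
set_option backward.isDefEq.respectTransparency.types false

universe u

open CategoryTheory CategoryTheory.Limits AlgebraicGeometry TopologicalSpace Opposite
open Groth.BlowUpBasics (sheafOf phi)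

namespace Groth.FBlowLib

variable {A : Type u} [CommRing A]

theorem idealSpec_eq_sheafOf (J : Ideal A) : FSch.idealSpec A J = sheafOf J := by
  refine Scheme.IdealSheafData.ext_of_isAffine ?_
  rw [Groth.AdicLinTop.Thickenings.idealSpec_ideal_top, Groth.BlowUpBasics.sheafOf_ideal_top]

/-- A formal system adic over the formal spectrum of `A` for the ideal `K`. -/
structure Over (𝔛 : FSch.Sys.{u}) (K : Ideal A) where
  /-- the maps to the spectrum -/
  π : ∀ n, 𝔛.X n ⟶ Spec (CommRingCat.of A)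
  comm : ∀ n, 𝔛.ι n ≫ π (n + 1) = π n
  ker_ι : ∀ n, (𝔛.ι n).ker = (sheafOf (K ^ (n + 1))).comap (π (n + 1))

variable {K : Ideal A}

/-- A system of closed subschemes of `Spec A` cut out by the powers of `K`. -/
noncomputable def Over.ofClosed (𝔛 : FSch.Sys.{u}) (c : ∀ n, 𝔛.X n ⟶ Spec (CommRingCat.of A))
    (hc : ∀ n, IsClosedImmersion (c n)) (comm : ∀ n, 𝔛.ι n ≫ c (n + 1) = c n)
    (hker : ∀ n, (c n).ker = sheafOf (K ^ (n + 1))) : Over 𝔛 K where
  π := c
  comm := comm
  ker_ι n := by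
    have := hc n
    have := hc (n + 1)
    haveI : IsClosedImmersion (𝔛.ι n ≫ c (n + 1)) := by rw [comm]; infer_instance
    rw [Groth.AdicLinTop.Thickenings.ker_eq_comap_ker_comp (𝔛.ι n) (c (n + 1)), comm, hker]

/-- The completion of the spectrum. -/
noncomputable def Over.completion (A : Type u) [CommRing A] (K : Ideal A) :
    Over (FSch.completionAlong (Spec (CommRingCat.of A)) (FSch.idealSpec A K)) K :=
  Over.ofClosed _ (FSch.completionToX _ _)
    (fun n => inferInstanceAs (IsClosedImmersion (FSch.idealSpec A K ^ (n + 1)).subschemeι))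
    (FSch.completionToX_comm _ _)
    (fun n => by
      rw [← idealSpec_eq_sheafOf, Groth.AdicLinTop.Thickenings.idealSpec_pow]
      exact Scheme.IdealSheafData.ker_subschemeι _)

/-- The formal spectrum. -/
noncomputable def Over.spf (A : Type u) [CommRing A] (K : Ideal A) : Over (FSch.spf A K) K :=
  Over.ofClosed _ (FSch.spfToSpec A K) (Groth.AdicLinTop.Thickenings.isClosedImmersion_specQuot K)
    (FSch.spfToSpec_comm A K) (fun n => idealSpec_eq_sheafOf _)

/-- Composition with an adic morphism. -/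
noncomputable def Over.comp {𝔛 𝔜 : FSch.Sys.{u}} (o : Over 𝔛 K) (h : 𝔛.IsFormal) (f : 𝔜 ⟶ 𝔛)
    (hf : FSch.IsAdicHom f) : Over 𝔜 K where
  π n := (f : FSch.Hom 𝔜 𝔛).app n ≫ o.π n
  comm n := by
    rw [← Category.assoc, ← (f : FSch.Hom 𝔜 𝔛).comm n, Category.assoc, o.comm]
  ker_ι n := by
    have := (h n).1
    rw [Groth.AdicLinTop.Thickenings.ker_eq_comap_of_isPullback (hf n), o.ker_ι n,
      Scheme.IdealSheafData.comap_comp]

variable {𝔛 : FSch.Sys.{u}} {h : 𝔛.IsFormal} (o : Over 𝔛 K)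

variable (h) in
/-- The ring map to the sections over an open. -/
noncomputable def Over.φ (U : (𝔛.X 0).Opens) : A →+* Sec h U :=
  (rs h (le_top : U ≤ ⊤)).comp
    (((FSch.schSharp 𝔛 h o.π o.comm).hom.app (op ⊤)).hom.comp (Scheme.ΓSpecIso (CommRingCat.of A)).inv.hom)

variable (h) in
theorem Over.rs_φ {U V : (𝔛.X 0).Opens} (e : V ≤ U) : (rs h e).comp (o.φ h U) = o.φ h V :=
  RingHom.ext fun _ => rs_rs _ _ _

variable (h) in
theorem Over.prj_φ (n : ℕ) (U : (𝔛.X 0).Opens) :
    (prj h n U).comp (o.φ h U) = phi (o.π n) (𝔛.lvU h n U) := by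
  have key : (prj h n ⊤).comp (((FSch.schSharp 𝔛 h o.π o.comm).hom.app (op ⊤)).hom.comp
      (Scheme.ΓSpecIso (CommRingCat.of A)).inv.hom) = phi (o.π n) (𝔛.lvU h n ⊤) := by
    ext a
    exact congr(($(FSch.schSharp_proj 𝔛 h o.π o.comm n)).hom.app (op ⊤)
      ((Scheme.ΓSpecIso (CommRingCat.of A)).inv.hom a))
  ext a
  rw [Over.φ, RingHom.comp_apply, RingHom.comp_apply, prj_rs]
  rw [Groth.BlowUpBasics.phi_restrict (o.π n) (FBlow.lvU_mono 𝔛 h n (le_top : U ≤ ⊤))]
  exact congrArg (lrs h n le_top) (congr($key a))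

variable (h) in
theorem Over.trs_phi (n : ℕ) (U : (𝔛.X 0).Opens) :
    (trs h n U).comp (phi (o.π (n + 1)) (𝔛.lvU h (n + 1) U)) = phi (o.π n) (𝔛.lvU h n U) := by
  rw [← o.prj_φ h n U, ← o.prj_φ h (n + 1) U, ← RingHom.comp_assoc]
  exact congrArg (·.comp (o.φ h U)) (RingHom.ext fun a => trs_prj n U a :
    (trs h n U).comp (prj h (n + 1) U) = prj h n U)

variable (h) in
theorem Over.ker_trs {U : (𝔛.X 0).Opens} (hU : IsAffineOpen U) (n : ℕ) :
    RingHom.ker (trs h n U) = (K ^ (n + 1)).map (phi (o.π (n + 1)) (𝔛.lvU h (n + 1) U)) := by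
  have := (h n).1
  let W : (𝔛.X (n + 1)).affineOpens := ⟨_, Groth.AdicLinTop.FormalLevels.isAffineOpen_lvU h hU (n + 1)⟩
  show RingHom.ker ((𝔛.ι n).appLE W.1 _ _).hom = _
  rw [Groth.AdicLinTop.FormalLevels.ker_appLE_eq (𝔛.ι n) W _ _ (𝔛.lvU_succ h n U).le, o.ker_ι,
    Groth.BlowUpBasics.ideal_comap_sheafOf]

variable (h) in
theorem Over.pow_map_phi_eq_bot {U : (𝔛.X 0).Opens} (hU : IsAffineOpen U) (n : ℕ) :
    (K ^ (n + 1)).map (phi (o.π n) (𝔛.lvU h n U)) = ⊥ := by
  rw [← o.trs_phi h n U, ← Ideal.map_map, ← o.ker_trs h hU n]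
  exact Ideal.map_eq_bot_iff_le_ker _ |>.2 le_rfl

theorem mem_of_comap_map {B C : Type*} [CommRing B] [CommRing C] {f : B →+* C} (hf : Function.Surjective f)
    (J : Ideal B) (hJ : RingHom.ker f ≤ J) {x : B} (hx : f x ∈ J.map f) : x ∈ J := by
  have : x ∈ (J.map f).comap f := hx
  rwa [Ideal.comap_map_of_surjective' f hf, sup_eq_left.2 hJ] at this

variable (h) in
theorem Over.ker_toZero {U : (𝔛.X 0).Opens} (hU : IsAffineOpen U) (n : ℕ) :
    RingHom.ker (Groth.AdicLinTop.FormalLevels.toZero h n U).hom =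
      K.map (phi (o.π n) (𝔛.lvU h n U)) := by
  induction n with
  | zero =>
    have h0 := o.pow_map_phi_eq_bot h hU 0
    rw [pow_one] at h0
    rw [h0]
    refine (RingHom.injective_iff_ker_eq_bot _).1 ?_
    have : Groth.AdicLinTop.FormalLevels.toZero h 0 U = 𝟙 _ := by
      show (𝟙 (𝔛.X 0) : 𝔛.X 0 ⟶ 𝔛.X 0).appLE (𝔛.lvU h 0 U) (𝔛.lvU h 0 U) le_rfl = _
      rw [Scheme.Hom.appLE, Scheme.Hom.id_app, Category.id_comp]
      exact (𝔛.X 0).presheaf.map_id _
    rw [this]
    exact fun a b hab => hab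
  | succ n ih =>
    have e : (Groth.AdicLinTop.FormalLevels.toZero h n U).hom.comp (trs h n U) =
        (Groth.AdicLinTop.FormalLevels.toZero h (n + 1) U).hom := by
      refine congrArg CommRingCat.Hom.hom ?_
      exact Scheme.Hom.appLE_comp_appLE (𝔛.toX n) (𝔛.ι n) _ _ _ _ _
    have hs : Function.Surjective (trs h n U) := Groth.AdicLinTop.FormalLevels.levelMap_surjective h hU n
    rw [← e, ← RingHom.comap_ker, ih, ← o.trs_phi h n U, ← Ideal.map_map,
      Ideal.comap_map_of_surjective' _ hs, o.ker_trs h hU n]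
    exact sup_eq_left.2 (Ideal.map_mono (Ideal.pow_le_self n.succ_ne_zero))

include o in
/-- Over an affine open the structure sheaf of a formal system adic over `Spf A` is `K`-adically complete with
levels the quotients by the powers of `K`. -/
theorem Over.adic (hK : K.FG) {U : (𝔛.X 0).Opens} (hU : IsAffineOpen U) :
    IsAdicComplete (K.map (o.φ h U)) (Sec h U) ∧
      ∀ n, RingHom.ker (prj h n U) = (K ^ (n + 1)).map (o.φ h U) := by
  have hker0 := o.ker_toZero h hU
  have key := Groth.AdicLinTop.InvLim.ringLimit (fun n => LSec h n U) (fun n => trs h n U)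
    (Groth.AdicLinTop.FormalLevels.levelMap_surjective h hU)
    (fun n => (Groth.AdicLinTop.FormalLevels.toZero h n U).hom) ?_ ?_ ?_ ?_ (Sec h U) (fun n => prj h n U)
    (fun n => RingHom.ext fun a => trs_prj n U a)
    (fun a ha => sec_ext fun n => by rw [ha n, map_zero]) exists_sec
  · obtain ⟨hc, hp, hfg⟩ := key
    have hle : K.map (o.φ h U) ≤ RingHom.ker (prj h 0 U) := by
      rw [Ideal.map_le_iff_le_comap, RingHom.comap_ker, o.prj_φ h 0 U, ← Ideal.map_eq_bot_iff_le_ker]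
      simpa using o.pow_map_phi_eq_bot h hU 0
    have heq : RingHom.ker (prj h 0 U) = K.map (o.φ h U) := by
      refine le_antisymm (Submodule.le_of_le_smul_of_le_jacobson_bot hfg
        (IsAdicComplete.le_jacobson_bot (RingHom.ker (prj h 0 U))) fun b hb => ?_) hle
      have h1 : prj h 1 U b ∈ (K.map (o.φ h U)).map (prj h 1 U) := by
        rw [Ideal.map_map, o.prj_φ h 1 U, ← hker0 1, RingHom.mem_ker]
        have e : (Groth.AdicLinTop.FormalLevels.toZero h 0 U).hom (trs h 0 U (prj h 1 U b)) =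
            (Groth.AdicLinTop.FormalLevels.toZero h 1 U).hom (prj h 1 U b) :=
          congr($(Scheme.Hom.appLE_comp_appLE (𝔛.toX 0) (𝔛.ι 0) _ _ _ _ _) (prj h 1 U b))
        rw [← e, trs_prj, RingHom.mem_ker.1 hb, map_zero]
      obtain ⟨c, hc, hcb⟩ := (Ideal.mem_map_iff_of_surjective _ (hp 1).1).1 h1
      refine Submodule.mem_sup.2 ⟨c, hc, b - c, ?_, add_sub_cancel _ _⟩
      rw [smul_eq_mul, ← pow_two, ← (hp 1).2, RingHom.mem_ker, map_sub, hcb, sub_self]
    refine ⟨heq ▸ hc, fun n => ?_⟩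
    rw [(hp n).2, heq, Ideal.map_pow]
  · refine congrArg CommRingCat.Hom.hom (?_ : _ = 𝟙 Γ(𝔛.X 0, 𝔛.lvU h 0 U))
    show (𝟙 (𝔛.X 0) : 𝔛.X 0 ⟶ 𝔛.X 0).appLE (𝔛.lvU h 0 U) (𝔛.lvU h 0 U) le_rfl = _
    rw [Scheme.Hom.appLE, Scheme.Hom.id_app, Category.id_comp]
    exact (𝔛.X 0).presheaf.map_id _
  · intro n
    refine congrArg CommRingCat.Hom.hom ?_
    exact Scheme.Hom.appLE_comp_appLE (𝔛.toX n) (𝔛.ι n) _ _ _ _ _
  · intro n
    rw [o.ker_trs h hU n, hker0 (n + 1), Ideal.map_pow]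
  · rw [hker0 1]
    exact hK.map _

include o in
theorem Over.ker_prj (hK : K.FG) {U : (𝔛.X 0).Opens} (hU : IsAffineOpen U) (n : ℕ) :
    RingHom.ker (prj h n U) = (K ^ (n + 1)).map (o.φ h U) :=
  (o.adic hK hU).2 n

end Groth.FBlowLib
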