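import Groth.Agent.FBlowLib.Functorial
import Groth.Agent.BlowUpBasics.Global

/-!
# The local structure of a coherent open ideal and of its admissible formal blowing-up
-/

set_option autoImplicit false
set_option backward.isDefEq.respectTransparency false
set_option backward.isDefEq.respectTransparency.types false

universe u

open CategoryTheory CategoryTheory.Limits AlgebraicGeometry TopologicalSpace Opposite
open Groth.BlowUpBasics (sheafOf phi)

namespace Groth.FBlowLib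

theorem ker_SpecMap_of_surjective {A B : Type u} [CommRing A] [CommRing B] (φ : A →+* B)
    (hφ : Function.Surjective φ) : (Spec.map (CommRingCat.ofHom φ)).ker = sheafOf (RingHom.ker φ) := by
  let e := RingHom.quotientKerEquivOfSurjective hφ
  have hfac : φ = e.toRingHom.comp (Ideal.Quotient.mk (RingHom.ker φ)) := RingHom.ext fun a => by
    simp [e]
  have : IsIso (Spec.map (CommRingCat.ofHom e.toRingHom)) :=
    inferInstanceAs (IsIso (Spec.map e.toCommRingCatIso.hom))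
  conv_lhs => rw [hfac, CommRingCat.ofHom_comp, Spec.map_comp]
  rw [Scheme.Hom.ker_comp_of_isIso, ← idealSpec_eq_sheafOf]
  rfl

variable {𝔛 : FSch.Sys.{u}} {h : 𝔛.IsFormal} {A₀ : Type u} [CommRing A₀] {K₀ : Ideal A₀}

theorem isIso_toSpecΓ_lvU {U : (𝔛.X 0).Opens} (hU : IsAffineOpen U) (n : ℕ) :
    IsIso (𝔛.lvU h n U).toSpecΓ := by
  have : IsAffine (𝔛.lvU h n U : Scheme.{u}) := Groth.AdicLinTop.FormalLevels.isAffineOpen_lvU h hU n
  rw [Scheme.Opens.toSpecΓ]
  infer_instance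

theorem isClosedImmersion_jmap {U : (𝔛.X 0).Opens} (hU : IsAffineOpen U) (n : ℕ) :
    IsClosedImmersion (jmap h n U) := by
  have := isIso_toSpecΓ_lvU (h := h) hU n
  have : IsClosedImmersion (Spec.map (CommRingCat.ofHom (prj h n U))) :=
    IsClosedImmersion.spec_of_surjective _ (prj_surjective hU n)
  rw [jmap]
  infer_instance

/-- An affine open of a formal system over the formal spectrum of a ring is the formal spectrum of its sections. -/
noncomputable def Over.affine (o : Over 𝔛 K₀) (hK : K₀.FG) {U : (𝔛.X 0).Opens} (hU : IsAffineOpen U) :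
    Over (𝔛.restrictOpen h U) (K₀.map (o.φ h U)) :=
  Over.ofClosed _ (fun n => jmap h n U)
    (isClosedImmersion_jmap hU)
    (fun n => resLE_jmap hU n)
    (fun n => by
      have := isIso_toSpecΓ_lvU (h := h) hU n
      rw [← Ideal.map_pow, jmap, Scheme.Hom.ker_comp_of_isIso, ker_SpecMap_of_surjective _ (prj_surjective hU n),
        o.ker_prj hK hU n])

theorem Over.affine_isClosedImmersion (o : Over 𝔛 K₀) (hK : K₀.FG) {U : (𝔛.X 0).Opens} (hU : IsAffineOpen U)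
    (n : ℕ) : IsClosedImmersion ((o.affine (h := h) hK hU).π n) :=
  isClosedImmersion_jmap hU n

theorem Over.affine_ker (o : Over 𝔛 K₀) (hK : K₀.FG) {U : (𝔛.X 0).Opens} (hU : IsAffineOpen U) (n : ℕ) :
    ((o.affine (h := h) hK hU).π n).ker = sheafOf ((K₀.map (o.φ h U)) ^ (n + 1)) := by
  have := isIso_toSpecΓ_lvU (h := h) hU n
  show (jmap h n U).ker = _
  rw [← Ideal.map_pow, jmap, Scheme.Hom.ker_comp_of_isIso, ker_SpecMap_of_surjective _ (prj_surjective hU n),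
    o.ker_prj hK hU n]

theorem phi_jmap_top {U : (𝔛.X 0).Opens} (n : ℕ) :
    phi (jmap h n U) ⊤ = (𝔛.lvU h n U).topIso.inv.hom.comp (prj h n U) := by
  rw [jmap, Scheme.Opens.toSpecΓ, Category.assoc, ← Spec.map_comp]
  exact phi_toSpecΓ_comp _

/-- The sections of the affine formal subsystem are the restrictions of the sections. -/
theorem Over.affine_φ (o : Over 𝔛 K₀) (hK : K₀.FG) {U : (𝔛.X 0).Opens} (hU : IsAffineOpen U)
    (hU' : (𝔛.restrictOpen h U).IsFormal) {D : (𝔛.X 0).Opens} (hD : D ≤ U) :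
    (o.affine hK hU).φ hU' ((𝔛.restrictOpenι h U : FSch.Hom _ 𝔛).app 0 ⁻¹ᵁ D) =
      (shp hU' h (𝔛.restrictOpenι h U) D).comp (rs h hD) := by
  ext a
  refine sec_ext fun n => ?_
  rw [← RingHom.comp_apply (prj hU' n _), Over.prj_φ, RingHom.comp_apply, prj_shp, prj_rs]
  rw [Groth.BlowUpBasics.phi_restrict _ (le_top), RingHom.comp_apply]
  show _ = ((𝔛.lvU h n U).ι.appLE _ _ _).hom _
  have e : phi ((o.affine (h := h) hK hU).π n) ⊤ = (𝔛.lvU h n U).topIso.inv.hom.comp (prj h n U) := phi_jmap_top n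
  rw [e]
  show ((𝔛.lvU h n U).topIso.inv ≫ (𝔛.lvU h n U : Scheme.{u}).presheaf.map _).hom _ =
    ((𝔛.X n).presheaf.map _ ≫ (𝔛.lvU h n U).ι.appLE _ _ _).hom _
  refine congrArg (fun φ : Γ(𝔛.X n, 𝔛.lvU h n U) ⟶ _ => φ.hom _) ?_
  rw [Scheme.Hom.map_appLE]
  simp [Scheme.Hom.appLE, Scheme.Opens.topIso, Scheme.Opens.ι_app, ← Functor.map_comp]
  rfl

/-- A coherent open ideal over a small affine open comes from an ideal of its sections. -/
theorem exists_affine_centre (o : Over 𝔛 K₀) (hK : K₀.FG) {J : FBlow.IdealSh (𝔛.Osh h)}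
    (hJ : FBlow.IsCohOpen 𝔛 h J) {x : 𝔛.X 0} {O : (𝔛.X 0).Opens} (hx : x ∈ O) :
    ∃ (U : (𝔛.X 0).Opens) (_ : IsAffineOpen U) (n : ℕ) (𝔞 : Ideal (Sec h U)), x ∈ U ∧ U ≤ O ∧ 𝔞.FG ∧
      (K₀.map (o.φ h U)) ^ (n + 1) ≤ 𝔞 ∧
      ∀ (D : (𝔛.X 0).Opens) (e : D ≤ U), IsAffineOpen D → J.sect D = 𝔞.map (rs h e) := by
  obtain ⟨U₀, hxU₀, n, 𝒜, h𝒜, hJU⟩ := hJ x
  obtain ⟨_, ⟨U, hU, rfl⟩, hxU, hUle⟩ := (𝔛.X 0).isBasis_affineOpens.exists_subset_of_mem_open
    (show x ∈ O ⊓ U₀ from ⟨hx, hxU₀⟩) (O ⊓ U₀).isOpen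
  have hUO : U ≤ O := fun z hz => (hUle hz).1
  have hU0 : U ≤ U₀ := fun z hz => (hUle hz).2
  let W : (𝔛.X n).affineOpens := ⟨_, Groth.AdicLinTop.FormalLevels.isAffineOpen_lvU h hU n⟩
  let 𝔞 : Ideal (Sec h U) := Ideal.comap (prj h n U) (𝒜.ideal W)
  have hker : RingHom.ker (prj h n U) ≤ 𝔞 := fun s hs => by
    show prj h n U s ∈ 𝒜.ideal W
    rw [RingHom.mem_ker.1 hs]
    exact Ideal.zero_mem _
  refine ⟨U, hU, n, 𝔞, hxU, hUO, ?_, ?_, fun D e hD => ?_⟩
  · refine Submodule.fg_of_fg_map_of_fg_inf_ker (R := Sec h U) (Submodule.mkQ (RingHom.ker (prj h n U))) ?_ ?_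
    · obtain ⟨S, hS⟩ := h𝒜 W
      classical
      choose l hl using prj_surjective hU n
      refine ⟨S.image (fun s => Submodule.Quotient.mk (l s)), le_antisymm ?_ ?_⟩
      · rw [Submodule.span_le]
        intro z hz
        rw [Finset.coe_image] at hz
        obtain ⟨s, hs, rfl⟩ := hz
        refine ⟨l s, ?_, rfl⟩
        show prj h n U (l s) ∈ 𝒜.ideal W
        rw [hl, ← hS]
        exact Ideal.subset_span hs
      · rintro _ ⟨a, ha, rfl⟩
        have h1 : prj h n U a ∈ Ideal.map (prj h n U) (Ideal.span ((S.image l : Finset _) : Set (Sec h U))) := by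
          rw [Ideal.map_span, Finset.coe_image, ← Set.image_comp,
            show (prj h n U) ∘ l = id from funext hl, Set.image_id]
          exact hS ▸ ha
        obtain ⟨c, hc, hca⟩ := (Ideal.mem_map_iff_of_surjective _ (prj_surjective hU n)).1 h1
        have h2 : Submodule.mkQ (RingHom.ker (prj h n U)) a = Submodule.mkQ (RingHom.ker (prj h n U)) c :=
          (Submodule.Quotient.eq _).2 (by rw [RingHom.mem_ker, map_sub, hca, sub_self])
        rw [h2]
        have h3 : Submodule.mkQ (RingHom.ker (prj h n U)) c ∈ Submodule.map (Submodule.mkQ _) (Ideal.span _) :=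
          Submodule.mem_map_of_mem hc
        rwa [Ideal.span, Submodule.map_span, Finset.coe_image, ← Set.image_comp, Function.comp_def,
          ← Finset.coe_image] at h3
    · rw [Submodule.ker_mkQ, inf_eq_right.2 hker, o.ker_prj hK hU]
      exact (Ideal.FG.pow hK).map _
  · rw [← Ideal.map_pow, ← o.ker_prj hK hU]
    exact hker
  · rw [hJU D (e.trans hU0)]
    let WD : (𝔛.X n).affineOpens := ⟨_, Groth.AdicLinTop.FormalLevels.isAffineOpen_lvU h hD n⟩
    have h1 : (𝔞.map (rs h e)).map (prj h n D) = 𝒜.ideal WD := by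
      rw [Ideal.map_map, show (prj h n D).comp (rs h e) = (lrs h n e).comp (prj h n U) from
        RingHom.ext fun a => prj_rs n e a, ← Ideal.map_map, Ideal.map_comap_of_surjective _ (prj_surjective hU n)]
      exact 𝒜.map_ideal (U := WD) (V := W) (FBlow.lvU_mono 𝔛 h n e)
    have h2 : RingHom.ker (prj h n D) ≤ 𝔞.map (rs h e) := by
      rw [o.ker_prj hK hD, ← o.rs_φ h e, ← Ideal.map_map, ← o.ker_prj hK hU]
      exact Ideal.map_mono hker
    refine le_antisymm (fun s hs => mem_of_comap_map (prj_surjective hD n) _ h2 ?_) fun s hs => ?_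
    · rw [h1]
      exact mem_ideal_of_memData 𝒜 WD _ hs
    · show FBlow.MemData 𝒜 _ (prj h n D s)
      exact fun y hy => ⟨WD, le_rfl, hy, by
        erw [FBlow.IdealSh.map_id_apply (O := (𝔛.X n).sheaf) le_rfl]
        exact h1 ▸ Ideal.mem_map_of_mem _ hs⟩

/-- The restriction of the ideal to such an affine open. -/
theorem Over.idealMap_affine_eq (o : Over 𝔛 K₀) (hK : K₀.FG) {J : FBlow.IdealSh (𝔛.Osh h)}
    {U : (𝔛.X 0).Opens} (hU : IsAffineOpen U) (hU' : (𝔛.restrictOpen h U).IsFormal) {𝔞 : Ideal (Sec h U)}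
    (hJU : ∀ (D : (𝔛.X 0).Opens) (e : D ≤ U), IsAffineOpen D → J.sect D = 𝔞.map (rs h e)) :
    FBlow.idealMap (𝔛.restrictOpenι h U) hU' h J = (o.affine hK hU).idealOf hU' 𝔞 := by
  set oA := o.affine (h := h) hK hU
  have hpt : ∀ y : (𝔛.restrictOpen h U).X 0, ((𝔛.restrictOpenι h U : FSch.Hom _ 𝔛).app 0).base y ∈ U := fun y =>
    (range_restrictOpenι (h := h) U).le ⟨y, rfl⟩
  refine idealSh_eq_of_le (idealMap_le fun W a ha => ?_) (FBlow.IdealSh.gen_le ?_)
  · refine oA.mem_idealOf.2 fun y hy => ?_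
    obtain ⟨_, ⟨D, hD, rfl⟩, hyD, hDle⟩ := (𝔛.X 0).isBasis_affineOpens.exists_subset_of_mem_open
      (show _ ∈ W ⊓ U from ⟨hy, hpt y⟩) (W ⊓ U).isOpen
    have hDW : D ≤ W := fun z hz => (hDle hz).1
    have hDU : D ≤ U := fun z hz => (hDle hz).2
    refine ⟨(𝔛.restrictOpenι h U : FSch.Hom _ 𝔛).app 0 ⁻¹ᵁ D, Scheme.Hom.preimage_mono _ hDW, hyD, ?_⟩
    rw [← rs_shp _ hDW, o.affine_φ hK hU hU' hDU, ← Ideal.map_map, ← hJU D hDU hD]
    exact Ideal.mem_map_of_mem _ (J.map_mem hDW ha)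
  · rintro W _ ⟨a, ha, rfl⟩
    have hW : W ≤ (𝔛.restrictOpenι h U : FSch.Hom _ 𝔛).app 0 ⁻¹ᵁ U := fun y _ => hpt y
    rw [← oA.rs_φ hU' hW, o.affine_φ hK hU hU' (le_refl U), RingHom.comp_apply, RingHom.comp_apply, rs_self]
    refine mem_idealMap ?_ hW
    rw [hJU U le_rfl hU]
    exact rs_self le_rfl a ▸ Ideal.mem_map_of_mem _ ha

/-- The local model of an admissible formal blowing-up. -/
theorem exists_completion_blowUp {A : Type u} [CommRing A] {K : Ideal A} (hK : K.FG) {𝔞 : Ideal A} {k : ℕ}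
    (hk : K ^ k ≤ 𝔞) (hX : 𝔛.IsFormal) (o : Over 𝔛 K) (hc : ∀ n, IsClosedImmersion (o.π n))
    (hcker : ∀ n, (o.π n).ker = sheafOf (K ^ (n + 1))) :
    ∃ (P : Scheme.{u}) (q : P ⟶ Spec (CommRingCat.of A)) (_ : BlowUp.IsBlowUp q (sheafOf 𝔞))
      (𝔓 : FSch.Sys.{u}) (hP : 𝔓.IsFormal) (e : ∀ n, 𝔓.X n ⟶ P) (b : 𝔓 ⟶ 𝔛),
      (∀ n, IsClosedImmersion (e n)) ∧ (∀ n, 𝔓.ι n ≫ e (n + 1) = e n) ∧
      (∀ n, (e n).ker = (sheafOf (K ^ (n + 1))).comap q) ∧
      (∀ n, (b : FSch.Hom 𝔓 𝔛).app n ≫ o.π n = e n ≫ q) ∧ FBlow.IsAdmBlowUp b hP hX (o.idealOf hX 𝔞) := by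
  obtain ⟨P, q, hq⟩ := Groth.BlowUpBasics.exists_isBlowUp (Spec (CommRingCat.of A)) (sheafOf 𝔞)
  let 𝓘 := (sheafOf K).comap q
  have he : ∀ n, IsClosedImmersion (FSch.completionToX P 𝓘 n) := fun n =>
    inferInstanceAs (IsClosedImmersion (𝓘 ^ (n + 1)).subschemeι)
  have eker : ∀ n, (FSch.completionToX P 𝓘 n).ker = (sheafOf (K ^ (n + 1))).comap q := fun n => by
    rw [Groth.BlowUpBasics.sheafOf_pow, Groth.Divisors.comap_pow]
    exact Scheme.IdealSheafData.ker_subschemeι _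
  have hle : ∀ n, (o.π n).ker ≤ (FSch.completionToX P 𝓘 n ≫ q).ker := fun n => by
    have := he n
    rw [hcker, ← Scheme.IdealSheafData.map_bot, Scheme.IdealSheafData.le_map_iff_comap_le,
      Scheme.IdealSheafData.comap_comp, ← eker, Groth.AdicLinTop.Thickenings.ker_comap_self]
  have := hc
  let l : ∀ n, (FSch.completionAlong P 𝓘).X n ⟶ 𝔛.X n := fun n => IsClosedImmersion.lift (o.π n) _ (hle n)
  have hl : ∀ n, l n ≫ o.π n = FSch.completionToX P 𝓘 n ≫ q := fun n => IsClosedImmersion.lift_fac _ _ _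
  let b : FSch.completionAlong P 𝓘 ⟶ 𝔛 := ⟨l, fun n => by
    have := hc (n + 1)
    rw [← cancel_mono (o.π (n + 1)), Category.assoc, Category.assoc, o.comm, hl, hl, ← Category.assoc,
      FSch.completionToX_comm]⟩
  exact ⟨P, q, hq, _, Groth.AdicLinTop.Thickenings.isFormal_completionAlong P 𝓘, FSch.completionToX P 𝓘, b, he,
    FSch.completionToX_comm P 𝓘, eker, hl, isAdmBlowUp_of_isBlowUp hK hk hX o hc hcker hq _ _ he
      (FSch.completionToX_comm P 𝓘) eker b hl⟩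

end Groth.FBlowLib
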