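import Groth.Agent.FBlowLib.SecAdm
import Groth.Agent.FBlowLib.ChartAdm
import Groth.Agent.FBlowLib.ChartAlg
import Groth.Agent.FBlowLib.Chart
import Groth.Agent.FBlowLib.Local
import Groth.Agent.S11545

/-!
# Admissible charts of an admissible formal blowing-up of an admissible formal scheme
-/

set_option autoImplicit false
set_option backward.isDefEq.respectTransparency false
set_option backward.isDefEq.respectTransparency.types false
set_option linter.style.haveILetI false

universe u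

open CategoryTheory CategoryTheory.Limits AlgebraicGeometry TopologicalSpace Opposite
open Groth.BlowUpBasics (sheafOf phi)

namespace Groth.FBlowLib

variable {A : Type u} [CommRing A] {K : Ideal A} {𝔛 𝔓 : FSch.Sys.{u}}

/-- The morphism into a closed formal subsystem of a spectrum given on a closed formal subsystem over it. -/
theorem exists_hom_to_closed (o : Over 𝔛 K) (hc : ∀ n, IsClosedImmersion (o.π n))
    (hcker : ∀ n, (o.π n).ker = sheafOf (K ^ (n + 1))) {P : Scheme.{u}} (q : P ⟶ Spec (CommRingCat.of A))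
    (e : ∀ n, 𝔓.X n ⟶ P) (he : ∀ n, IsClosedImmersion (e n)) (ecomm : ∀ n, 𝔓.ι n ≫ e (n + 1) = e n)
    (eker : ∀ n, (e n).ker = (sheafOf (K ^ (n + 1))).comap q) :
    ∃ b : 𝔓 ⟶ 𝔛, ∀ n, (b : FSch.Hom 𝔓 𝔛).app n ≫ o.π n = e n ≫ q := by
  have hle : ∀ n, (o.π n).ker ≤ (e n ≫ q).ker := fun n => by
    have := he n
    rw [hcker, ← Scheme.IdealSheafData.map_bot, Scheme.IdealSheafData.le_map_iff_comap_le,
      Scheme.IdealSheafData.comap_comp, ← eker, Groth.AdicLinTop.Thickenings.ker_comap_self]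
  have := hc
  let l : ∀ n, 𝔓.X n ⟶ 𝔛.X n := fun n => IsClosedImmersion.lift (o.π n) _ (hle n)
  have hl : ∀ n, l n ≫ o.π n = e n ≫ q := fun n => IsClosedImmersion.lift_fac _ _ _
  exact ⟨⟨l, fun n => by
    have := hc (n + 1)
    rw [← cancel_mono (o.π (n + 1)), Category.assoc, Category.assoc, o.comm, hl, hl, reassoc_of% ecomm n]⟩, hl⟩

/-- The chart algebra and its universal property. -/
theorem exists_chartRing {R : Type u} [CommRing R] {I : Ideal R} (hR : AdicRing.IsBase R I) [Algebra R A]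
    (hA : AdicRing.Admissible R I A) (k : ℕ) {r : ℕ} (f : Fin (r + 1) → A)
    (hopen : (I ^ k).map (algebraMap R A) ≤ Ideal.span (Set.range f)) (i : Fin (r + 1)) :
    ∃ (C : Type u) (_ : CommRing C) (_ : Algebra R C) (α : A →+* C),
      α.comp (algebraMap R A) = algebraMap R C ∧ AdicRing.Admissible R I C ∧ α (f i) ∈ nonZeroDivisors C ∧
      (Ideal.span (Set.range f)).map α = Ideal.span {α (f i)} ∧
      ∀ (B : Type u) [CommRing B] (φ : A →+* B), IsAdicComplete ((I.map (algebraMap R A)).map φ) B →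
        φ (f i) ∈ nonZeroDivisors B → (Ideal.span (Set.range f)).map φ = Ideal.span {φ (f i)} →
        ∃! χ : C →+* B, χ.comp α = φ := by
  obtain ⟨hnzd, hdvd⟩ := chartAdm_gen I f i
  refine ⟨AdicRing.chartAdm I f i, inferInstance, inferInstance, algebraMap A (AdicRing.chartAdm I f i),
    (IsScalarTower.algebraMap_eq R A (AdicRing.chartAdm I f i)).symm, admissible_chartAdm f i hR hA k hopen,
    hnzd, ?_, ?_⟩
  · refine le_antisymm ?_ (Ideal.span_le.2 (Set.singleton_subset_iff.2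
      (Ideal.mem_map_of_mem _ (Ideal.subset_span (Set.mem_range_self i)))))
    rw [Ideal.map_le_iff_le_comap, Ideal.span_le]
    rintro _ ⟨j, rfl⟩
    rw [SetLike.mem_coe, Ideal.mem_comap, Ideal.mem_span_singleton]
    exact hdvd j
  · intro B _ φ hcomp h1 h2
    letI : Algebra R B := (φ.comp (algebraMap R A)).toAlgebra
    haveI : IsAdicComplete (I.map (algebraMap R B)) B := by
      rw [RingHom.algebraMap_toAlgebra, ← Ideal.map_map]
      exact hcomp
    let φR : A →ₐ[R] B := { φ with commutes' := fun _ => rfl }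
    obtain ⟨ψ, hψ, huniq⟩ := Groth.Agent.S11545.result R I hR A hA r f k hopen i B φR h1 h2
    refine ⟨ψ.toRingHom, congrArg AlgHom.toRingHom hψ, fun χ hχ => ?_⟩
    have hc : ∀ x, χ (algebraMap R (AdicRing.chartAdm I f i) x) = φ (algebraMap R A x) := fun x => by
      rw [IsScalarTower.algebraMap_apply R A (AdicRing.chartAdm I f i), ← hχ, RingHom.comp_apply]
    let χR : AdicRing.chartAdm I f i →ₐ[R] B := { χ with commutes' := hc }
    exact congrArg AlgHom.toRingHom (huniq χR (AlgHom.coe_ringHom_injective hχ))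

set_option maxHeartbeats 1000000 in
/-- Every point of an admissible formal blowing-up lies in a chart which is the formal spectrum of an
admissible algebra. -/
theorem exists_admissible_chart {R : Type u} [CommRing R] {I : Ideal R} (hR : AdicRing.IsBase R I)
    {h : 𝔛.IsFormal} (p : 𝔛 ⟶ FSch.spf R I) (hp : FSch.IsAdicHom p)
    (hfp : ∀ n, LocallyOfFinitePresentation ((p : FSch.Hom 𝔛 (FSch.spf R I)).app n))
    (htf : ∀ (U : (𝔛.X 0).Opens) (s : (𝔛.Osh h).obj.obj (Opposite.op U)),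
      (∀ a ∈ (FBlow.IdealSh.ker (𝔛.OshProj h 0)).sect U, a * s = 0) → s = 0)
    {J : FBlow.IdealSh (𝔛.Osh h)} (hJ : FBlow.IsCohOpen 𝔛 h J)
    {𝔛' : FSch.Sys.{u}} {h' : 𝔛'.IsFormal} {b : 𝔛' ⟶ 𝔛} (hb : FBlow.IsAdmBlowUp b h' h J) (x' : 𝔛'.X 0) :
    ∃ (C : Type u) (_ : CommRing C) (_ : Algebra R C), AdicRing.Admissible R I C ∧
      ∃ u : FSch.spf C (I.map (algebraMap R C)) ⟶ 𝔛',
        (∀ n, IsOpenImmersion ((u : FSch.Hom _ 𝔛').app n)) ∧
        x' ∈ Set.range ((u : FSch.Hom _ 𝔛').app 0).base ∧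
        ∀ n, (u : FSch.Hom _ 𝔛').app n ≫ ((b ≫ p : 𝔛' ⟶ FSch.spf R I) : FSch.Hom _ _).app n ≫ FSch.spfToSpec R I n =
          FSch.spfToSpec C _ n ≫ Spec.map (CommRingCat.ofHom (algebraMap R C)) := by
  have hI := Groth.TopFinType.fg_of_isBase hR
  set o := baseOver p hp
  obtain ⟨U, hU, n₁, 𝔞, hxU, -, h𝔞, hpow, hJU⟩ := exists_affine_centre o hI hJ
    (O := ⊤) (x := ((b : FSch.Hom 𝔛' 𝔛).app 0).base x') trivial
  have hA : letI := (o.φ h U).toAlgebra; AdicRing.Admissible R I (Sec h U) := admissible_sec hR p hp hfp htf hU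
  letI : Algebra R (Sec h U) := (o.φ h U).toAlgebra
  obtain ⟨r, g, hg⟩ := Submodule.fg_iff_exists_fin_generating_family.1 h𝔞
  let f : Fin (r + 1) → Sec h U := Fin.cons 0 g
  have hf : Ideal.span (Set.range f) = 𝔞 := by
    rw [← hg, Fin.range_cons, Ideal.span_insert_zero]
  subst hf
  have hU' := isFormal_restrictOpen' h U
  set oA := o.affine (h := h) hI hU
  have hKfg : (I.map (o.φ h U)).FG := hI.map _
  let V : (𝔛'.X 0).Opens := (b : FSch.Hom 𝔛' 𝔛).app 0 ⁻¹ᵁ U
  have hbU := isAdmBlowUp_restrictOpen hb U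
  rw [o.idealMap_affine_eq hI hU hU' hJU] at hbU
  have hinv := hbU.2.1
  rw [oA.idealMap_idealOf _ hbU.1] at hinv
  obtain ⟨xV, hxV⟩ := (range_restrictOpenι (h := h') V).ge (show x' ∈ V from hxU)
  obtain ⟨i, hi⟩ := (oA.comp hU' _ hbU.1).exists_goodAt f hKfg hpow hinv xV
  obtain ⟨C, iC, iRC, α, hα, hC, hnzd, hgen, huniv⟩ := exists_chartRing hR hA (n₁ + 1) f
    (by rw [Ideal.map_pow]; exact hpow) i
  have hKC : I.map (algebraMap R C) = (I.map (o.φ h U)).map α := by
    rw [Ideal.map_map, ← hα]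
    rfl
  have eker : ∀ n, (FSch.spfToSpec C (I.map (algebraMap R C)) n).ker =
      (sheafOf ((I.map (o.φ h U)) ^ (n + 1))).comap (Spec.map (CommRingCat.ofHom α)) :=
    fun n => by
      rw [Groth.BlowUpBasics.comap_sheafOf_Spec, Ideal.map_pow, ← hKC, ← idealSpec_eq_sheafOf]
      rfl
  obtain ⟨bC, hbC⟩ := exists_hom_to_closed oA (o.affine_isClosedImmersion hI hU) (o.affine_ker hI hU)
    (Spec.map (CommRingCat.ofHom α)) (FSch.spfToSpec C (I.map (algebraMap R C)))
    (Groth.AdicLinTop.Thickenings.isClosedImmersion_specQuot _) (FSch.spfToSpec_comm _ _) eker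
  obtain ⟨u, hu, hopenimm, hrange⟩ := exists_chart oA hKfg hpow (o.affine_isClosedImmersion hI hU)
    (o.affine_ker hI hU) (isFormal_restrictOpen' h' V) _ hbU (Ideal.subset_span (Set.mem_range_self i))
    α hnzd hgen huniv (Groth.AdicLinTop.Thickenings.isFormal_spf _)
    (FSch.spfToSpec C (I.map (algebraMap R C))) (Groth.AdicLinTop.Thickenings.isClosedImmersion_specQuot _)
    (FSch.spfToSpec_comm _ _) eker bC hbC
  refine ⟨C, iC, iRC, hC, u ≫ 𝔛'.restrictOpenι h' V, fun n => ?_, ?_, fun n => ?_⟩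
  · have := hopenimm n
    have := isOpenImmersion_restrictOpenι (h := h') V n
    exact inferInstanceAs (IsOpenImmersion (_ ≫ _))
  · obtain ⟨z, hz⟩ := hrange.ge hi
    exact ⟨z, by rw [← hxV, ← hz]; rfl⟩
  · have hfac : (u ≫ 𝔛'.restrictOpenι h' V) ≫ b ≫ p = bC ≫ 𝔛.restrictOpenι h U ≫ p := by
      rw [← hu, Category.assoc, Category.assoc, reassoc_of% FSch.Hom.restrictOpen_ι b h' h U]
    have key := congrArg (fun φ => (φ : FSch.Hom _ (FSch.spf R I)).app n ≫ FSch.spfToSpec R I n) hfac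
    refine Eq.trans (by simp) (key.trans ?_)
    show ((bC : FSch.Hom _ _).app n ≫ (𝔛.lvU h n U).ι ≫ (p : FSch.Hom _ _).app n) ≫ FSch.spfToSpec R I n = _
    rw [Category.assoc, Category.assoc]
    show (bC : FSch.Hom _ _).app n ≫ (𝔛.lvU h n U).ι ≫ o.π n = _
    rw [← o.jmap_comp hU n]
    show (bC : FSch.Hom _ _).app n ≫ oA.π n ≫ _ = _
    rw [reassoc_of% hbC n, ← Spec.map_comp, ← CommRingCat.ofHom_comp, ← hα]
    rfl

end Groth.FBlowLib
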