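import Groth.Agent.FBlowLib.CohOpen
import Groth.Agent.FBlowLib.SecAdm

/-!
# Products and invertibility of ideal sheaves on formal systems
-/

set_option autoImplicit false
set_option backward.isDefEq.respectTransparency false
set_option backward.isDefEq.respectTransparency.types false

universe u

open CategoryTheory CategoryTheory.Limits AlgebraicGeometry TopologicalSpace Opposite

namespace Groth.FBlowLib

variable {𝔛 𝔜 : FSch.Sys.{u}} {h : 𝔛.IsFormal} {hY : 𝔜.IsFormal}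

/-- To be invertible it suffices that sections are locally multiples of a nonzerodivisor. -/
theorem isInvertible_of_local {J : FBlow.IdealSh (𝔛.Osh h)}
    (H : ∀ x : 𝔛.X 0, ∃ (U : (𝔛.X 0).Opens), x ∈ U ∧ ∃ g ∈ J.sect U, ∀ (V : (𝔛.X 0).Opens) (i : V ≤ U),
      (∀ t : Sec h V, t * rs h i g = 0 → t = 0) ∧
      ∀ s ∈ J.sect V, ∀ y ∈ V, ∃ (W : (𝔛.X 0).Opens) (e : W ≤ V), y ∈ W ∧ ∃ t, rs h e s = t * rs h (e.trans i) g) :
    J.IsInvertible := by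
  intro x
  obtain ⟨U, hxU, g, hg, hgen⟩ := H x
  refine ⟨U, hxU, g, hg, fun V i => ⟨(hgen V i).1, fun s hs => ?_⟩⟩
  choose W e hyW t ht using (hgen V i).2 s hs
  obtain ⟨a, ha⟩ := exists_sec_glue (h := h) (fun y : V => W y.1 y.2) (fun y => e y.1 y.2)
    (fun y hy => ⟨⟨y, hy⟩, hyW y hy⟩) (fun y => t y.1 y.2) fun p q => by
    refine sub_eq_zero.1 ((hgen _ ((inf_le_left.trans (e p.1 p.2)).trans i)).1 _ ?_)
    show (_ - _) * rs h _ g = 0
    rw [sub_mul, sub_eq_zero, ← rs_rs ((e p.1 p.2).trans i) inf_le_left g, ← map_mul, ← ht]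
    conv_rhs => rw [rs_rs ((e p.1 p.2).trans i) inf_le_left g, ← rs_rs ((e q.1 q.2).trans i) inf_le_right g,
      ← map_mul, ← ht]
    rw [rs_rs, rs_rs]
  refine ⟨a, sec_ext_local fun y hy => ⟨W y hy, e y hy, hyW y hy, ?_⟩⟩
  rw [map_mul, ha ⟨y, hy⟩, ht y hy]
  exact congrArg _ (rs_rs i (e y hy) g).symm

theorem mem_mul {J K : FBlow.IdealSh (𝔛.Osh h)} {W : (𝔛.X 0).Opens} {a b : Sec h W} (ha : a ∈ J.sect W)
    (hb : b ∈ K.sect W) : a * b ∈ (FBlow.IdealSh.mul J K).sect W :=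
  FBlow.IdealSh.subset_gen _ W ⟨a, ha, b, hb, rfl⟩

theorem isInvertible_mul {J K : FBlow.IdealSh (𝔛.Osh h)} (hJ : J.IsInvertible) (hK : K.IsInvertible) :
    (FBlow.IdealSh.mul J K).IsInvertible := by
  refine isInvertible_of_local fun x => ?_
  obtain ⟨U, hxU, g, hg, hgen⟩ := hJ x
  obtain ⟨U', hxU', g', hg', hgen'⟩ := hK x
  refine ⟨U ⊓ U', ⟨hxU, hxU'⟩, rs h inf_le_left g * rs h inf_le_right g', mem_mul (J.map_mem inf_le_left hg)
    (K.map_mem inf_le_right hg'), fun V i => ⟨fun t ht => ?_, fun s hs y hy => ?_⟩⟩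
  · rw [map_mul, rs_rs, rs_rs, ← mul_assoc] at ht
    exact (hgen V _).1 t ((hgen' V _).1 _ ht)
  · obtain ⟨W, e, hyW, hW⟩ := (FBlow.IdealSh.mem_gen_iff _ V s).1 hs y hy
    refine ⟨W, e, hyW, ?_⟩
    refine Ideal.mem_span_singleton'.1 (Ideal.span_le.2 ?_ hW) |>.imp fun t ht => ht.symm
    rintro _ ⟨W₁, j, _, ⟨a, ha, b, hb, rfl⟩, rfl⟩
    obtain ⟨t, ht⟩ := (hgen W ((e.trans i).trans inf_le_left)).2 _ (J.map_mem j ha)
    obtain ⟨t', ht'⟩ := (hgen' W ((e.trans i).trans inf_le_right)).2 _ (K.map_mem j hb)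
    refine Ideal.mem_span_singleton'.2 ⟨t * t', ?_⟩
    show t * t' * rs h (e.trans i) _ = rs h j (a * b)
    rw [map_mul, map_mul, rs_rs, rs_rs, show rs h j a = t * rs h _ g from ht,
      show rs h j b = t' * rs h _ g' from ht']
    ring

theorem exists_mem_basicOpen_of_sum_eq_one {V : (𝔛.X 0).Opens} {ι : Type*} (S : Finset ι) (c : ι → Sec h V)
    (hc : ∑ l ∈ S, c l = 1) {y : 𝔛.X 0} (hy : y ∈ V) :
    ∃ l ∈ S, y ∈ (𝔛.X 0).basicOpen (prj h 0 V (c l)) := by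
  by_contra hno
  push Not at hno
  have hy0 : y ∈ 𝔛.lvU h 0 V := by
    rw [show 𝔛.lvU h 0 V = V from Groth.AdicLinTop.FormalLevels.toX_preimage_lvU h 0 V]
    exact hy
  have hmem : ∀ l ∈ S, (𝔛.X 0).presheaf.germ _ y hy0 (prj h 0 V (c l)) ∈
      IsLocalRing.maximalIdeal ((𝔛.X 0).presheaf.stalk y) := fun l hl hu => hno l hl
    ((Scheme.mem_basicOpen _ _ _ hy0).2 hu)
  have h1 := Ideal.sum_mem _ hmem
  rw [← map_sum, ← map_sum, hc, map_one, map_one] at h1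
  exact (IsLocalRing.maximalIdeal.isMaximal _).ne_top ((Ideal.eq_top_iff_one _).2 h1)

theorem mul_aux {B : Type*} [CommRing B] {s t u a b d g : B} (h₁ : s * b = t * g) (h₂ : a * b = d * g)
    (h₃ : u * d = 1) : (s - t * u * a) * (a * b) = 0 := by
  linear_combination a * h₁ - a * t * u * h₂ - a * t * g * h₃

set_option maxHeartbeats 800000 in
/-- If a product is invertible, so are the factors. -/
theorem isInvertible_left_of_mul {J K : FBlow.IdealSh (𝔛.Osh h)} (hJK : (FBlow.IdealSh.mul J K).IsInvertible) :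
    J.IsInvertible := by
  intro x
  obtain ⟨U, hxU, g, hg, hgen⟩ := hJK x
  obtain ⟨V, i, hxV, hV⟩ := (FBlow.IdealSh.mem_gen_iff _ U g).1 hg x hxU
  obtain ⟨c, hc⟩ := Finsupp.mem_span_range_iff_exists_finsupp.1
    (show rs h i g ∈ Ideal.span (Set.range ((↑) : {t : Sec h V // ∃ a ∈ J.sect V, ∃ b ∈ K.sect V, t = a * b} → _)) from
      Ideal.span_mono (fun t ht => by
        obtain ⟨W, j, _, ⟨a, ha, b, hb, rfl⟩, rfl⟩ := ht
        exact ⟨⟨_, _, J.map_mem j ha, _, K.map_mem j hb, map_mul _ a b⟩, rfl⟩) hV)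
  have hmul : ∀ l : {t : Sec h V // ∃ a ∈ J.sect V, ∃ b ∈ K.sect V, t = a * b}, ∃ d, l.1 = d * rs h i g :=
    fun ⟨_, a, ha, b, hb, ht⟩ => (hgen V i).2 _ (ht ▸ mem_mul ha hb)
  choose d hd using hmul
  have hsum : ∑ l ∈ c.support, c l * d l = 1 := by
    refine sub_eq_zero.1 ((hgen V i).1 _ ?_)
    rw [sub_mul, one_mul, Finset.sum_mul, sub_eq_zero]
    refine Eq.trans ?_ hc
    refine Finset.sum_congr rfl fun l _ => ?_
    show c l * d l * rs h i g = c l * l.1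
    rw [mul_assoc, ← hd]
  obtain ⟨l, -, hxl⟩ := exists_mem_basicOpen_of_sum_eq_one c.support _ hsum hxV
  set D : (𝔛.X 0).Opens := (𝔛.X 0).basicOpen (prj h 0 V (c l * d l)) ⊓ V
  obtain ⟨a, ha, b, hb, hab⟩ := l.2
  have hu : IsUnit (rs h (inf_le_right : D ≤ V) (d l)) :=
    (IsUnit.mul_iff.1 (map_mul (rs h (inf_le_right : D ≤ V)) _ _ ▸
      isUnit_rs_of_le_basicOpen (inf_le_right : D ≤ V) (c l * d l) inf_le_left)).2
  refine ⟨D, ⟨hxl, hxV⟩, rs h inf_le_right a, J.map_mem inf_le_right ha, fun W e => ?_⟩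
  have key : rs h e (rs h inf_le_right a) * rs h e (rs h inf_le_right b) =
      rs h e (rs h inf_le_right (d l)) * rs h ((e.trans inf_le_right).trans i) g := by
    rw [← map_mul, ← map_mul, ← hab, hd l, map_mul, map_mul, rs_rs, rs_rs, rs_rs]
  have hnzd : ∀ t : Sec h W, t * (rs h e (rs h inf_le_right a) * rs h e (rs h inf_le_right b)) = 0 → t = 0 :=
    fun t ht => by
      rw [key, ← mul_assoc] at ht
      exact ((hu.map (rs h e)).mul_left_eq_zero).1 ((hgen W _).1 _ ht)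
  refine ⟨fun t (ht : t * rs h e (rs h inf_le_right a) = 0) => hnzd t (by rw [← mul_assoc, ht, zero_mul]),
    fun s hs => ?_⟩
  obtain ⟨t, ht⟩ := (hgen W ((e.trans inf_le_right).trans i)).2 _
    (mem_mul hs (K.map_mem e (K.map_mem (inf_le_right : D ≤ V) hb)))
  obtain ⟨u, hu'⟩ := (hu.map (rs h e)).exists_left_inv
  have ht2 : s * rs h e (rs h inf_le_right b) = t * rs h ((e.trans inf_le_right).trans i) g := ht
  refine ⟨t * u, sub_eq_zero.1 (hnzd _ ?_)⟩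
  show (s - t * u * rs h e (rs h inf_le_right a)) * (rs h e (rs h inf_le_right a) * rs h e (rs h inf_le_right b)) = 0
  exact mul_aux ht2 key hu'

theorem mul_comm' (J K : FBlow.IdealSh (𝔛.Osh h)) : FBlow.IdealSh.mul J K = FBlow.IdealSh.mul K J :=
  idealSh_eq_of_le
    (FBlow.IdealSh.gen_le (by rintro W _ ⟨a, ha, b, hb, rfl⟩; rw [mul_comm]; exact mem_mul hb ha))
    (FBlow.IdealSh.gen_le (by rintro W _ ⟨a, ha, b, hb, rfl⟩; rw [mul_comm]; exact mem_mul hb ha))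

/-- Inverse image commutes with products. -/
theorem idealMap_mul (f : 𝔜 ⟶ 𝔛) (J K : FBlow.IdealSh (𝔛.Osh h)) :
    FBlow.idealMap f hY h (FBlow.IdealSh.mul J K) =
      FBlow.IdealSh.mul (FBlow.idealMap f hY h J) (FBlow.idealMap f hY h K) := by
  refine idealSh_eq_of_le (idealMap_le fun W s hs => ?_) (FBlow.IdealSh.gen_le ?_)
  · refine (FBlow.IdealSh.mul _ _).mem_of_local fun y hy => ?_
    obtain ⟨V, i, hyV, hV⟩ := (FBlow.IdealSh.mem_gen_iff _ W s).1 hs _ hy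
    refine ⟨_, Scheme.Hom.preimage_mono _ i, hyV, ?_⟩
    refine (rs_shp f i s).symm ▸ ?_
    have hV' := Ideal.mem_map_of_mem (shp hY h f V) hV
    rw [Ideal.map_span] at hV'
    refine Ideal.span_le.2 ?_ hV'
    rintro _ ⟨_, ⟨W₁, j, _, ⟨a, ha, b, hb, rfl⟩, rfl⟩, rfl⟩
    show shp hY h f V (rs h j (a * b)) ∈ (FBlow.IdealSh.mul _ _).sect _
    rw [rs_shp, map_mul, map_mul]
    exact mem_mul (mem_idealMap ha _) (mem_idealMap hb _)
  · rintro V _ ⟨a, ha, b, hb, rfl⟩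
    refine (FBlow.idealMap f hY h _).mem_of_local fun y hy => ?_
    obtain ⟨V₁, i₁, hy₁, h₁⟩ := (FBlow.IdealSh.mem_gen_iff _ V a).1 ha y hy
    obtain ⟨V₂, i₂, hy₂, h₂⟩ := (FBlow.IdealSh.mem_gen_iff _ V b).1 hb y hy
    refine ⟨V₁ ⊓ V₂, inf_le_left.trans i₁, ⟨hy₁, hy₂⟩, ?_⟩
    show rs hY (inf_le_left.trans i₁) (a * b) ∈ _
    rw [map_mul]
    have h₁' := FBlow.IdealSh.map_span_seed (inf_le_left : V₁ ⊓ V₂ ≤ V₁) h₁
    have h₂' := FBlow.IdealSh.map_span_seed (inf_le_right : V₁ ⊓ V₂ ≤ V₂) h₂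
    rw [FBlow.IdealSh.map_comp_apply] at h₁' h₂'
    have h12 := Ideal.mul_mem_mul h₁' h₂'
    rw [Ideal.span_mul_span'] at h12
    refine Ideal.span_le.2 ?_ h12
    rintro _ ⟨_, ⟨W₁, j₁, _, ⟨W₂, j₂, a', ha', rfl⟩, rfl⟩, _, ⟨W₁', j₁', _, ⟨W₂', j₂', b', hb', rfl⟩, rfl⟩, rfl⟩
    show rs hY j₁ (rs hY j₂ (shp hY h f W₂ a')) * rs hY j₁' (rs hY j₂' (shp hY h f W₂' b')) ∈ _
    have hle : V₁ ⊓ V₂ ≤ (f : FSch.Hom 𝔜 𝔛).app 0 ⁻¹ᵁ (W₂ ⊓ W₂') := fun z hz =>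
      ⟨(j₁.trans j₂) hz, (j₁'.trans j₂') hz⟩
    have hm := mem_idealMap (hY := hY) (f := f) (mem_mul (J.map_mem (inf_le_left : W₂ ⊓ W₂' ≤ W₂) ha')
      (K.map_mem (inf_le_right : W₂ ⊓ W₂' ≤ W₂') hb')) hle
    rw [rs_rs, rs_rs]
    rw [map_mul, map_mul] at hm
    change rs hY hle (shp hY h f _ (rs h _ a')) * rs hY hle (shp hY h f _ (rs h _ b')) ∈ _ at hm
    rwa [rs_shp, rs_shp, rs_rs, rs_rs] at hm

variable {R : Type u} [CommRing R] {I : Ideal R}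

theorem eq_zero_of_forall_φ (hI : I.FG) (o : Over 𝔛 I)
    (htf : ∀ (U : (𝔛.X 0).Opens) (s : (𝔛.Osh h).obj.obj (Opposite.op U)),
      (∀ a ∈ (FBlow.IdealSh.ker (𝔛.OshProj h 0)).sect U, a * s = 0) → s = 0)
    (n : ℕ) {U : (𝔛.X 0).Opens} (s : Sec h U) (hs : ∀ a ∈ I ^ n, o.φ h U a * s = 0) : s = 0 := by
  refine sec_ext_local fun x hx => ?_
  obtain ⟨_, ⟨D, hD, rfl⟩, hxD, hle⟩ := (𝔛.X 0).isBasis_affineOpens.exists_subset_of_mem_open hx U.isOpen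
  refine ⟨D, hle, hxD, ?_⟩
  have hno := noPowTorsion_sec hI o htf hD
  let := (o.φ h D).toAlgebra
  rw [map_zero]
  refine hno _ n fun a ha => ?_
  show o.φ h D a * rs h hle s = 0
  rw [← o.rs_φ h hle, RingHom.comp_apply, ← map_mul, hs a ha, map_zero]

/-- On a target without torsion, the inverse image of an open invertible ideal is invertible. -/
theorem isInvertible_idealMap_of_torsionFree (hI : I.FG) (o : Over 𝔛 I) (f : 𝔜 ⟶ 𝔛) (hf : FSch.IsAdicHom f)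
    (htf : ∀ (U : (𝔜.X 0).Opens) (s : (𝔜.Osh hY).obj.obj (Opposite.op U)),
      (∀ a ∈ (FBlow.IdealSh.ker (𝔜.OshProj hY 0)).sect U, a * s = 0) → s = 0)
    {J : FBlow.IdealSh (𝔛.Osh h)} (hJ : FBlow.IsCohOpen 𝔛 h J) (hinv : J.IsInvertible) :
    (FBlow.idealMap f hY h J).IsInvertible := by
  refine isInvertible_of_local fun y => ?_
  set j := (f : FSch.Hom 𝔜 𝔛).app 0
  obtain ⟨U, hyU, g, hg, hgen⟩ := hinv (j.base y)
  obtain ⟨U₀, hyU₀, n, 𝒜, -, hJU⟩ := hJ (j.base y)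
  obtain ⟨_, ⟨D, hD, rfl⟩, hyD, hle⟩ := (𝔛.X 0).isBasis_affineOpens.exists_subset_of_mem_open
    (show j.base y ∈ U ⊓ U₀ from ⟨hyU, hyU₀⟩) (U ⊓ U₀).isOpen
  have hDU : D ≤ U := fun z hz => (hle hz).1
  have hopen : ∀ a ∈ I ^ (n + 1), o.φ h D a ∈ J.sect D := fun a ha => by
    rw [hJU D (fun z hz => (hle hz).2), FBlow.mem_ofLevel_iff]
    show FBlow.MemData 𝒜 _ (prj h n D (o.φ h D a))
    rw [show prj h n D (o.φ h D a) = 0 from RingHom.mem_ker.1 (o.ker_prj hI hD n ▸ Ideal.mem_map_of_mem _ ha)]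
    exact FBlow.memData_zero _ _
  refine ⟨j ⁻¹ᵁ D, hyD, shp hY h f D (rs h hDU g), ?_, fun V i => ⟨fun t ht => ?_, fun s hs z hz => ?_⟩⟩
  · have h1 := mem_idealMap (hY := hY) (f := f) (J.map_mem hDU hg) (le_refl (j ⁻¹ᵁ D))
    rw [rs_self] at h1
    exact h1
  · refine eq_zero_of_forall_φ hI (o.comp h f hf) htf (n + 1) t fun a ha => ?_
    obtain ⟨c, hc⟩ := (hgen D hDU).2 _ (hopen a ha)
    rw [← o.sharp_φ hY f hf D V i]
    show rs hY i (shp hY h f D (o.φ h D a)) * t = 0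
    rw [show o.φ h D a = c * rs h hDU g from hc, map_mul, map_mul, mul_assoc, mul_comm _ t, ht, mul_zero]
  · obtain ⟨W, e, hzW, hW⟩ := (FBlow.IdealSh.mem_gen_iff _ V s).1 hs z hz
    refine ⟨W, e, hzW, ?_⟩
    refine Ideal.mem_span_singleton'.1 (Ideal.span_le.2 ?_ hW) |>.imp fun t ht => ht.symm
    rintro _ ⟨W₁, j₁, _, ⟨W₂, j₂, a, ha, rfl⟩, rfl⟩
    show rs hY j₁ (rs hY j₂ (shp hY h f W₂ a)) ∈ Ideal.span _
    have hle2 : W ≤ j ⁻¹ᵁ (W₂ ⊓ D) := fun w hw => ⟨(j₁.trans j₂) hw, (e.trans i) hw⟩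
    obtain ⟨c, hc⟩ := (hgen (W₂ ⊓ D) (inf_le_right.trans hDU)).2 _ (J.map_mem (inf_le_left : W₂ ⊓ D ≤ W₂) ha)
    have e1 : rs hY j₁ (rs hY j₂ (shp hY h f W₂ a)) = rs hY hle2 (shp hY h f (W₂ ⊓ D) (rs h inf_le_left a)) := by
      rw [rs_shp, rs_rs, rs_rs]
    rw [e1, show rs h (inf_le_left : W₂ ⊓ D ≤ W₂) a = c * rs h (inf_le_right.trans hDU) g from hc,
      map_mul, map_mul]
    refine Ideal.mem_span_singleton'.2 ⟨rs hY hle2 (shp hY h f (W₂ ⊓ D) c), ?_⟩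
    simp only [rs_shp]
    exact congrArg _ ((rs_rs _ _ _).trans (rs_rs _ _ _).symm)

end Groth.FBlowLib
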