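import Groth.Agent.FBlowLib.Mul
import Groth.Agent.FBlowLib.BlowOver

/-!
# Open formal subsystems of admissible formal schemes
-/

set_option autoImplicit false
set_option backward.isDefEq.respectTransparency false
set_option backward.isDefEq.respectTransparency.types false

universe u

open CategoryTheory CategoryTheory.Limits AlgebraicGeometry TopologicalSpace Opposite

namespace Groth.FBlowLib

variable {𝔛 𝔜 : FSch.Sys.{u}} {h : 𝔛.IsFormal} {hY : 𝔜.IsFormal}

/-- No torsion on open formal subsystems. -/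
theorem eq_zero_openImmersion (f : 𝔜 ⟶ 𝔛) (hf : ∀ n, IsOpenImmersion ((f : FSch.Hom 𝔜 𝔛).app n))
    (htf : ∀ (U : (𝔛.X 0).Opens) (s : (𝔛.Osh h).obj.obj (Opposite.op U)),
      (∀ a ∈ (FBlow.IdealSh.ker (𝔛.OshProj h 0)).sect U, a * s = 0) → s = 0)
    (U : (𝔜.X 0).Opens) (s : Sec hY U)
    (hs : ∀ a ∈ (FBlow.IdealSh.ker (𝔜.OshProj hY 0)).sect U, a * s = 0) : s = 0 := by
  have := hf 0
  set j := (f : FSch.Hom 𝔜 𝔛).app 0
  suffices key : ∀ V : (𝔜.X 0).Opens, V = j ⁻¹ᵁ (j ''ᵁ U) → ∀ s : Sec hY V,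
      (∀ a ∈ (FBlow.IdealSh.ker (𝔜.OshProj hY 0)).sect V, a * s = 0) → s = 0 from
    key U (j.preimage_image_eq U).symm s hs
  rintro _ rfl s hs
  have hrange : ((j ''ᵁ U : (𝔛.X 0).Opens) : Set (𝔛.X 0)) ⊆ Set.range j.base := Set.image_subset_range _ _
  have hb := bijective_shp_of_isOpenImmersion (h := h) (hY := hY) f hf hrange
  obtain ⟨t, rfl⟩ := hb.2 s
  rw [htf _ t fun a ha => hb.1 ?_, map_zero]
  rw [map_zero, map_mul]
  refine hs _ ?_
  show prj hY 0 _ (shp hY h f _ a) = 0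
  rw [prj_shp, show prj h 0 _ a = 0 from ha, map_zero]

end Groth.FBlowLib
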