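import Groth.Agent.FBlowLib.Level
import Groth.Agent.FBlowLib.Mul

/-!
# Products of coherent open ideals along a locally finite family
-/

set_option autoImplicit false
set_option backward.isDefEq.respectTransparency false
set_option backward.isDefEq.respectTransparency.types false

universe u

open CategoryTheory CategoryTheory.Limits AlgebraicGeometry TopologicalSpace Opposite

namespace Groth.FBlowLib

variable {A : Type u} [CommRing A] {K : Ideal A} {𝔛 : FSch.Sys.{u}} {h : 𝔛.IsFormal}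

/-- Membership in an open ideal on an affine open is local. -/
theorem mem_map_of_local {U : (𝔛.X 0).Opens} (hU : IsAffineOpen U) (N : ℕ) (𝔠 : Ideal (Sec h U))
    (hker : RingHom.ker (prj h N U) ≤ 𝔠) (s : Sec h U)
    (hs : ∀ x ∈ U, ∃ (V : (𝔛.X 0).Opens) (e : V ≤ U), x ∈ V ∧ IsAffineOpen V ∧ rs h e s ∈ 𝔠.map (rs h e)) :
    s ∈ 𝔠 := by
  refine mem_of_comap_map (prj_surjective hU N) _ hker ?_
  have hloc : ∀ x ∈ U, ∃ (g : LSec h N U) (k : ℕ), g ^ k * prj h N U s ∈ 𝔠.map (prj h N U) ∧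
      (𝔛.toX N).base x ∈ (𝔛.X N).basicOpen g := by
    intro x hx
    obtain ⟨V, e, hxV, hV, hsV⟩ := hs x hx
    have hx0 : x ∈ 𝔛.lvU h 0 U := by
      rw [show 𝔛.lvU h 0 U = U from Groth.AdicLinTop.FormalLevels.toX_preimage_lvU h 0 U]; exact hx
    obtain ⟨g₀, hgV, hxg⟩ :=
      (Groth.AdicLinTop.FormalLevels.isAffineOpen_lvU h hU 0).exists_basicOpen_le (V := V) ⟨x, hxV⟩ hx0
    obtain ⟨g, rfl⟩ := prj_surjective hU 0 g₀
    have hDU : (𝔛.X 0).basicOpen (prj h 0 U g) ≤ U := hgV.trans e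
    have hmem : lrs h N hDU (prj h N U s) ∈ (𝔠.map (prj h N U)).map (lrs h N hDU) := by
      have h1 := Ideal.mem_map_of_mem (prj h N _) (Ideal.mem_map_of_mem (rs h hgV) hsV)
      rw [Ideal.map_map, Ideal.map_map, RingHom.comp_assoc, rs_comp, rs_rs, prj_rs,
        show (prj h N ((𝔛.X 0).basicOpen (prj h 0 U g))).comp (rs h hDU) = (lrs h N hDU).comp (prj h N U) from
          RingHom.ext fun a => prj_rs N hDU a, ← Ideal.map_map] at h1
      exact h1
    obtain ⟨k, hk⟩ := exists_pow_mul_mem (lrs h N hDU) (prj h N U g) _ _ hmem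
      (hloc := (Groth.AdicLinTop.FormalLevels.isAffineOpen_lvU h hU N).isLocalization_of_eq_basicOpen _
        (homOfLE (FBlow.lvU_mono 𝔛 h N hDU)) (lvU_eq_basicOpen g rfl N))
    refine ⟨prj h N U g, k, hk, ?_⟩
    rw [← lvU_eq_basicOpen g rfl N]
    show (𝔛.gInv h N).hom ((𝔛.toX N).base x) ∈ (𝔛.X 0).basicOpen (prj h 0 U g)
    rw [show (𝔛.gInv h N).hom ((𝔛.toX N).base x) = x from congr($(𝔛.toX_base_gInv h N) x)]
    exact hxg
  choose g k hgk hxg using hloc
  have hUN := Groth.AdicLinTop.FormalLevels.isAffineOpen_lvU h hU N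
  let G : Set (LSec h N U) := {c | ∃ (x : 𝔛.X 0) (hx : x ∈ U), c = g x hx}
  have htop : Ideal.span G = ⊤ := by
    refine hUN.self_le_iSup_basicOpen_iff.1 fun y hy => ?_
    obtain ⟨x, rfl⟩ := 𝔛.toX_surjective h N y
    have hxU : x ∈ U := by
      have h1 : (𝔛.gInv h N).hom ((𝔛.toX N).base x) ∈ U := hy
      rwa [show (𝔛.gInv h N).hom ((𝔛.toX N).base x) = x from congr($(𝔛.toX_base_gInv h N) x)] at h1
    exact Opens.mem_iSup.mpr ⟨⟨g x hxU, x, hxU, rfl⟩, hxg x hxU⟩
  let C : Ideal (LSec h N U) := (𝔠.map (prj h N U)).colon {prj h N U s}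
  have hC : Ideal.span G ≤ C.radical := Ideal.span_le.2 fun c ⟨x, hx, hc⟩ => ⟨k x hx, hc ▸ by
    rw [Submodule.mem_colon_singleton]; exact hgk x hx⟩
  rw [htop, top_le_iff, Ideal.radical_eq_top, Ideal.eq_top_iff_one] at hC
  simpa [C, Submodule.mem_colon_singleton] using hC

/-- An open ideal which is of finite type at a uniform level is coherent open. -/
theorem isCohOpen_of_small {J : FBlow.IdealSh (𝔛.Osh h)} {n : ℕ}
    (hsmall : ∀ (x : 𝔛.X 0), ∃ (U : (𝔛.X 0).Opens) (𝔞 : Ideal (Sec h U)), IsAffineOpen U ∧ x ∈ U ∧ 𝔞.FG ∧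
      ∀ (D : (𝔛.X 0).Opens) (e : D ≤ U), IsAffineOpen D →
        J.sect D = 𝔞.map (rs h e) ∧ RingHom.ker (prj h n D) ≤ J.sect D) :
    FBlow.IsCohOpen 𝔛 h J :=
  fun _ => ⟨⊤, trivial, n, levelData hsmall, idealFT_levelData hsmall,
    fun V _ => sect_eq_ofLevel_levelData hsmall V⟩

theorem ker_prj_le_ofLevel (n : ℕ) (𝒜 : (𝔛.X n).IdealSheafData) (D : (𝔛.X 0).Opens) :
    RingHom.ker (prj h n D) ≤ (FBlow.ofLevel 𝔛 h n 𝒜).sect D := fun s hs => by
  rw [FBlow.mem_ofLevel_iff]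
  show FBlow.MemData 𝒜 _ (prj h n D s)
  rw [RingHom.mem_ker.1 hs]
  exact FBlow.memData_zero _ _

variable {ι : Type u} (V : ι → (𝔛.X 0).Opens) (F : ι → FBlow.IdealSh (𝔛.Osh h))

/-- The product of a locally finite family of ideal sheaves which are trivial off the members. -/
noncomputable def famProd (T : Set ι) : FBlow.IdealSh (𝔛.Osh h) :=
  FBlow.IdealSh.gen fun W => {t | ∃ S : Finset ι, ↑S ⊆ T ∧ (∀ j ∈ T, j ∉ S → V j ⊓ W = ⊥) ∧
    ∃ a : ι → Sec h W, (∀ j ∈ S, a j ∈ (F j).sect W) ∧ t = ∏ j ∈ S, a j}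

variable {V F}

theorem famProd_mem {T : Set ι} {W : (𝔛.X 0).Opens} {S : Finset ι} (hST : ↑S ⊆ T)
    (hS : ∀ j ∈ T, j ∉ S → V j ⊓ W = ⊥) (a : ι → Sec h W) (ha : ∀ j ∈ S, a j ∈ (F j).sect W) :
    ∏ j ∈ S, a j ∈ (famProd V F T).sect W :=
  FBlow.IdealSh.subset_gen _ W ⟨S, hST, hS, a, ha, rfl⟩

theorem inf_eq_bot_mono {P Q R : (𝔛.X 0).Opens} (hRQ : R ≤ Q) (h0 : P ⊓ Q = ⊥) : P ⊓ R = ⊥ :=
  le_bot_iff.1 (le_trans (inf_le_inf_left P hRQ) h0.le)

/-- The factor of one index splits off. -/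
theorem famProd_eq_mul (hF : ∀ j W, V j ⊓ W = ⊥ → (F j).sect W = ⊤) {T : Set ι} {i : ι} (hi : i ∈ T) :
    famProd V F T = FBlow.IdealSh.mul (F i) (famProd V F (T \ {i})) := by
  classical
  refine idealSh_eq_of_le (FBlow.IdealSh.gen_le ?_) (FBlow.IdealSh.gen_le ?_)
  · rintro W _ ⟨S, hST, hS, a, ha, rfl⟩
    by_cases hiS : i ∈ S
    · rw [← Finset.mul_prod_erase S a hiS]
      refine mem_mul (ha i hiS) (famProd_mem (T := T \ {i}) (fun j hj => ⟨hST (Finset.mem_of_mem_erase hj), by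
        simpa using Finset.ne_of_mem_erase hj⟩) (fun j hj hjS => hS j hj.1 fun hjS' => hjS
          (Finset.mem_erase.2 ⟨fun he => hj.2 (by simp [he]), hjS'⟩)) a fun j hj => ha j (Finset.mem_of_mem_erase hj))
    · rw [← one_mul (∏ j ∈ S, a j)]
      refine mem_mul (by rw [hF i W (hS i hi hiS)]; trivial) (famProd_mem (T := T \ {i}) (fun j hj => ⟨hST hj, fun he => hiS (by
        simp only [Set.mem_singleton_iff] at he; exact he ▸ hj)⟩) (fun j hj hjS => hS j hj.1 hjS) a ha)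
  · rintro W _ ⟨c, hc, b, hb, rfl⟩
    refine (famProd V F T).mem_of_local fun x hx => ?_
    obtain ⟨W', e, hxW, hW'⟩ := (FBlow.IdealSh.mem_gen_iff _ W b).1 hb x hx
    refine ⟨W', e, hxW, ?_⟩
    show rs h e (c * b) ∈ _
    rw [map_mul]
    refine Submodule.span_induction (p := fun z _ => rs h e c * z ∈ (famProd V F T).sect W') ?_ (by simp)
      (fun z z' _ _ h1 h2 => by rw [mul_add]; exact Ideal.add_mem _ h1 h2)
      (fun r z _ h1 => by rw [smul_eq_mul, mul_left_comm]; exact Ideal.mul_mem_left _ _ h1) hW'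
    rintro _ ⟨W₁, j₁, _, ⟨S, hST, hS, a, ha, rfl⟩, rfl⟩
    have hiS : i ∉ S := fun hh => (hST hh).2 rfl
    let a' : ι → Sec h W' := fun j => if j = i then rs h e c else rs h j₁ (a j)
    have hmem : ∏ j ∈ insert i S, a' j ∈ (famProd V F T).sect W' := by
      refine famProd_mem (fun j hj => ?_) (fun j hj hjS => ?_) a' fun j hj => ?_
      · rcases Finset.mem_insert.1 hj with rfl | hj
        · exact hi
        · exact (hST hj).1
      · rw [Finset.mem_insert, not_or] at hjS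
        exact inf_eq_bot_mono j₁ (hS j ⟨hj, by simpa using hjS.1⟩ hjS.2)
      · rcases Finset.mem_insert.1 hj with rfl | hj'
        · simp only [a', if_pos]; exact (F _).map_mem e hc
        · simp only [a', if_neg (fun he => hiS (he ▸ hj') : ¬j = i)]; exact (F _).map_mem j₁ (ha j hj')
    rw [Finset.prod_insert hiS] at hmem
    change rs h e c * rs h j₁ (∏ j ∈ S, a j) ∈ _
    rw [map_prod]
    convert hmem using 2
    · simp [a']
    · exact Finset.prod_congr rfl fun j hj => (if_neg fun he : j = i => hiS (he ▸ hj)).symm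

/-- Members which are empty over an open do not contribute there. -/
theorem famProd_sect_eq {T T' : Set ι} (hTT : T' ⊆ T) {O : (𝔛.X 0).Opens}
    (hd : ∀ j ∈ T, j ∉ T' → V j ⊓ O = ⊥) (W : (𝔛.X 0).Opens) (hW : W ≤ O) :
    (famProd V F T).sect W = (famProd V F T').sect W := by
  classical
  refine le_antisymm (fun s hs => ?_) fun s hs => ?_
  · refine (famProd V F T').mem_of_local fun x hx => ?_
    obtain ⟨W', e, hxW, hW'⟩ := (FBlow.IdealSh.mem_gen_iff _ W s).1 hs x hx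
    refine ⟨W', e, hxW, Ideal.span_le.2 ?_ hW'⟩
    rintro _ ⟨W₁, j₁, _, ⟨S, hST, hS, a, ha, rfl⟩, rfl⟩
    show rs h j₁ (∏ j ∈ S, a j) ∈ (famProd V F T').sect W'
    rw [map_prod, ← Finset.prod_filter_mul_prod_filter_not S (· ∈ T')]
    refine Ideal.mul_mem_right _ _ (famProd_mem (fun j hj => (Finset.mem_filter.1 hj).2) (fun j hj hjS => ?_) _
      fun j hj => (F j).map_mem j₁ (ha j (Finset.mem_filter.1 hj).1))
    exact inf_eq_bot_mono j₁ (hS j (hTT hj) fun hh => hjS (Finset.mem_filter.2 ⟨hh, hj⟩))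
  · refine (famProd V F T).mem_of_local fun x hx => ?_
    obtain ⟨W', e, hxW, hW'⟩ := (FBlow.IdealSh.mem_gen_iff _ W s).1 hs x hx
    refine ⟨W', e, hxW, Ideal.span_le.2 ?_ hW'⟩
    rintro _ ⟨W₁, j₁, _, ⟨S, hST, hS, a, ha, rfl⟩, rfl⟩
    show rs h j₁ (∏ j ∈ S, a j) ∈ (famProd V F T).sect W'
    rw [map_prod]
    refine famProd_mem (hST.trans hTT) (fun j hj hjS => ?_) _ fun j hj => (F j).map_mem j₁ (ha j hj)
    by_cases hj' : j ∈ T'
    · exact inf_eq_bot_mono j₁ (hS j hj' hjS)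
    · exact inf_eq_bot_mono (e.trans hW) (hd j hj hj')

theorem prod_le_of_forall {B : Type*} [CommSemiring B] (S : Finset ι) (I : ι → Ideal B) (L : Ideal B)
    (hL : ∀ a : ι → B, (∀ j ∈ S, a j ∈ I j) → ∏ j ∈ S, a j ∈ L) : ∏ j ∈ S, I j ≤ L := by
  classical
  induction S using Finset.induction_on generalizing L with
  | empty => intro x _; simpa using L.mul_mem_left x (show (1 : B) ∈ L by simpa using hL (fun _ => 1) (by simp))
  | @insert i S hi ih =>
    rw [Finset.prod_insert hi, Ideal.mul_le]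
    intro r hr
    have := ih (L.colon {r}) fun a ha => by
      rw [Submodule.mem_colon_singleton]
      have h1 := hL (fun j => if j = i then r else a j) fun j hj => by
        rcases Finset.mem_insert.1 hj with rfl | hj'
        · simpa using hr
        · rw [if_neg (fun he : j = i => hi (he ▸ hj'))]; exact ha j hj'
      rw [Finset.prod_insert hi, if_pos rfl,
        Finset.prod_congr rfl fun j hj => if_neg (fun he : j = i => hi (he ▸ hj))] at h1
      rwa [smul_eq_mul, mul_comm]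
    intro s hs
    have h2 := Submodule.mem_colon_singleton.1 (this hs)
    rwa [smul_eq_mul, mul_comm] at h2

theorem map_prod_ideal {B C : Type*} [CommSemiring B] [CommSemiring C] (f : B →+* C) (S : Finset ι)
    (I : ι → Ideal B) : (∏ j ∈ S, I j).map f = ∏ j ∈ S, (I j).map f := by
  classical
  induction S using Finset.induction_on with
  | empty => simp [Ideal.map_top, Ideal.one_eq_top]
  | @insert i S hi ih => rw [Finset.prod_insert hi, Finset.prod_insert hi, Ideal.map_mul, ih]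

theorem fg_prod {B : Type*} [CommSemiring B] (S : Finset ι) (I : ι → Ideal B) (hI : ∀ j ∈ S, (I j).FG) :
    (∏ j ∈ S, I j).FG := by
  classical
  induction S using Finset.induction_on with
  | empty => rw [Finset.prod_empty, Ideal.one_eq_top]; exact ⟨{1}, by simp⟩
  | @insert i S hi ih =>
    rw [Finset.prod_insert hi]
    exact Submodule.FG.mul (hI i (Finset.mem_insert_self i S)) (ih fun j hj => hI j (Finset.mem_insert_of_mem hj))

/-- A finite product of ideals of finite type at a level is coherent open. -/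
theorem isCohOpen_famProd (o : Over 𝔛 K) (hK : K.FG) (hF : ∀ j W, V j ⊓ W = ⊥ → (F j).sect W = ⊤)
    (T : Finset ι) (n : ι → ℕ) (𝒜 : ∀ j, (𝔛.X (n j)).IdealSheafData) (h𝒜 : ∀ j, FSch.IdealFT (𝒜 j))
    (hFA : ∀ j, F j = FBlow.ofLevel 𝔛 h (n j) (𝒜 j)) :
    FBlow.IsCohOpen 𝔛 h (famProd V F T) := by
  classical
  set N := ∑ j ∈ T, (n j + 1)
  refine isCohOpen_of_small (n := N) fun x => ?_
  choose U hU m 𝔞 hxU hUO hfg hpow hFU using fun j => exists_affine_centre o hK
    (J := F j) (x := x) (O := ⊤) (fun y => ⟨⊤, trivial, n j, 𝒜 j, h𝒜 j, fun _ _ => by rw [hFA j]⟩) trivial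
  obtain ⟨_, ⟨D, hD, rfl⟩, hxD, hle⟩ := (𝔛.X 0).isBasis_affineOpens.exists_subset_of_mem_open
    (show x ∈ T.inf U from by
      induction T using Finset.induction_on with
      | empty => simp
      | @insert i S _ ih => rw [Finset.inf_insert]; exact ⟨hxU i, ih⟩) (T.inf U).isOpen
  have hDU : ∀ j ∈ T, D ≤ U j := fun j hj => le_trans (fun z hz => hle hz) (Finset.inf_le hj)
  let 𝔟 : ι → Ideal (Sec h D) := fun j => if hj : j ∈ T then (𝔞 j).map (rs h (hDU j hj)) else ⊤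
  refine ⟨D, ∏ j ∈ T, 𝔟 j, hD, hxD, fg_prod T 𝔟 fun j hj => by
    simp only [𝔟, dif_pos hj]; exact (hfg j).map _, fun D' e hD' => ?_⟩
  have hsect : ∀ (D'' : (𝔛.X 0).Opens) (e'' : D'' ≤ D), IsAffineOpen D'' → ∀ j ∈ T,
      (F j).sect D'' = (𝔟 j).map (rs h e'') := fun D'' e'' hD'' j hj => by
    simp only [𝔟, dif_pos hj]
    rw [Ideal.map_map, rs_comp, hFU j D'' (e''.trans (hDU j hj)) hD'']
  have hprod : ∀ (D'' : (𝔛.X 0).Opens) (e'' : D'' ≤ D), IsAffineOpen D'' →
      (∏ j ∈ T, 𝔟 j).map (rs h e'') = ∏ j ∈ T, (F j).sect D'' := fun D'' e'' hD'' => by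
    rw [map_prod_ideal]
    exact Finset.prod_congr rfl fun j hj => (hsect D'' e'' hD'' j hj).symm
  have hker : RingHom.ker (prj h N D') ≤ (∏ j ∈ T, 𝔟 j).map (rs h e) := by
    rw [hprod D' e hD', o.ker_prj hK hD']
    refine le_trans (Ideal.map_mono (Ideal.pow_le_pow_right (Nat.le_succ N))) ?_
    rw [← Finset.prod_pow_eq_pow_sum, map_prod_ideal]
    refine Finset.prod_le_prod' fun j _ => ?_
    rw [← o.ker_prj hK hD', hFA j]
    exact ker_prj_le_ofLevel _ _ _
  have hge : (∏ j ∈ T, 𝔟 j).map (rs h e) ≤ (famProd V F T).sect D' := by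
    rw [hprod D' e hD']
    exact prod_le_of_forall T _ _ fun a ha => famProd_mem subset_rfl (fun j hj hjS => absurd hj hjS) a ha
  refine ⟨le_antisymm (fun s hs => ?_) hge, hker.trans hge⟩
  refine mem_map_of_local hD' N _ hker s fun y hy => ?_
  obtain ⟨W, i, hyW, hW⟩ := (FBlow.IdealSh.mem_gen_iff _ D' s).1 hs y hy
  obtain ⟨_, ⟨D'', hD'', rfl⟩, hyD, hle'⟩ := (𝔛.X 0).isBasis_affineOpens.exists_subset_of_mem_open hyW W.isOpen
  have hDW : D'' ≤ W := hle'
  refine ⟨D'', hDW.trans i, hyD, hD'', ?_⟩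
  rw [Ideal.map_map, rs_comp, hprod D'' ((hDW.trans i).trans e) hD'']
  have h1 := FBlow.IdealSh.map_span_seed hDW hW
  rw [FBlow.IdealSh.map_comp_apply] at h1
  refine Ideal.span_le.2 ?_ h1
  rintro _ ⟨W₁, j₁, _, ⟨S, hST, hS, a, ha, rfl⟩, rfl⟩
  show rs h j₁ (∏ j ∈ S, a j) ∈ _
  rw [map_prod]
  let a' : ι → Sec h D'' := fun j => if j ∈ S then rs h j₁ (a j) else 1
  have h2 : ∏ j ∈ S, rs h j₁ (a j) = ∏ j ∈ T, a' j := by
    rw [← Finset.prod_subset (Finset.coe_subset.1 hST) (fun j _ hj => if_neg hj)]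
    exact Finset.prod_congr rfl fun j hj => (if_pos hj).symm
  rw [h2]
  refine Ideal.prod_mem_prod fun j hj => ?_
  by_cases hjS : j ∈ S
  · simp only [a', if_pos hjS]; exact (F j).map_mem j₁ (ha j hjS)
  · simp only [a', if_neg hjS, hF j D'' (inf_eq_bot_mono j₁ (hS j hj hjS))]; trivial

end Groth.FBlowLib
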