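import Groth.Agent.AdicLinTop.FormalLevels
import Groth.Prelude.Def_FBlow

/-!
# Sections of the structure sheaf of a formal system
-/

set_option autoImplicit false
set_option backward.isDefEq.respectTransparency false
set_option backward.isDefEq.respectTransparency.types false

universe u

open CategoryTheory CategoryTheory.Limits AlgebraicGeometry TopologicalSpace Opposite

namespace Groth.FBlowLib

variable {𝔛 : FSch.Sys.{u}} {h : 𝔛.IsFormal}

variable (h) in
/-- The sections of the structure sheaf over an open of the common space. -/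
abbrev Sec (U : (𝔛.X 0).Opens) : Type u := (𝔛.Osh h).obj.obj (op U)

variable (h) in
/-- The sections of a level over an open of the common space. -/
abbrev LSec (n : ℕ) (U : (𝔛.X 0).Opens) : Type u := Γ(𝔛.X n, 𝔛.lvU h n U)

variable (h) in
/-- The projection to a level. -/
noncomputable def prj (n : ℕ) (U : (𝔛.X 0).Opens) : Sec h U →+* LSec h n U :=
  ((𝔛.OshProj h n).hom.app (op U)).hom

variable (h) in
/-- Restriction of sections. -/
noncomputable def rs {U V : (𝔛.X 0).Opens} (e : V ≤ U) : Sec h U →+* Sec h V :=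
  ((𝔛.Osh h).obj.map (homOfLE e).op).hom

variable (h) in
/-- Restriction of sections of a level. -/
noncomputable def lrs (n : ℕ) {U V : (𝔛.X 0).Opens} (e : V ≤ U) : LSec h n U →+* LSec h n V :=
  ((𝔛.X n).presheaf.map (homOfLE (FBlow.lvU_mono 𝔛 h n e)).op).hom

variable (h) in
/-- The transition map on sections. -/
noncomputable def trs (n : ℕ) (U : (𝔛.X 0).Opens) : LSec h (n + 1) U →+* LSec h n U :=
  ((𝔛.ι n).appLE (𝔛.lvU h (n + 1) U) (𝔛.lvU h n U) (𝔛.lvU_le h n U)).hom

@[simp] theorem trs_prj (n : ℕ) (U : (𝔛.X 0).Opens) (a : Sec h U) :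
    trs h n U (prj h (n + 1) U a) = prj h n U a :=
  Groth.AdicLinTop.FormalLevels.OshProj_levelMap_apply h U n a

theorem prj_rs (n : ℕ) {U V : (𝔛.X 0).Opens} (e : V ≤ U) (a : Sec h U) :
    prj h n V (rs h e a) = lrs h n e (prj h n U a) :=
  NatTrans.naturality_apply (𝔛.OshProj h n).hom (homOfLE e).op a

theorem rs_rs {U V W : (𝔛.X 0).Opens} (e : V ≤ U) (e' : W ≤ V) (a : Sec h U) :
    rs h e' (rs h e a) = rs h (e'.trans e) a :=
  FBlow.IdealSh.map_comp_apply e e' a

theorem rs_self {U : (𝔛.X 0).Opens} (e : U ≤ U) (a : Sec h U) : rs h e a = a :=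
  FBlow.IdealSh.map_id_apply e a

/-- Sections are determined by their projections. -/
theorem sec_ext {U : (𝔛.X 0).Opens} {a b : Sec h U} (hab : ∀ n, prj h n U a = prj h n U b) : a = b := by
  refine sub_eq_zero.1 (Groth.AdicLinTop.FormalLevels.sec_eq_zero h fun n => ?_)
  show prj h n U (a - b) = 0
  rw [map_sub, sub_eq_zero]
  exact hab n

/-- Compatible families are sections. -/
theorem exists_sec {U : (𝔛.X 0).Opens} (y : ∀ n, LSec h n U) (hy : ∀ n, trs h n U (y (n + 1)) = y n) :
    ∃ a : Sec h U, ∀ n, prj h n U a = y n :=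
  (Groth.AdicLinTop.FormalLevels.exists_unique_sec 𝔛 h U y hy).exists

/-- Sections are determined locally. -/
theorem sec_ext_local {U : (𝔛.X 0).Opens} {a b : Sec h U}
    (hab : ∀ x ∈ U, ∃ (V : (𝔛.X 0).Opens) (e : V ≤ U), x ∈ V ∧ rs h e a = rs h e b) : a = b := by
  choose V e hxV hV using hab
  exact TopCat.Sheaf.eq_of_locally_eq' (𝔛.Osh h) (fun x : U => V x.1 x.2) U (fun x => homOfLE (e x.1 x.2))
    (fun x hx => Opens.mem_iSup.mpr ⟨⟨x, hx⟩, hxV x hx⟩) a b fun x => hV x.1 x.2

/-- Gluing of sections. -/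
theorem exists_sec_glue {U : (𝔛.X 0).Opens} {ι : Type u} (V : ι → (𝔛.X 0).Opens) (e : ∀ i, V i ≤ U)
    (hcov : ∀ x ∈ U, ∃ i, x ∈ V i) (t : ∀ i, Sec h (V i))
    (ht : ∀ i j, rs h (inf_le_left : V i ⊓ V j ≤ V i) (t i) = rs h (inf_le_right : V i ⊓ V j ≤ V j) (t j)) :
    ∃ a : Sec h U, ∀ i, rs h (e i) a = t i := by
  obtain ⟨a, ha, -⟩ := TopCat.Sheaf.existsUnique_gluing' (𝔛.Osh h) V U (fun i => homOfLE (e i))
    (fun x hx => Opens.mem_iSup.mpr (hcov x hx)) t (fun i j => ht i j)
  exact ⟨a, ha⟩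

/-- The projections to the levels are surjective over affine opens. -/
theorem prj_surjective {U : (𝔛.X 0).Opens} (hU : IsAffineOpen U) (n : ℕ) : Function.Surjective (prj h n U) := by
  intro x
  obtain ⟨y, hy, hyn⟩ := Groth.AdicLinTop.InvLim.exists_compat n (fun k => LSec h k U) (fun k => trs h k U)
    (fun k => Groth.AdicLinTop.FormalLevels.levelMap_surjective h hU k) x
  obtain ⟨l, hl⟩ := exists_sec y hy
  exact ⟨l, by rw [hl, hyn]⟩

end Groth.FBlowLib
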